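import Cfsg.Agent.MinNonCA27.Defs
import Cfsg.Agent.Lib.LinearGroup.Card
import Cfsg.Agent.H40.FactorTwo.MaxTwoPart
import Cfsg.Agent.MaxNorm91.Radical
import Cfsg.Agent.LocalEven61.PSLSylow

/-!
# S4369: assembly from the pieces
-/

set_option autoImplicit false
set_option linter.style.haveILetI false

namespace Cfsg.Agent.MinNonCA27

open Subgroup

universe u

namespace AssembleAux

variable {G : Type u} [Group G]

theorem isCA_sub (h : IsCA G) (H : Subgroup G) : IsCA H := by
  intro x hx
  have hxG : (x : G) ∉ center G := fun hz => hx (mem_center_iff.2 fun y =>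
    Subtype.ext (mem_center_iff.1 hz y))
  have hc := h _ hxG
  refine ⟨⟨fun a b => Subtype.ext (Subtype.ext ?_)⟩⟩
  have key : ∀ z : centralizer ({x} : Set H), ((z : H) : G) ∈ centralizer ({(x : G)} : Set G) :=
    fun z => mem_centralizer_singleton_iff.2
      (congrArg Subtype.val (mem_centralizer_singleton_iff.1 z.2))
  exact congrArg (fun z : centralizer ({(x : G)} : Set G) => (z : G))
    (hc.is_comm.comm ⟨_, key a⟩ ⟨_, key b⟩)

theorem properCA_sub (h : ProperCA G) {K : Subgroup G} (hK : K ≠ ⊤) : ProperCA K :=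
  fun H _ => isCA_sub (h K hK) H

/-- Radical-central passes to normal subgroups. -/
theorem radCentral_sub [Finite G] (hR : RadCentral G) {K : Subgroup G} [hKn : K.Normal] :
    RadCentral K := by
  intro N hN hNs
  obtain ⟨R, hRn, hRs, hmax⟩ := MaxNorm91.exists_maximal_solvable K
  haveI : R.Characteristic := characteristic_iff_map_le.2 fun φ =>
    hmax _ (hRn.map _ φ.surjective) (MaxNorm91.solvable_map _ hRs)
  have h1 := hR (R.map K.subtype) inferInstance (MaxNorm91.solvable_map _ hRs)
  intro n hn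
  exact mem_center_iff.2 fun y => Subtype.ext
    (mem_center_iff.1 (h1 (mem_map_of_mem K.subtype (hmax N hN hNs hn))) y)

theorem card_psl_nine {F : Type} [Field F] [Fintype F] (h9 : Fintype.card F = 9) :
    Nat.card (Matrix.ProjectiveSpecialLinearGroup (Fin 2) F) = 360 := by
  have h := LinearGroup.gcd_mul_card_PSL_two (F := F)
  rw [Nat.card_eq_fintype_card (α := F), h9] at h
  norm_num at h
  omega

theorem center_eq_bot_of_psl (h : Hyp G) {F : Type} [Field F] [Fintype F]
    (h5 : 5 ≤ Fintype.card F)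
    (hiso : Nonempty (G ≃* Matrix.ProjectiveSpecialLinearGroup (Fin 2) F)) : center G = ⊥ := by
  obtain ⟨e⟩ := hiso
  haveI := h.nontrivial
  haveI := LocalEven61.psl_simple (F := F) (by omega)
  haveI : IsSimpleGroup G := e.isSimpleGroup
  refine (IsSimpleGroup.eq_bot_or_eq_top_of_normal (center G) inferInstance).resolve_right
    fun ht => ?_
  have h1 : commutator G = ⊥ := (commutator_eq_bot_iff_center_eq_top G).2 ht
  exact bot_ne_top (h1.symm.trans h.perfect)

end AssembleAux

open AssembleAux in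
/-- Facts on a perfect group with central radical. -/
theorem quasi (hShape : ShapeStmt.{u}) (hAb : IdentAbStmt.{u})
    (hDih : IdentDihStmt.{u}) (hNine : NineStmt.{u}) (hCover : CoverStmt.{u})
    {K : Type u} [Group K] [Finite K] (h : Hyp K) :
    (IsCA K ∨ ∃ (E : Type) (_ : Field E) (_ : Fintype E), Odd (Fintype.card E) ∧
        5 ≤ Fintype.card E ∧ Nonempty (K ≃* Matrix.ProjectiveSpecialLinearGroup (Fin 2) E)) ∧
      (∀ p : ℕ, p.Prime → p ≠ 2 → p ∣ Nat.card (center K) → Nat.card (K ⧸ center K) = 360) ∧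
      (2 ∣ Nat.card (center K) → NoInvolution K) := by
  classical
  haveI := Fact.mk Nat.prime_two
  obtain ⟨S⟩ : Nonempty (Sylow 2 K) := inferInstance
  by_cases hS : IsMulCommutative (S : Subgroup K) ∨ ElemBar (S : Subgroup K)
  · obtain ⟨F, _, _, hq, hiso⟩ := hAb K h S hS
    have hq4 : 4 ≤ Fintype.card F ∧ Fintype.card F ≠ 9 := by
      rcases hq with ⟨h8, h5⟩ | ⟨n, hn, hc⟩
      · exact ⟨by omega, by omega⟩
      · have h4 : 2 ^ 2 ≤ 2 ^ n := Nat.pow_le_pow_right (by norm_num) hn
        refine ⟨by omega, fun e => ?_⟩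
        have : 2 ∣ 9 := e ▸ hc ▸ dvd_pow_self 2 (by omega)
        omega
    obtain ⟨h1, h2, h3⟩ := hCover K h F hq4.1 hq4.2 hiso
    exact ⟨h1, fun p hp hp2 hd => absurd hd (h2 p hp hp2), h3⟩
  · rw [not_or] at hS
    obtain ⟨-, hE | ⟨T, c, u, hD⟩⟩ := hShape K h S hS.1
    · exact absurd hE hS.2
    obtain ⟨F, _, _, hodd, h5, hiso⟩ := hDih K h S T c u hD
    obtain ⟨hno, hca⟩ := hNine K h S T c u hD
    by_cases h9 : Fintype.card F = 9
    · refine ⟨Or.inl (hca F h9 hiso), fun _ _ _ _ => ?_, fun _ => hno⟩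
      obtain ⟨e⟩ := hiso
      rw [Nat.card_congr e.toEquiv]
      exact card_psl_nine h9
    · obtain ⟨h1, h2, h3⟩ := hCover K h F (by omega) h9 hiso
      exact ⟨h1, fun p hp hp2 hd => absurd hd (h2 p hp hp2), h3⟩

open AssembleAux in
/-- Non-solvable minimal non-CA groups are the listed `PSL2(q)`. -/
theorem forward (hRad : RadicalStmt.{u}) (hShape : ShapeStmt.{u}) (hSimple : SimpleStmt.{u})
    (hAb : IdentAbStmt.{u}) (hDih : IdentDihStmt.{u}) (hNine : NineStmt.{u})
    (hCover : CoverStmt.{u}) (hOuter : OuterStmt.{u}) (hExt : ExtractStmt.{u})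
    {G : Type u} [Group G] [Finite G] (hns : ¬ Group.IsSolvable G) (hnca : ¬ IsCA G)
    (hp : ProperCA G) :
    ∃ (F : Type) (_ : Field F) (_ : Fintype F),
      Nonempty (G ≃* Matrix.ProjectiveSpecialLinearGroup (Fin 2) F) ∧ Good (Fintype.card F) := by
  classical
  haveI := Fact.mk Nat.prime_two
  obtain ⟨hNC, hR⟩ := hRad G hns hp
  have hR := hR hnca
  obtain ⟨n, hn⟩ := H40.FactorTwo.exists_perfect_core G
  set K := derivedSeries G n with hKdef
  haveI hKn : K.Normal := derivedSeries_normal G n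
  have hperf : ⁅K, K⁆ = K := le_antisymm (commutator_le_self _) (hn (n + 1))
  have hKns : ¬ Group.IsSolvable K := fun hs => hns ((isSolvable_def G).2 <| by
    obtain ⟨m, hm⟩ := (isSolvable_def K).1 hs
    refine ⟨n, ?_⟩
    have key : ∀ j, derivedSeries K j = ⊤ := by
      intro j
      induction j with
      | zero => rfl
      | succ j ih =>
        rw [derivedSeries_succ, ih]
        exact map_injective K.subtype_injective (by rw [map_commutator, ← MonoidHom.range_eq_map, range_subtype, hperf])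
    rw [key] at hm
    rw [eq_bot_iff]
    intro x hx
    have : (⟨x, hx⟩ : K) ∈ (⊥ : Subgroup K) := hm ▸ mem_top _
    simpa using this)
  by_cases htop : K = ⊤
  · have h : Hyp G := ⟨by rw [commutator_def, ← htop]; exact hperf,
      not_subsingleton_iff_nontrivial.1 fun _ => hns inferInstance, hp, hR⟩
    obtain ⟨h1, -, -⟩ := quasi hShape hAb hDih hNine hCover h
    obtain ⟨E, _, _, hodd, h5, hiso⟩ := h1.resolve_left hnca
    refine ⟨E, inferInstance, inferInstance, hiso, hExt G E hodd h5 hiso hp hnca fun S => ?_⟩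
    by_contra hS
    have hZ : center G = ⊥ := center_eq_bot_of_psl h h5 hiso
    obtain ⟨hz, -⟩ := hShape G h S hS
    haveI : Nontrivial (S : Subgroup G) := not_subsingleton_iff_nontrivial.1 fun _ =>
      hS ⟨⟨fun a b => Subsingleton.elim _ _⟩⟩
    haveI := S.2.center_nontrivial
    obtain ⟨⟨⟨z, hzS⟩, hzc⟩, hz1⟩ := exists_ne (1 : center (S : Subgroup G))
    have hzZ := hz z hzS fun s hs =>
      (congrArg Subtype.val (mem_center_iff.1 hzc ⟨s, hs⟩)).symm
    rw [hZ, mem_bot] at hzZ
    exact hz1 (Subtype.ext (Subtype.ext hzZ))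
  · have hKperf : commutator K = ⊤ := map_injective K.subtype_injective
      (by rw [commutator_def, map_commutator, ← MonoidHom.range_eq_map, range_subtype, hperf])
    have h : Hyp K := ⟨hKperf, not_subsingleton_iff_nontrivial.1 fun _ => hKns inferInstance,
      properCA_sub hp htop, radCentral_sub hR⟩
    obtain ⟨-, h2, h3⟩ := quasi hShape hAb hDih hNine hCover h
    exact absurd (hOuter G hp hR hNC K hKn htop hKns (hSimple K h) hKperf h2 h3) hnca

end Cfsg.Agent.MinNonCA27
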