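import Cfsg.Agent.MinNonCA27.Defs
import Cfsg.Agent.S0215
import Cfsg.Agent.PF14.Compose

/-!
# S4369: involutions of `K ⧸ Z` central in a Sylow 2-subgroup have solvable centralisers
-/

set_option autoImplicit false

namespace Cfsg.Agent.MinNonCA27

open Subgroup

universe u

namespace CentAux

variable {K : Type u} [Group K]

/-- The centraliser, in a proper subgroup, of an element not central in it is abelian. -/
theorem comm_of_proper (h : ProperCA K) {H : Subgroup K} (hH : H ≠ ⊤) {x : K} (hx : x ∈ H)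
    (hnc : ∃ y ∈ H, y * x ≠ x * y) {a b : K} (ha : a ∈ H) (hb : b ∈ H) (hax : a * x = x * a)
    (hbx : b * x = x * b) : a * b = b * a := by
  obtain ⟨y, hy, hne⟩ := hnc
  have h1 := h H hH ⟨x, hx⟩ fun hc =>
    hne (congrArg Subtype.val (Subgroup.mem_center_iff.mp hc ⟨y, hy⟩))
  have h2 := h1.is_comm.comm ⟨⟨a, ha⟩, mem_centralizer_singleton_iff.mpr (Subtype.ext hax)⟩
    ⟨⟨b, hb⟩, mem_centralizer_singleton_iff.mpr (Subtype.ext hbx)⟩
  exact congrArg Subtype.val (congrArg Subtype.val h2)

theorem mem_preC_iff {t x : K} : x ∈ preC t ↔ x * t * x⁻¹ * t⁻¹ ∈ center K := by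
  simp only [preC, mem_comap, mem_centralizer_singleton_iff, QuotientGroup.mk'_apply]
  rw [← QuotientGroup.eq_one_iff]
  simp only [QuotientGroup.mk_mul, QuotientGroup.mk_inv]
  rw [mul_inv_eq_one, mul_inv_eq_iff_eq_mul]

/-- In a perfect group an element with all commutators central is central. -/
theorem mem_center_of_comm (hperf : commutator K = ⊤) {t : K}
    (h : ∀ k : K, k * t * k⁻¹ * t⁻¹ ∈ center K) : t ∈ center K := by
  let f : K →* center K := MonoidHom.mk' (fun k => ⟨k * t * k⁻¹ * t⁻¹, h k⟩) fun a b =>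
    Subtype.ext (by
      show a * b * t * (a * b)⁻¹ * t⁻¹ = (a * t * a⁻¹ * t⁻¹) * (b * t * b⁻¹ * t⁻¹)
      have hb : a * (b * t * b⁻¹ * t⁻¹) = (b * t * b⁻¹ * t⁻¹) * a := mem_center_iff.mp (h b) a
      have hb' : (a * t * a⁻¹ * t⁻¹) * (b * t * b⁻¹ * t⁻¹) =
          (b * t * b⁻¹ * t⁻¹) * (a * t * a⁻¹ * t⁻¹) := mem_center_iff.mp (h b) _
      rw [hb']
      calc a * b * t * (a * b)⁻¹ * t⁻¹ = a * (b * t * b⁻¹ * t⁻¹) * t * a⁻¹ * t⁻¹ := by group
        _ = _ := by rw [hb]; group)
  have hf : commutator K ≤ f.ker := by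
    rw [commutator_def, commutator_le]
    intro a _ b _
    rw [MonoidHom.mem_ker, map_commutatorElement, commutatorElement_eq_one_iff_mul_comm]
    exact Subtype.ext (mem_center_iff.mp (f b).2 (f a))
  rw [mem_center_iff]
  intro g
  have hg : f g = 1 := MonoidHom.mem_ker.mp (hf (hperf ▸ mem_top g))
  have h1 : g * t * g⁻¹ * t⁻¹ = 1 := congrArg Subtype.val hg
  rw [mul_inv_eq_one] at h1
  calc g * t = g * t * g⁻¹ * g := by group
    _ = t * g := by rw [h1]

/-- `preC t` is solvable once `C(t)` is. -/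
theorem solvable_preC {t : K} (h : Group.IsSolvable (centralizer ({t} : Set K))) :
    Group.IsSolvable (preC t) := by
  haveI := h
  let f : preC t →* center K :=
    MonoidHom.mk' (fun k => ⟨(k : K) * t * (k : K)⁻¹ * t⁻¹, mem_preC_iff.mp k.2⟩) fun a b =>
    Subtype.ext (by
      show ((a : K) * b) * t * ((a : K) * b)⁻¹ * t⁻¹ =
        ((a : K) * t * (a : K)⁻¹ * t⁻¹) * ((b : K) * t * (b : K)⁻¹ * t⁻¹)
      have hb := mem_center_iff.mp (mem_preC_iff.mp b.2)
      rw [hb ((a : K) * t * (a : K)⁻¹ * t⁻¹)]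
      calc (a : K) * b * t * ((a : K) * b)⁻¹ * t⁻¹ =
            (a : K) * ((b : K) * t * (b : K)⁻¹ * t⁻¹) * t * (a : K)⁻¹ * t⁻¹ := by group
        _ = _ := by rw [hb (a : K)]; group)
  haveI : Group.IsSolvable (center K) :=
    Group.isSolvable_of_comm fun a b => Subtype.ext (mem_center_iff.mp b.2 a)
  have hle : centralizer ({t} : Set K) ≤ preC t := fun x hx => by
    rw [mem_preC_iff, mem_centralizer_singleton_iff.mp hx]
    simp
  refine Group.isSolvable_of_ker_le_range (Subgroup.inclusion hle) f fun x hx => ?_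
  have h1 : (x : K) * t * (x : K)⁻¹ * t⁻¹ = 1 := congrArg Subtype.val (MonoidHom.mem_ker.mp hx)
  rw [mul_inv_eq_one, mul_inv_eq_iff_eq_mul] at h1
  exact ⟨⟨x, mem_centralizer_singleton_iff.mpr h1⟩, Subtype.ext rfl⟩

/-- In a perfect group a central element of an abelian Sylow subgroup is trivial. -/
theorem eq_one_of_center [Finite K] (hperf : commutator K = ⊤) {p : ℕ} [Fact p.Prime]
    (S : Sylow p K) (hS : IsMulCommutative (S : Subgroup K)) {z : K} (hz : z ∈ center K)
    (hzS : z ∈ (S : Subgroup K)) : z = 1 := by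
  haveI := hS
  letI : CommGroup (S : Subgroup K) :=
    { (inferInstance : Group (S : Subgroup K)) with mul_comm := fun a b => hS.is_comm.comm a b }
  let tr : K →* (S : Subgroup K) := MonoidHom.transfer (MonoidHom.id (S : Subgroup K))
  have hker : tr z = 1 :=
    MonoidHom.mem_ker.mp (Abelianization.commutator_subset_ker tr (hperf ▸ mem_top z))
  have key : ∀ (k : ℕ) (g₀ : K), g₀⁻¹ * z ^ k * g₀ ∈ (S : Subgroup K) → g₀⁻¹ * z ^ k * g₀ = z ^ k :=
    fun k g₀ _ => by
      rw [mul_assoc, ← mem_center_iff.mp (pow_mem hz k) g₀, inv_mul_cancel_left]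
  have h2 := (MonoidHom.transfer_eq_pow (MonoidHom.id (S : Subgroup K)) z key).symm.trans hker
  have h1 : z ^ (S : Subgroup K).index = 1 := congrArg Subtype.val h2
  obtain ⟨j, hj⟩ := S.isPGroup' ⟨z, hzS⟩
  have hzp : z ^ p ^ j = 1 := by simpa using congrArg Subtype.val hj
  have hcop : Nat.Coprime (p ^ j) (S : Subgroup K).index :=
    Nat.Coprime.pow_left j (((Fact.out : p.Prime).coprime_iff_not_dvd).mpr S.not_dvd_index)
  have := pow_gcd_eq_one.mpr ⟨hzp, h1⟩
  rwa [Nat.coprime_iff_gcd_eq_one.mp hcop, pow_one] at this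

end CentAux

open CentAux in
theorem cent (hShape : ShapeStmt.{u}) : CentStmt.{u} := by
  intro K _ _ hK S t htS htZ ht2 htc
  refine solvable_preC ?_
  have hD : preC t ≠ ⊤ := fun h =>
    htZ (mem_center_of_comm hK.perfect fun k => mem_preC_iff.mp (h ▸ mem_top k))
  have hCD : ∀ c : K, c * t = t * c → c ∈ preC t := fun c hc => by
    rw [mem_preC_iff, hc]; simp
  have hCt : ∀ c ∈ centralizer ({t} : Set K), c * t = t * c :=
    fun c hc => mem_centralizer_singleton_iff.mp hc
  have hSD : ∀ s ∈ (S : Subgroup K), s ∈ preC t := fun s hs => by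
    rw [mem_preC_iff]
    have := inv_mem (htc s hs)
    simpa [mul_assoc] using this
  by_cases hcase : ∃ y ∈ preC t, y * t ≠ t * y
  · exact Group.isSolvable_of_comm fun a b => Subtype.ext
      (comm_of_proper hK.proper hD (hCD t rfl) hcase (hCD a (hCt a a.2)) (hCD b (hCt b b.2))
        (hCt a a.2) (hCt b b.2))
  push Not at hcase
  -- now `t` is central in `preC t`, so `S` centralises `t` and is abelian
  have hSab : IsMulCommutative (S : Subgroup K) := by
    by_contra hna
    exact htZ ((hShape K hK S hna).1 t htS fun s hs => (hcase s (hSD s hs)).symm)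
  haveI := hSab
  have hne : normalizer ((S : Subgroup K) : Set K) ≠ ⊤ := fun h => by
    haveI : (S : Subgroup K).Normal := normalizer_eq_top_iff.mp h
    exact htZ (hK.rad _ inferInstance
      (Group.isSolvable_of_comm fun a b => hSab.is_comm.comm a b) htS)
  by_cases hH : ∃ y ∈ normalizer ((S : Subgroup K) : Set K), y * t ≠ t * y
  · -- Burnside's transfer theorem in `C(t)`
    set C := centralizer ({t} : Set K) with hC
    have hSC : (S : Subgroup K) ≤ C := fun s hs =>
      mem_centralizer_singleton_iff.mpr (hcase s (hSD s hs))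
    let P : Sylow 2 C := S.subtype hSC
    have hmem : ∀ c : C, c ∈ (P : Subgroup C) ↔ (c : K) ∈ (S : Subgroup K) := fun c => Iff.rfl
    have hP : normalizer ((P : Subgroup C) : Set C) ≤ centralizer ((P : Subgroup C) : Set C) := by
      intro n hn
      rw [mem_centralizer_iff]
      intro m hm
      have hnS : (n : K) ∈ normalizer ((S : Subgroup K) : Set K) := by
        rw [mem_normalizer_iff]
        intro s
        constructor
        · intro hs
          have := (mem_normalizer_iff.mp hn ⟨s, hSC hs⟩).mp ((hmem _).mpr hs)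
          exact (hmem _).mp this
        · intro hs
          have hsC : s ∈ C := by
            have := mul_mem (mul_mem (inv_mem n.2) (hSC hs)) n.2
            simpa [mul_assoc] using this
          exact (hmem _).mp ((mem_normalizer_iff.mp hn ⟨s, hsC⟩).mpr ((hmem _).mpr hs))
      exact Subtype.ext (comm_of_proper hK.proper hne (le_normalizer htS) hH
        (le_normalizer ((hmem m).mp hm)) hnS (hCt m m.2) (hCt n n.2))
    set f := MonoidHom.transferSylow P hP
    haveI : Group.IsSolvable f.ker := by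
      exact PF14.feitThompson _
        (Nat.odd_iff.mpr (Nat.two_dvd_ne_zero.mp (MonoidHom.not_dvd_card_ker_transferSylow P hP)))
    haveI : Group.IsSolvable (P : Subgroup C) :=
      Group.isSolvable_of_comm fun a b => Subtype.ext (Subtype.ext (by
        have := congrArg Subtype.val (hSab.is_comm.comm
          (⟨_, (hmem _).mp a.2⟩ : (S : Subgroup K)) ⟨_, (hmem _).mp b.2⟩)
        simpa using this))
    exact Group.isSolvable_of_ker_le_range f.ker.subtype f (by rw [Subgroup.range_subtype])
  -- `t` is central in `N(S)`, hence isolated in `S`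
  push Not at hH
  exfalso
  have ht1 : t ≠ 1 := fun h => htZ (h ▸ one_mem _)
  have htt : t ^ 2 = 1 := by
    rw [pow_two]
    exact eq_one_of_center hK.perfect S hSab ht2 (mul_mem htS htS)
  have hord : orderOf t = 2 := orderOf_eq_prime htt ht1
  obtain ⟨N, hN, hNo, hNt⟩ := Cfsg.Agent.S0215.result S t hord htS fun g hg => by
    obtain ⟨n, hn, he⟩ := Sylow.conj_eq_normalizer_conj_of_mem S t g⁻¹ htS (by simpa using hg)
    rw [inv_inv] at he
    rw [he, mul_assoc, ← hH n hn, inv_mul_cancel_left]
  have hNZ : N ≤ center K := hK.rad N hN (PF14.feitThompson _ hNo)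
  refine htZ (mem_center_of_comm hK.perfect fun k => hNZ ?_)
  have := inv_mem (hNt k)
  simpa [mul_assoc] using this

end Cfsg.Agent.MinNonCA27
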