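import Cfsg.Agent.MinNonCA27.Defs
import Cfsg.Agent.GW66.PSLTori
import Mathlib.LinearAlgebra.Projectivization.PSL.PSL2

/-!
# S4369: the groups `PSL(2, q)` of the statement are minimal non-CA groups
-/

set_option autoImplicit false
set_option linter.unusedSectionVars false
set_option linter.style.haveILetI false

namespace Cfsg.Agent.MinNonCA27.Converse

open Subgroup MulAction OnePoint
open Cfsg.Agent.Dickson
open scoped commutatorElement

attribute [local instance] Cfsg.Agent.PLocalB.lineAction pslLine pslBar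

variable {F : Type} [Field F] [Fintype F]

theorem pow_mod {j : ℕ} : 3 ^ (2 * j + 1) % 8 = 3 ∧ 5 ^ (2 * j + 1) % 8 = 5 ∧ 5 ^ (2 * j + 1) % 3 = 2 := by
  refine ⟨?_, ?_, ?_⟩ <;>
    (rw [pow_succ, pow_mul, Nat.mul_mod, Nat.pow_mod]; simp)

theorem good_facts {q : ℕ} (h : Good q) : (q % 8 = 3 ∨ q % 8 = 5) ∧ 11 ≤ q := by
  rcases h with ⟨hp, h5, h16⟩ | ⟨p, hp, hp2, hq⟩
  · have hodd : q % 2 = 1 := (hp.eq_two_or_odd).resolve_left (by omega)
    have hmod : q % 8 = 3 ∨ q % 8 = 5 := by
      by_contra hcon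
      apply h16
      obtain ⟨b, hb, hr⟩ : ∃ b, b = q / 16 ∧ (q = 16 * b + 1 ∨ q = 16 * b + 7 ∨ q = 16 * b + 9 ∨ q = 16 * b + 15) :=
        ⟨_, rfl, by omega⟩
      rcases hr with e | e | e | e <;> subst e
      · exact ⟨16 * b ^ 2 + 2 * b, Nat.sub_eq_of_eq_add (by ring)⟩
      · exact ⟨16 * b ^ 2 + 14 * b + 3, Nat.sub_eq_of_eq_add (by ring)⟩
      · exact ⟨16 * b ^ 2 + 18 * b + 5, Nat.sub_eq_of_eq_add (by ring)⟩
      · exact ⟨16 * b ^ 2 + 30 * b + 14, Nat.sub_eq_of_eq_add (by ring)⟩
    omega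
  · obtain ⟨j, rfl⟩ := hp.odd_of_ne_two hp2
    have h3 : 3 ≤ 2 * j + 1 := by have := hp.two_le; omega
    obtain ⟨a, b, -⟩ := pow_mod (j := j)
    rcases hq with rfl | rfl
    · exact ⟨Or.inl a, le_trans (by norm_num) (Nat.pow_le_pow_right (by norm_num) h3)⟩
    · exact ⟨Or.inr b, le_trans (by norm_num) (Nat.pow_le_pow_right (by norm_num) h3)⟩

/-- The rotations commute. -/
theorem dihedral_comm {n : ℕ} {x y z : DihedralGroup n} (hx : x * x ≠ 1) (hy : x * y = y * x)
    (hz : x * z = z * x) : y * z = z * y := by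
  rcases x with i | i
  swap
  · exact absurd (DihedralGroup.sr_mul_self i) hx
  have key : ∀ u : DihedralGroup n, DihedralGroup.r i * u = u * DihedralGroup.r i →
      ∃ j, u = DihedralGroup.r j := by
    intro u hu
    rcases u with j | j
    · exact ⟨j, rfl⟩
    · exfalso
      rw [DihedralGroup.r_mul_sr, DihedralGroup.sr_mul_r, DihedralGroup.sr.injEq] at hu
      apply hx
      rw [DihedralGroup.r_mul_r, DihedralGroup.one_def, DihedralGroup.r.injEq]
      linear_combination -hu
  obtain ⟨j, rfl⟩ := key y hy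
  obtain ⟨k, rfl⟩ := key z hz
  rw [DihedralGroup.r_mul_r, DihedralGroup.r_mul_r, add_comm]

/-- An element that is not an involution has an abelian centraliser. -/
theorem comm_of_comm {x : PSL2 F} (x1 : x ≠ 1) (x2 : orderOf x ≠ 2) {g h : PSL2 F}
    (hg : g * x = x * g) (hh : h * x = x * h) : g * h = h * g := by
  obtain ⟨p, hp⟩ := CharP.exists F
  obtain ⟨f, hpp, -⟩ := FiniteField.card F p
  haveI := Fact.mk hpp
  by_cases hcop : Nat.Coprime (orderOf x) p
  · obtain ⟨N, n, hN, hxN, -, hnorm, -⟩ := torus_of p x1 hcop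
    obtain ⟨-, ⟨e⟩, -, -⟩ := hN
    have hmem : ∀ u : PSL2 F, u * x = x * u → u ∈ N := fun u hu => hnorm u (by
      rw [hu, mul_inv_cancel_right]
      exact mem_zpowers x)
    have := dihedral_comm (x := e ⟨x, hxN⟩) (y := e ⟨g, hmem g hg⟩) (z := e ⟨h, hmem h hh⟩)
      (fun hxx => x2 (orderOf_eq_prime (by
        rw [← map_mul] at hxx
        rw [pow_two]
        exact congrArg Subtype.val (e.injective (hxx.trans (map_one e).symm))) x1))
      (by rw [← map_mul, ← map_mul]; exact congrArg e (Subtype.ext hg.symm))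
      (by rw [← map_mul, ← map_mul]; exact congrArg e (Subtype.ext hh.symm))
    rw [← map_mul, ← map_mul] at this
    exact congrArg Subtype.val (e.injective this)
  · have hdvd : p ∣ orderOf x := by
      by_contra hc
      exact hcop (Nat.coprime_comm.mp (hpp.coprime_iff_not_dvd.mpr hc))
    set u := x ^ (orderOf x / p) with hu
    have huo : orderOf u = p := orderOf_pow_orderOf_div (orderOf_pos x).ne' hdvd
    have u1 : u ≠ 1 := fun e => by rw [e, orderOf_one] at huo; exact hpp.ne_one huo.symm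
    haveI : CharP (AlgebraicClosure F) p :=
      charP_of_injective_algebraMap (algebraMap F (AlgebraicClosure F)).injective p
    obtain ⟨w, hw⟩ := exists_isUni_of_pow_char p
      (x := extend (algebraMap F (AlgebraicClosure F)) u)
      (by rw [← map_pow, ← huo, pow_orderOf_eq_one, map_one])
    have hwu : IsUni w u := (isUni_bar_iff w u).mpr hw
    have key : ∀ c : PSL2 F, c * x = x * c → IsUni w c := fun c hc => by
      have hcu : c * u = u * c := ((show Commute c x from hc).pow_right _).eq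
      refine uni_of_comm sharp_bar ((hwu.resolve_left u1 _).mp ?_) hwu u1 hcu
      rw [← mul_smul, ← hcu, mul_smul, hwu.smul_eq]
    exact sharp_bar.uni_comm w g h (key g hg) (key h hh)

/-- The centraliser of an involution: its order, and an element not commuting in it. -/
theorem invol_facts (hF : Fintype.card F % 8 = 3 ∨ Fintype.card F % 8 = 5) :
    ∃ (V : Subgroup (PSL2 F)) (z s r : PSL2 F), IsKleinFour V ∧ orderOf z = 2 ∧ orderOf s = 2 ∧
      s ≠ z ∧ (11 ≤ Fintype.card F → s * z = z * s ∧ r * z = z * r ∧ s * r ≠ r * s) := by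
  have h2 := GW66.PSL.two_ne_zero' hF
  obtain ⟨z, N, n, e, hn2, hne, hz, hC, hzn⟩ := exists_centralizer_dihedral h2
  haveI : NeZero n := ⟨by omega⟩
  set s : PSL2 F := ((e.symm (DihedralGroup.sr 0) : N) : PSL2 F) with hs
  have hso : orderOf s = 2 := by
    rw [hs, Subgroup.orderOf_coe, MulEquiv.orderOf_eq, DihedralGroup.orderOf_sr]
  have hsN : s ∈ centralizer ({z} : Set (PSL2 F)) := by rw [hC]; exact SetLike.coe_mem _
  have hsz : s ≠ z := fun h => by
    rw [hs, ← hzn] at h
    cases e.symm.injective (Subtype.ext h)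
  have hsz' : s * z = z * s := mem_centralizer_singleton_iff.mp hsN
  have sq : ∀ {g : PSL2 F}, orderOf g = 2 → g * g = 1 := fun {g} hg => by
    have := pow_orderOf_eq_one g; rwa [hg, pow_two] at this
  have ne1 : ∀ {g : PSL2 F}, orderOf g = 2 → g ≠ 1 := fun {g} hg e' => by
    rw [e', orderOf_one] at hg; omega
  refine ⟨fourGroup z s (sq hz) (sq hso) hsz'.symm, z, s, ((e.symm (DihedralGroup.r 1) : N) : PSL2 F),
    isKleinFour_fourGroup _ _ _ (ne1 hz) (ne1 hso) hsz.symm, hz, hso, hsz,
    fun h11 => ⟨hsz', mem_centralizer_singleton_iff.mp (by rw [hC]; exact SetLike.coe_mem _), fun hc => ?_⟩⟩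
  rw [hs, ← Subgroup.coe_mul, ← Subgroup.coe_mul, ← map_mul, ← map_mul] at hc
  have h := e.symm.injective (Subtype.ext hc)
  rw [DihedralGroup.r_mul_sr, DihedralGroup.sr_mul_r, DihedralGroup.sr.injEq] at h
  have h2' : ((2 : ℕ) : ZMod n) = 0 := by push_cast; linear_combination h
  have hdvd := Nat.le_of_dvd two_pos ((ZMod.natCast_eq_zero_iff 2 n).mp h2')
  -- the order of the centraliser
  obtain ⟨T, -, hTk, hcard, -⟩ := GW66.PSL.torus hF
    (isKleinFour_fourGroup (sq hz) (sq hso) hsz'.symm (ne1 hz) (ne1 hso) hsz.symm) hz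
  rw [hC, Nat.card_congr e.toEquiv, DihedralGroup.nat_card, hTk] at hcard
  obtain ⟨-, hk⟩ := GW66.PSL.half_spec hF
  omega

/-- An involution of a proper subgroup with non-abelian centraliser there is central. -/
theorem proper_key (hgood : Good (Fintype.card F)) {H : Subgroup (PSL2 F)} (hH : H ≠ ⊤) {x g h : PSL2 F}
    (hxH : x ∈ H) (hgH : g ∈ H) (hhH : h ∈ H) (hx : orderOf x = 2) (hgx : g * x = x * g)
    (hhx : h * x = x * h) (hne : g * h ≠ h * g) : ∀ c ∈ H, c * x = x * c := by
  obtain ⟨hF, h11⟩ := good_facts hgood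
  obtain ⟨V, -, -, -, hV, -⟩ := invol_facts hF
  obtain ⟨T, hTc, hTk, hC, hT⟩ := GW66.PSL.torus hF hV hx
  obtain ⟨p, hp⟩ := CharP.exists F
  obtain ⟨f, hpp, -⟩ := FiniteField.card F p
  haveI := Fact.mk hpp
  -- an element of odd order of `H` centralising `x`
  set D := H ⊓ centralizer ({x} : Set (PSL2 F)) with hD
  have hgD : g ∈ D := ⟨hgH, mem_centralizer_singleton_iff.mpr hgx⟩
  have hhD : h ∈ D := ⟨hhH, mem_centralizer_singleton_iff.mpr hhx⟩
  have hDd : Nat.card D ∣ 4 * GW66.PSL.half (Fintype.card F) := hTk ▸ hC ▸ card_dvd_of_le inf_le_right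
  obtain ⟨r, hr, hr2, hrD⟩ : ∃ r, r.Prime ∧ r ≠ 2 ∧ r ∣ Nat.card D := by
    by_contra hcon
    push Not at hcon
    have h4 : Nat.card D ∣ 4 := by
      refine (Nat.Coprime.dvd_of_dvd_mul_right (Nat.coprime_of_dvd fun r hr hrD hrk => ?_) hDd)
      by_cases hr2 : r = 2
      · subst hr2
        obtain ⟨l, hl⟩ := (GW66.PSL.half_spec hF).1
        omega
      · exact hcon r hr hr2 hrD
    apply hne
    haveI : Fact (Nat.Prime 2) := ⟨Nat.prime_two⟩
    have h4' := Nat.le_of_dvd (by norm_num) h4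
    have hD0 : Nat.card D ≠ 0 := Nat.card_pos.ne'
    have : Nat.card D = 1 ∨ Nat.card D = 2 ∨ Nat.card D = 4 := by
      interval_cases hc : Nat.card D <;> omega
    have hcomm : ∀ a b : D, a * b = b * a := by
      rcases this with e | e | e
      · intro a b
        haveI := (Nat.card_eq_one_iff_unique.mp e).1
        exact Subsingleton.elim _ _
      · intro a b
        haveI : IsCyclic D := isCyclic_of_prime_card e
        exact IsCyclic.commGroup.mul_comm a b
      · intro a b
        exact (IsPGroup.commGroupOfCardEqPrimeSq (p := 2) (G := D) (e.trans (by norm_num))).mul_comm a b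
    exact congrArg Subtype.val (hcomm ⟨g, hgD⟩ ⟨h, hhD⟩)
  haveI := Fact.mk hr
  obtain ⟨⟨y, hyD⟩, hy'⟩ := exists_prime_orderOf_dvd_card' (G := D) r hrD
  rw [Subgroup.orderOf_mk] at hy'
  have hyo : Odd (orderOf y) := hy' ▸ hr.odd_of_ne_two hr2
  have hyx : y * x = x * y := mem_centralizer_singleton_iff.mp hyD.2
  have hr3 : 3 ≤ r := by have := hr.two_le; omega
  have hord : orderOf (x * y) = 2 * r := by
    rw [(show Commute x y from hyx.symm).orderOf_mul_eq_mul_orderOf_of_coprime, hx, hy']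
    rw [hx, hy']
    exact (Nat.coprime_primes Nat.prime_two hr).mpr (Ne.symm hr2)
  have hxyH : x * y ∈ H := mul_mem hxH hyD.1
  rcases subgroup_cases p H with ⟨w, hw⟩ | ⟨N, n, hN, hle⟩ | hA | hS | hA5 | ⟨T', hT'⟩
  · exfalso
    obtain ⟨u, hu⟩ := exists_smul_infty w
    obtain ⟨φ, hφ⟩ := exists_lam (k := F)
    have hmem : ∀ c ∈ H, u * c * u⁻¹ ∈ stabilizer (PSL2 F) (∞ : OnePoint F) := by
      intro c hc
      rw [mem_stabilizer_iff, ← hu, mul_smul, mul_smul, inv_smul_smul, mem_stabilizer_iff.mp (hw hc)]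
    set A : stabilizer (PSL2 F) (∞ : OnePoint F) := ⟨_, hmem g hgH⟩
    set B : stabilizer (PSL2 F) (∞ : OnePoint F) := ⟨_, hmem h hhH⟩
    have hone : φ ⁅A, B⁆ = 1 := by
      rw [map_commutatorElement, commutatorElement_eq_one_iff_mul_comm, mul_comm]
    have hval : ((⁅A, B⁆ : stabilizer (PSL2 F) (∞ : OnePoint F)) : PSL2 F) = u * ⁅g, h⁆ * u⁻¹ := by
      simp only [commutatorElement_def, Subgroup.coe_mul, Subgroup.coe_inv, A, B]
      group
    have huni := (hφ ⁅A, B⁆).mp hone
    rw [hval, ← hu, isUni_conj_iff] at huni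
    have hc1 : ⁅g, h⁆ ≠ 1 := fun e => hne (commutatorElement_eq_one_iff_mul_comm.mp e)
    have hbar : IsUni (pointMap (algebraMap F (AlgebraicClosure F)) w) ⁅g, h⁆ := by
      rw [isUni_bar_iff, isUni_extend_iff]
      exact huni
    have hcx : x * ⁅g, h⁆ = ⁅g, h⁆ * x := by
      have hg' : Commute x g := hgx.symm
      have hh' : Commute x h := hhx.symm
      exact (((hg'.mul_right hh').mul_right hg'.inv_right).mul_right hh'.inv_right).eq
    have hxu := uni_of_comm sharp_bar
      (by rw [bar_smul, mem_stabilizer_iff.mp (hw hxH)]) hbar hc1 hcx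
    have hxp := orderOf_dvd_of_pow_eq_one (isUni_bar_pow p hxu)
    rw [hx] at hxp
    exact GW66.PSL.char_odd hF p ((Nat.prime_dvd_prime_iff_eq Nat.prime_two hpp).mp hxp).symm
  · intro c hc
    obtain ⟨-, ⟨e⟩, -, -⟩ := hN
    obtain ⟨i, hi⟩ := GW66.PSL.dihedral_rot (y := e ⟨y, hle hyD.1⟩)
      (by rw [MulEquiv.orderOf_eq, Subgroup.orderOf_mk]; exact hyo)
    have hxy : e ⟨x, hle hxH⟩ * DihedralGroup.r i = DihedralGroup.r i * e ⟨x, hle hxH⟩ := by
      rw [← hi, ← map_mul, ← map_mul]
      exact congrArg e (Subtype.ext hyx.symm)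
    have hy1 : (DihedralGroup.r i : DihedralGroup n) * DihedralGroup.r i ≠ 1 := fun e' => by
      have h1 := orderOf_dvd_of_pow_eq_one ((pow_two _).trans e')
      rw [← hi, MulEquiv.orderOf_eq, Subgroup.orderOf_mk, hy'] at h1
      exact hr2 ((Nat.prime_dvd_prime_iff_eq hr Nat.prime_two).mp h1)
    have hxr : ∃ k, e ⟨x, hle hxH⟩ = DihedralGroup.r k ∧ k + k = 0 := by
      have hxx : e ⟨x, hle hxH⟩ * e ⟨x, hle hxH⟩ = 1 := by
        rw [← map_mul, ← map_one e]
        exact congrArg e (Subtype.ext (show x * x = 1 by have := pow_orderOf_eq_one x; rwa [hx, pow_two] at this))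
      revert hxy hxx
      generalize e ⟨x, hle hxH⟩ = d
      intro hxy hxx
      rcases d with k | k
      · rw [DihedralGroup.r_mul_r, DihedralGroup.one_def, DihedralGroup.r.injEq] at hxx
        exact ⟨k, rfl, hxx⟩
      · exfalso
        rw [DihedralGroup.r_mul_sr, DihedralGroup.sr_mul_r, DihedralGroup.sr.injEq] at hxy
        apply hy1
        rw [DihedralGroup.r_mul_r, DihedralGroup.one_def, DihedralGroup.r.injEq]
        linear_combination hxy
    obtain ⟨k, hk, hkk⟩ := hxr
    have : e (⟨c, hle hc⟩ * ⟨x, hle hxH⟩) = e (⟨x, hle hxH⟩ * ⟨c, hle hc⟩) := by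
      rw [map_mul, map_mul, hk]
      generalize e ⟨c, hle hc⟩ = d
      rcases d with j | j
      · rw [DihedralGroup.r_mul_r, DihedralGroup.r_mul_r, add_comm]
      · rw [DihedralGroup.r_mul_sr, DihedralGroup.sr_mul_r]
        congr 1
        linear_combination hkk
    exact congrArg Subtype.val (e.injective this)
  · exfalso
    rcases orderOf_A4 hA hxyH with hd | hd <;> rw [hord] at hd <;>
      have := Nat.le_of_dvd (by norm_num) hd <;> omega
  · exfalso
    rcases orderOf_S4 hS hxyH with hd | hd <;> rw [hord] at hd <;>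
      have := Nat.le_of_dvd (by norm_num) hd <;> omega
  · exfalso
    rcases orderOf_A5 hA5 hxyH with hd | hd | hd <;> rw [hord] at hd <;>
      have := Nat.le_of_dvd (by norm_num) hd <;> omega
  · exfalso
    obtain ⟨m, hm2, hm, -⟩ := big_proper hT' hH
    have hle := hT'.2.2.2.1 _ hxyH
    rw [hord] at hle
    have h3T := hT'.1
    rcases hgood with ⟨hpr, -, -⟩ | ⟨l, hl, hl2, hq⟩
    · rw [← hm] at hpr
      exact hpr.pow_eq_iff.not.mpr (fun h => by omega) rfl
    · obtain ⟨c, hc, hcq⟩ : ∃ c, (c = 3 ∨ c = 5) ∧ Fintype.card F = c ^ l := by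
        rcases hq with h' | h'
        · exact ⟨3, Or.inl rfl, h'⟩
        · exact ⟨5, Or.inr rfl, h'⟩
      have hcp : c.Prime := by rcases hc with rfl | rfl <;> norm_num
      have hd : Nat.card T' ∣ c ^ l := hcq ▸ hm ▸ dvd_pow_self _ (by omega)
      obtain ⟨j, -, hj⟩ := (Nat.dvd_prime_pow hcp).mp hd
      rw [hj, hcq, ← pow_mul] at hm
      have hjm : j * m = l := Nat.pow_right_injective hcp.two_le hm
      rcases (Nat.dvd_prime hl).mp (Dvd.intro m hjm) with rfl | rfl
      · rw [pow_one] at hj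
        rw [hj] at hle h3T
        rcases hc with rfl | rfl
        · omega
        · have hr3' : r = 3 := by omega
          have hrk : r ∣ GW66.PSL.half (Fintype.card F) := by
            rw [← hTk, ← hy']
            exact Subgroup.orderOf_dvd_natCard T ((hT y).mpr ⟨hyo, hyx⟩)
          obtain ⟨i, rfl⟩ := hl.odd_of_ne_two hl2
          obtain ⟨-, hb, h53⟩ := pow_mod (j := i)
          obtain ⟨⟨t, ht⟩, hk⟩ := GW66.PSL.half_spec hF
          rw [hcq] at hrk hk ht
          obtain ⟨w, hw⟩ := hrk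
          rw [hr3'] at hw
          clear hle h3T hjm hm
          generalize GW66.PSL.half (5 ^ (2 * i + 1)) = K at hw hk ht
          generalize 5 ^ (2 * i + 1) = Q at hb h53 hk
          omega
      · have hpos := hl.pos
        have : j * 2 ≤ j * m := Nat.mul_le_mul_left j hm2
        omega

end Cfsg.Agent.MinNonCA27.Converse

namespace Cfsg.Agent.MinNonCA27

open Subgroup
open Cfsg.Agent.Dickson

universe u

theorem Converse.isCA_of_injective {A B : Type*} [Group A] [Group B] (f : A ≃* B) (h : IsCA B) :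
    IsCA A := by
  intro x hx
  refine ⟨⟨fun a b => Subtype.ext (f.injective ?_)⟩⟩
  have hfx : f x ∉ center B := fun hc => hx (mem_center_iff.mpr fun c => f.injective (by
    rw [map_mul, map_mul]; exact mem_center_iff.mp hc (f c)))
  have hm : ∀ c : centralizer ({x} : Set A), f c ∈ centralizer ({f x} : Set B) := fun c => by
    rw [mem_centralizer_singleton_iff, ← map_mul, ← map_mul, mem_centralizer_singleton_iff.mp c.2]
  rw [Subgroup.coe_mul, Subgroup.coe_mul, map_mul, map_mul]
  exact congrArg Subtype.val ((h (f x) hfx).is_comm.comm ⟨_, hm a⟩ ⟨_, hm b⟩)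

/-- The groups of the statement are minimal non-CA groups. -/
theorem converse : ConverseStmt.{u} := by
  intro G _ _ F _ _ hgood he
  obtain ⟨e⟩ := he
  obtain ⟨hF, h11⟩ := Converse.good_facts hgood
  obtain ⟨V, z, s, r, hV, hz, hs, hsz, hfac⟩ := Converse.invol_facts hF
  obtain ⟨hsz', hrz, hsr⟩ := hfac h11
  refine ⟨fun hsol => ?_, fun hca => ?_, fun H hH => ?_⟩
  · haveI := hsol
    haveI : IsSimpleGroup (PSL2 F) := Matrix.ProjectiveSpecialLinearGroup.rank_two_simple
      (by rw [Nat.card_eq_fintype_card]; omega)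
    haveI : Group.IsSolvable (PSL2 F) := Group.isSolvable_of_surjective (f := e.toMonoidHom) e.surjective
    exact hsr (IsSimpleGroup.comm_iff_isSolvable.mpr inferInstance s r)
  · have hP : IsCA (PSL2 F) := Converse.isCA_of_injective e.symm hca
    have hzc : z ∉ center (PSL2 F) := fun hc => by
      obtain ⟨c, hc'⟩ := GW66.PSL.conj_invol hF hz hs
      rw [mem_center_iff.mp hc c] at hc'
      exact hsz (by rw [← hc']; group)
    exact hsr (congrArg Subtype.val ((hP z hzc).is_comm.comm
      ⟨s, mem_centralizer_singleton_iff.mpr hsz'⟩ ⟨r, mem_centralizer_singleton_iff.mpr hrz⟩))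
  · have hH' : H.map e.toMonoidHom ≠ ⊤ := fun h => hH (map_injective e.injective
      (h.trans (map_top_of_surjective _ e.surjective).symm))
    refine Converse.isCA_of_injective (H.equivMapOfInjective e.toMonoidHom e.injective) ?_
    rintro ⟨x, hxH⟩ hx
    refine ⟨⟨fun ⟨⟨g, hgH⟩, hg⟩ ⟨⟨h, hhH⟩, hh⟩ => ?_⟩⟩
    have hgx : g * x = x * g := congrArg Subtype.val (mem_centralizer_singleton_iff.mp hg)
    have hhx : h * x = x * h := congrArg Subtype.val (mem_centralizer_singleton_iff.mp hh)
    refine Subtype.ext (Subtype.ext ?_)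
    show g * h = h * g
    have x1 : x ≠ 1 := fun h1 => hx (by subst h1; exact one_mem _)
    by_cases hx2 : orderOf x = 2
    · by_contra hne
      exact hx (mem_center_iff.mpr fun c => Subtype.ext
        (Converse.proper_key hgood hH' hxH hgH hhH hx2 hgx hhx hne c c.2))
    · exact Converse.comm_of_comm x1 hx2 hgx hhx

end Cfsg.Agent.MinNonCA27
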