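import Cfsg.Agent.MinNonCA27.Defs
import Cfsg.Agent.S2117
import Cfsg.Agent.Lib.LinearGroup.Simple
import Cfsg.Agent.Lib.LinearGroup.Card
import Cfsg.Agent.Lib.LinearGroup.SmallPSL
import Cfsg.Agent.Lib.Schur.Perfect

/-!
# S4369: the covers of `PSL(2, q)`
-/

set_option autoImplicit false

namespace Cfsg.Agent.MinNonCA27

open Subgroup
open scoped commutatorElement

universe u v

namespace Cover

local notation "SL2" => Matrix.SpecialLinearGroup (Fin 2)

variable {F : Type v} [Field F]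

theorem entries {A B : SL2 F} (h : A * B = B * A) :
    A 0 1 * B 1 0 = B 0 1 * A 1 0 ∧
      A 0 0 * B 0 1 + A 0 1 * B 1 1 = B 0 0 * A 0 1 + B 0 1 * A 1 1 ∧
      A 1 0 * B 0 0 + A 1 1 * B 1 0 = B 1 0 * A 0 0 + B 1 1 * A 1 0 := by
  have h' := congrArg (fun X : SL2 F => (X : Matrix (Fin 2) (Fin 2) F)) h
  simp only [Matrix.SpecialLinearGroup.coe_mul] at h'
  have h00 := congrFun (congrFun h' 0) 0
  have h01 := congrFun (congrFun h' 0) 1
  have h10 := congrFun (congrFun h' 1) 0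
  simp only [Matrix.mul_apply, Fin.sum_univ_two] at h00 h01 h10
  exact ⟨by linear_combination h00, h01, h10⟩

theorem mem_center_of_scalar {A : SL2 F} (h01 : A 0 1 = 0) (h10 : A 1 0 = 0)
    (hd : A 0 0 = A 1 1) : A ∈ center (SL2 F) := by
  rw [mem_center_iff]
  intro B
  apply Subtype.ext
  ext i j
  simp only [Matrix.SpecialLinearGroup.coe_mul, Matrix.mul_apply, Fin.sum_univ_two]
  fin_cases i <;> fin_cases j <;> simp [h01, h10, hd, mul_comm]

/-- Elements commuting with a non-central element of `SL(2, F)` commute. -/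
theorem commute_of_noncentral {A X Y : SL2 F} (hA : A ∉ center (SL2 F)) (hX : A * X = X * A)
    (hY : A * Y = Y * A) : X * Y = Y * X := by
  obtain ⟨x1, x2, x3⟩ := entries hX
  obtain ⟨y1, y2, y3⟩ := entries hY
  have key : X 0 1 * Y 1 0 = Y 0 1 * X 1 0 ∧
      X 0 1 * (Y 0 0 - Y 1 1) = Y 0 1 * (X 0 0 - X 1 1) ∧
      X 1 0 * (Y 0 0 - Y 1 1) = Y 1 0 * (X 0 0 - X 1 1) := by
    by_cases hb : A 0 1 = 0
    · by_cases hc : A 1 0 = 0
      · have hd : A 0 0 - A 1 1 ≠ 0 := fun hd => hA (mem_center_of_scalar hb hc (sub_eq_zero.1 hd))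
        refine ⟨?_, ?_, ?_⟩ <;> apply mul_left_cancel₀ hd
        · linear_combination Y 1 0 * x2 - X 1 0 * y2 +
            (Y 1 0 * (X 0 0 - X 1 1) - X 1 0 * (Y 0 0 - Y 1 1)) * hb
        · linear_combination (Y 0 0 - Y 1 1) * x2 - (X 0 0 - X 1 1) * y2
        · linear_combination (X 0 0 - X 1 1) * y3 - (Y 0 0 - Y 1 1) * x3
      · refine ⟨?_, ?_, ?_⟩ <;> apply mul_left_cancel₀ hc
        · linear_combination X 1 0 * y1 - Y 1 0 * x1
        · linear_combination (X 0 0 - X 1 1) * y1 - (Y 0 0 - Y 1 1) * x1 +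
            (X 1 0 * (Y 0 0 - Y 1 1) - Y 1 0 * (X 0 0 - X 1 1)) * hb
        · linear_combination X 1 0 * y3 - Y 1 0 * x3
    · have k1 : X 0 1 * Y 1 0 = Y 0 1 * X 1 0 :=
        mul_left_cancel₀ hb (by linear_combination X 0 1 * y1 - Y 0 1 * x1)
      refine ⟨k1, ?_, ?_⟩ <;> apply mul_left_cancel₀ hb
      · linear_combination Y 0 1 * x2 - X 0 1 * y2
      · linear_combination (Y 0 0 - Y 1 1) * x1 - (X 0 0 - X 1 1) * y1 + X 0 1 * y3 -
          Y 0 1 * x3 + (A 0 0 - A 1 1) * k1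
  obtain ⟨k1, k2, k3⟩ := key
  apply Subtype.ext
  ext i j
  simp only [Matrix.SpecialLinearGroup.coe_mul, Matrix.mul_apply, Fin.sum_univ_two]
  fin_cases i <;> fin_cases j <;> simp only [Fin.zero_eta, Fin.mk_one, Fin.isValue]
  · linear_combination k1
  · linear_combination -k2
  · linear_combination k3
  · linear_combination -k1

theorem isCA_SL : IsCA (SL2 F) := fun A hA => ⟨⟨fun X Y => Subtype.ext
  (commute_of_noncentral hA (mem_centralizer_singleton_iff.1 X.2).symm
    (mem_centralizer_singleton_iff.1 Y.2).symm)⟩⟩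

/-- The involutions of `SL(2, F)` are central in odd characteristic. -/
theorem mem_center_of_sq_eq_one (h2 : (2 : F) ≠ 0) {A : SL2 F} (hA : A * A = 1) :
    A ∈ center (SL2 F) := by
  have h' := congrArg (fun X : SL2 F => (X : Matrix (Fin 2) (Fin 2) F)) hA
  simp only [Matrix.SpecialLinearGroup.coe_mul, Matrix.SpecialLinearGroup.coe_one] at h'
  have h00 := congrFun (congrFun h' 0) 0
  have h01 := congrFun (congrFun h' 0) 1
  have h10 := congrFun (congrFun h' 1) 0
  simp [Matrix.mul_apply, Fin.sum_univ_two] at h00 h01 h10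
  have hdet := A.2
  rw [Matrix.det_fin_two] at hdet
  have ht : A 0 0 * (A 0 0 + A 1 1) = 2 := by linear_combination h00 + hdet
  have ht0 : A 0 0 + A 1 1 ≠ 0 := fun h => h2 (by rw [← ht, h, mul_zero])
  have hb : A 0 1 = 0 := (mul_eq_zero.1 (show (A 0 0 + A 1 1) * A 0 1 = 0 by
    linear_combination h01)).resolve_left ht0
  have hc : A 1 0 = 0 := (mul_eq_zero.1 (show (A 0 0 + A 1 1) * A 1 0 = 0 by
    linear_combination h10)).resolve_left ht0
  refine mem_center_of_scalar hb hc ?_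
  have ha : A 0 0 * A 0 0 = 1 := by linear_combination h00 - A 1 0 * hb
  have hd : A 0 0 * A 1 1 = 1 := by linear_combination hdet + A 1 0 * hb
  exact mul_left_cancel₀ (fun h => by simp [h] at ha) (ha.trans hd.symm)

theorem isCA_of_equiv {G H : Type*} [Group G] [Group H] (e : G ≃* H) (h : IsCA H) : IsCA G := by
  intro x hx
  have hx' : e x ∉ center H := fun hc => hx (mem_center_iff.2 fun g => e.injective (by
    rw [map_mul, map_mul]
    exact mem_center_iff.1 hc (e g)))
  have hmem : ∀ a : centralizer ({x} : Set G), e a ∈ centralizer ({e x} : Set H) := fun a =>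
    mem_centralizer_singleton_iff.2 (by
      rw [← map_mul, ← map_mul, mem_centralizer_singleton_iff.1 a.2])
  exact ⟨⟨fun a b => Subtype.ext (e.injective (by
    rw [Subgroup.coe_mul, Subgroup.coe_mul, map_mul, map_mul]
    exact congrArg Subtype.val ((h (e x) hx').is_comm.comm ⟨_, hmem a⟩ ⟨_, hmem b⟩)))⟩⟩

end Cover

open Cover

theorem cover_core {K : Type u} [Group K] [Finite K] (hperf : commutator K = ⊤)
    (F : Type) [Field F] [Fintype F] (h4 : Fintype.card F ≠ 4) (h9 : Fintype.card F ≠ 9)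
    (h5 : 5 ≤ Fintype.card F) (hiso : BarIso K F) :
    (IsCA K ∨ ∃ (E : Type) (_ : Field E) (_ : Fintype E), Odd (Fintype.card E) ∧
        5 ≤ Fintype.card E ∧ Nonempty (K ≃* Matrix.ProjectiveSpecialLinearGroup (Fin 2) E)) ∧
      (∀ p : ℕ, p.Prime → p ≠ 2 → ¬ p ∣ Nat.card (center K)) ∧
      (2 ∣ Nat.card (center K) → NoInvolution K) := by
  classical
  obtain ⟨e⟩ := hiso
  set Q := Matrix.ProjectiveSpecialLinearGroup (Fin 2) F
  let σ : K →* Q := e.toMonoidHom.comp (QuotientGroup.mk' (center K))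
  have hσ : Function.Surjective σ := e.surjective.comp (QuotientGroup.mk'_surjective _)
  have hσk : σ.ker = center K := by
    ext x
    rw [MonoidHom.mem_ker, ← QuotientGroup.eq_one_iff (N := center K)]
    show e (x : K ⧸ center K) = 1 ↔ _
    exact map_eq_one_iff _ e.injective
  have hq : 3 < Fintype.card F := by omega
  have hsq : ∃ a : F, a ≠ 0 ∧ a ^ 2 ≠ 1 := by
    by_contra hc
    have hsub : (Finset.univ : Finset F) ⊆ {0, 1, -1} := fun x _ => by
      by_cases hx : x = 0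
      · simp [hx]
      · have h2 : x ^ 2 = 1 := by
          by_contra h2
          exact hc ⟨x, hx, h2⟩
        rcases sq_eq_one_iff.1 h2 with h1 | h1 <;> simp [h1]
    have := (Finset.card_le_card hsub).trans Finset.card_le_three
    rw [Finset.card_univ] at this
    omega
  have hperfSL : Group.IsPerfect (Matrix.SpecialLinearGroup (Fin 2) F) :=
    ⟨LinearGroup.commutator_SL_eq_top' fun _ => hsq⟩
  obtain ⟨η, hη⟩ := Schur.exists_lift_of_trivial hperfSL (S2117.result (F := F) h4 h9)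
    (QuotientGroup.mk' (center (Matrix.SpecialLinearGroup (Fin 2) F))) σ hσ hσk.le
  -- the lift is onto
  have hsurj : Function.Surjective η := by
    rw [← MonoidHom.range_eq_top, eq_top_iff, ← hperf, _root_.commutator_def, Subgroup.commutator_le]
    intro a _ b _
    have hdec : ∀ k : K, ∃ r ∈ η.range, r⁻¹ * k ∈ center K := fun k => by
      obtain ⟨s, hs⟩ := QuotientGroup.mk'_surjective _ (σ k)
      refine ⟨η s, ⟨s, rfl⟩, hσk.le ?_⟩
      rw [MonoidHom.mem_ker, map_mul, map_inv, ← MonoidHom.comp_apply σ η, hη, hs, inv_mul_cancel]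
    obtain ⟨r, hr, hra⟩ := hdec a
    obtain ⟨s, hs, hsb⟩ := hdec b
    have hz : ∀ z ∈ center K, ∀ x : K, z * x = x * z := fun z hz x => (mem_center_iff.1 hz x).symm
    have ha : ∀ x : K, ⁅a, x⁆ = ⁅r, x⁆ := fun x => by
      rw [commutatorElement_def, commutatorElement_def]
      calc a * x * a⁻¹ * x⁻¹ = r * ((r⁻¹ * a) * x) * (r⁻¹ * a)⁻¹ * r⁻¹ * x⁻¹ := by group
        _ = r * (x * (r⁻¹ * a)) * (r⁻¹ * a)⁻¹ * r⁻¹ * x⁻¹ := by rw [hz _ hra x]
        _ = r * x * r⁻¹ * x⁻¹ := by group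
    have hb : ⁅r, b⁆ = ⁅r, s⁆ := by
      rw [commutatorElement_def, commutatorElement_def]
      calc r * b * r⁻¹ * b⁻¹ = r * s * ((s⁻¹ * b) * r⁻¹) * (s⁻¹ * b)⁻¹ * s⁻¹ := by group
        _ = r * s * (r⁻¹ * (s⁻¹ * b)) * (s⁻¹ * b)⁻¹ * s⁻¹ := by rw [hz _ hsb r⁻¹]
        _ = r * s * r⁻¹ * s⁻¹ := by group
    rw [ha, hb, commutatorElement_def]
    exact η.range.mul_mem (η.range.mul_mem (η.range.mul_mem hr hs) (η.range.inv_mem hr))
      (η.range.inv_mem hs)
  -- orders
  have hKQ : Nat.card K = Nat.card (center K) * Nat.card Q := by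
    rw [← hσk, ← σ.ker.card_mul_index, Subgroup.index_ker, MonoidHom.range_eq_top.2 hσ,
      Subgroup.card_top]
  have hgcd := LinearGroup.gcd_mul_card_PSL_two (F := F)
  rw [← LinearGroup.card_SL_two] at hgcd
  have hQpos : 0 < Nat.card Q := Nat.card_pos
  set d := Nat.gcd 2 (Nat.card F - 1) with hd
  have hdd : d ∣ 2 := Nat.gcd_dvd_left _ _
  have hZ : Nat.card (center K) ∣ d := by
    have h := Subgroup.card_dvd_of_surjective η hsurj

    rw [← hgcd, hKQ] at h
    exact Nat.dvd_of_mul_dvd_mul_right hQpos h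
  have hodd : ∀ p : ℕ, p.Prime → p ≠ 2 → ¬ p ∣ Nat.card (center K) := fun p hp hp2 h =>
    hp2 ((Nat.prime_dvd_prime_iff_eq hp Nat.prime_two).1 (h.trans (hZ.trans hdd)))
  -- when `K` is `SL(2, F)`
  have hSL : Nat.card (center K) = d → Nonempty (K ≃* Matrix.SpecialLinearGroup (Fin 2) F) := by
    intro h
    have hc : Nat.card K = Nat.card (Matrix.SpecialLinearGroup (Fin 2) F) := by
      rw [hKQ, h, hgcd]
    exact ⟨(MulEquiv.ofBijective η
      ((Nat.bijective_iff_surjective_and_card _).2 ⟨hsurj, hc.symm⟩)).symm⟩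
  refine ⟨?_, hodd, fun h2 => ?_⟩
  · by_cases hZd : Nat.card (center K) = d
    · exact Or.inl ((hSL hZd).elim fun f => isCA_of_equiv f isCA_SL)
    · have hd2 : d = 2 ∧ Nat.card (center K) = 1 := by
        have h1 := (Nat.dvd_prime Nat.prime_two).1 hdd
        have h2 := (Nat.dvd_prime Nat.prime_two).1 (hZ.trans hdd)
        rcases h1 with h1 | h1
        · exact absurd (Nat.dvd_one.1 (h1 ▸ hZ)) (fun h => hZd (h.trans h1.symm))
        · rcases h2 with h2 | h2
          · exact ⟨h1, h2⟩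
          · exact absurd (h2.trans h1.symm) hZd
      refine Or.inr ⟨F, inferInstance, inferInstance, ?_, h5, ?_⟩
      · have h := Nat.gcd_dvd_right 2 (Nat.card F - 1)
        rw [← hd, hd2.1, Nat.card_eq_fintype_card] at h
        rw [Nat.odd_iff]
        omega
      · refine ⟨MulEquiv.ofBijective σ ⟨?_, hσ⟩⟩
        rw [← MonoidHom.ker_eq_bot_iff, hσk, ← Subgroup.card_eq_one]
        exact hd2.2
  · have hd2 : Nat.card (center K) = d ∧ d = 2 := by
      have h := h2.trans hZ
      have hd2 : d = 2 := Nat.dvd_antisymm hdd h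
      exact ⟨Nat.dvd_antisymm hZ (hd2 ▸ h2), hd2⟩
    obtain ⟨f⟩ := hSL hd2.1
    intro x hx
    have h20 : (2 : F) ≠ 0 := by
      intro h0
      haveI : CharP F 2 := CharTwo.of_one_ne_zero_of_two_eq_zero one_ne_zero h0
      obtain ⟨n, -, hn⟩ := FiniteField.card F 2
      have h := Nat.gcd_dvd_right 2 (Nat.card F - 1)
      rw [← hd, hd2.2, Nat.card_eq_fintype_card, hn] at h
      have h' : 2 ∣ 2 ^ (n : ℕ) := dvd_pow_self 2 n.pos.ne'
      have : 1 ≤ 2 ^ (n : ℕ) := Nat.one_le_two_pow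
      omega
    have hf : f x ∈ center (Matrix.SpecialLinearGroup (Fin 2) F) :=
      mem_center_of_sq_eq_one h20 (by
        rw [← map_mul, ← pow_two, orderOf_dvd_iff_pow_eq_one.1 hx.dvd, map_one])
    exact mem_center_iff.2 fun g => f.injective (by
      rw [map_mul, map_mul]
      exact mem_center_iff.1 hf (f g))

/-- The covers of `PSL(2, q)` with `q ≠ 9`. -/
theorem cover : CoverStmt.{u} := by
  intro K _ _ hK F _ _ h4 h9 hiso
  haveI : Fact (Nat.Prime 5) := ⟨by norm_num⟩
  by_cases hF : Fintype.card F = 4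
  · obtain ⟨e⟩ := hiso
    obtain ⟨a⟩ := LinearGroup.psl_two_small (F := F) (Or.inr (by rw [Nat.card_eq_fintype_card, hF]))
    obtain ⟨b⟩ := LinearGroup.psl_two_five (F := ZMod 5) (Nat.card_zmod 5)
    have hc : Nat.card F + 1 = 5 := by rw [Nat.card_eq_fintype_card, hF]
    have a' : Matrix.ProjectiveSpecialLinearGroup (Fin 2) F ≃* alternatingGroup (Fin 5) := hc ▸ a
    exact cover_core hK.perfect (ZMod 5) (by simp) (by simp) (by simp)
      ⟨e.trans (a'.trans b.symm)⟩
  · exact cover_core hK.perfect F hF h9 (by omega) hiso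

end Cfsg.Agent.MinNonCA27
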