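import Cfsg.Prelude
import Mathlib

/-!
# S4369: interfaces (minimal non-CA groups)

`Z` below is always `Subgroup.center` of the group considered.
-/

set_option autoImplicit false

namespace Cfsg.Agent.MinNonCA27

open Subgroup

universe u

/-- Every non-central element has an abelian centraliser. -/
def IsCA (G : Type*) [Group G] : Prop :=
  ∀ x : G, x ∉ center G → IsMulCommutative (centralizer ({x} : Set G))

/-- Every proper subgroup is CA. -/
def ProperCA (G : Type*) [Group G] : Prop :=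
  ∀ H : Subgroup G, H ≠ ⊤ → IsCA H

/-- The solvable radical is central. -/
def RadCentral (G : Type*) [Group G] : Prop :=
  ∀ N : Subgroup G, N.Normal → Group.IsSolvable N → N ≤ center G

/-- Nobody non-central centralises a non-solvable proper normal subgroup. -/
def NoCentralised (G : Type*) [Group G] : Prop :=
  ∀ L : Subgroup G, L.Normal → L ≠ ⊤ → ¬ Group.IsSolvable L →
    ∀ x : G, x ∈ centralizer (L : Set G) → x ∈ center G

/-- The groups studied: perfect, radical central, all proper subgroups CA. -/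
structure Hyp (K : Type*) [Group K] : Prop where
  perfect : commutator K = ⊤
  nontrivial : Nontrivial K
  proper : ProperCA K
  rad : RadCentral K

/-- `K` modulo its centre is isomorphic to `PSL2(F)`. -/
def BarIso (K : Type*) [Group K] (F : Type) [Field F] [Fintype F] : Prop :=
  Nonempty (K ⧸ center K ≃* Matrix.ProjectiveSpecialLinearGroup (Fin 2) F)

/-- `S` is elementary abelian modulo the centre. -/
def ElemBar {K : Type*} [Group K] (S : Subgroup K) : Prop :=
  ∀ a ∈ S, ∀ b ∈ S, a * b * a⁻¹ * b⁻¹ ∈ center K ∧ a * a ∈ center K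

/-- Modulo the centre `S` is dihedral of order at least 8: cyclic part generated by `c`, rotated to
`T` of order 2, inverted by `u`. -/
structure Dih {K : Type*} [Group K] (S : Subgroup K) (T c u : K) : Prop where
  T_mem : T ∈ S
  T_not : T ∉ center K
  T_sq : T * T ∈ center K
  T_central : ∀ s ∈ S, T * s * T⁻¹ * s⁻¹ ∈ center K
  c_mem : c ∈ S
  c_sq : c * c ∉ center K
  comm_T : c * T = T * c
  /-- the abelian subgroup `C_S(T)` -/
  abelian : ∀ a ∈ S, ∀ b ∈ S, a * T = T * a → b * T = T * b → a * b = b * a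
  cyclic : ∀ a ∈ S, a * T = T * a → ∃ i : ℤ, (c ^ i)⁻¹ * a ∈ center K
  u_mem : u ∈ S
  u_not : u * T ≠ T * u
  u_sq : u * u ∈ center K
  cosets : ∀ s ∈ S, s * T = T * s ∨ (u⁻¹ * s) * T = T * (u⁻¹ * s)
  inverts : ∀ a ∈ S, a * T = T * a → a * (u * a * u⁻¹) ∈ center K

/-- The preimage of the centraliser of the image of `t` in `K ⧸ Z`. -/
def preC {K : Type*} [Group K] (t : K) : Subgroup K :=
  (centralizer ({(QuotientGroup.mk t : K ⧸ center K)} : Set (K ⧸ center K))).comap
    (QuotientGroup.mk' (center K))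

/-- No element of order 2 outside the centre. -/
def NoInvolution (K : Type*) [Group K] : Prop :=
  ∀ e : K, orderOf e = 2 → e ∈ center K

/-- `Radical.lean` -/
def RadicalStmt : Prop :=
  ∀ (G : Type u) [Group G] [Finite G], ¬ Group.IsSolvable G → ProperCA G →
    NoCentralised G ∧ (¬ IsCA G → RadCentral G)

/-- `Shape.lean`: non-abelian Sylow 2-subgroups. -/
def ShapeStmt : Prop :=
  ∀ (K : Type u) [Group K] [Finite K], Hyp K → ∀ S : Sylow 2 K,
    ¬ IsMulCommutative (S : Subgroup K) →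
    (∀ z ∈ (S : Subgroup K), (∀ s ∈ (S : Subgroup K), z * s = s * z) → z ∈ center K) ∧
      (ElemBar (S : Subgroup K) ∨ ∃ T c u : K, Dih (S : Subgroup K) T c u)

/-- `Cent.lean`: involutions of `K ⧸ Z` that are central in a Sylow 2-subgroup have solvable
centralisers. -/
def CentStmt : Prop :=
  ∀ (K : Type u) [Group K] [Finite K], Hyp K → ∀ (S : Sylow 2 K) (t : K), t ∈ (S : Subgroup K) →
    t ∉ center K → t * t ∈ center K →
    (∀ s ∈ (S : Subgroup K), t * s * t⁻¹ * s⁻¹ ∈ center K) → Group.IsSolvable (preC t)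

/-- `Simple.lean` -/
def SimpleStmt : Prop :=
  ∀ (K : Type u) [Group K] [Finite K], Hyp K → IsSimpleGroup (K ⧸ center K)

/-- `IdentAb.lean` (from S3188) -/
def IdentAbStmt : Prop :=
  ∀ (K : Type u) [Group K] [Finite K], Hyp K → ∀ S : Sylow 2 K,
    (IsMulCommutative (S : Subgroup K) ∨ ElemBar (S : Subgroup K)) →
    ∃ (F : Type) (_ : Field F) (_ : Fintype F),
      (((Fintype.card F % 8 = 3 ∨ Fintype.card F % 8 = 5) ∧ 5 ≤ Fintype.card F) ∨
        (∃ n : ℕ, 2 ≤ n ∧ Fintype.card F = 2 ^ n)) ∧ BarIso K F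

/-- `IdentDih.lean` (from S0508) -/
def IdentDihStmt : Prop :=
  ∀ (K : Type u) [Group K] [Finite K], Hyp K → ∀ (S : Sylow 2 K) (T c u : K),
    Dih (S : Subgroup K) T c u →
    ∃ (F : Type) (_ : Field F) (_ : Fintype F), Odd (Fintype.card F) ∧ 5 ≤ Fintype.card F ∧
      BarIso K F

/-- `Nine.lean`: what is needed when the cover of `PSL2(9)` may be exceptional. -/
def NineStmt : Prop :=
  ∀ (K : Type u) [Group K] [Finite K], Hyp K → ∀ (S : Sylow 2 K) (T c u : K),
    Dih (S : Subgroup K) T c u →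
    NoInvolution K ∧
      ∀ (F : Type) [Field F] [Fintype F], Fintype.card F = 9 → BarIso K F → IsCA K

/-- `Cover.lean` (from S2117) -/
def CoverStmt : Prop :=
  ∀ (K : Type u) [Group K] [Finite K], Hyp K →
    ∀ (F : Type) [Field F] [Fintype F], 4 ≤ Fintype.card F → Fintype.card F ≠ 9 → BarIso K F →
      (IsCA K ∨ ∃ (E : Type) (_ : Field E) (_ : Fintype E), Odd (Fintype.card E) ∧
        5 ≤ Fintype.card E ∧ Nonempty (K ≃* Matrix.ProjectiveSpecialLinearGroup (Fin 2) E)) ∧
      (∀ p : ℕ, p.Prime → p ≠ 2 → ¬ p ∣ Nat.card (center K)) ∧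
      (2 ∣ Nat.card (center K) → NoInvolution K)

/-- `Outer.lean`: the case of a proper perfect residual. -/
def OuterStmt : Prop :=
  ∀ (G : Type u) [Group G] [Finite G], ProperCA G → RadCentral G → NoCentralised G →
    ∀ K : Subgroup G, K.Normal → K ≠ ⊤ → ¬ Group.IsSolvable K → IsSimpleGroup (K ⧸ center K) →
      commutator K = ⊤ →
      (∀ p : ℕ, p.Prime → p ≠ 2 → p ∣ Nat.card (center K) →
        Nat.card (K ⧸ center K) = 360) →
      (2 ∣ Nat.card (center K) → NoInvolution K) →
      IsCA G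

/-- The numerical condition of the statement. -/
def Good (q : ℕ) : Prop :=
  (q.Prime ∧ 5 < q ∧ ¬ 16 ∣ q ^ 2 - 1) ∨ ∃ p : ℕ, p.Prime ∧ p ≠ 2 ∧ (q = 3 ^ p ∨ q = 5 ^ p)

/-- `Extract.lean`: the condition on `q`; `h16` comes from `ShapeStmt`. -/
def ExtractStmt : Prop :=
  ∀ (G : Type u) [Group G] [Finite G] (F : Type) [Field F] [Fintype F],
    Odd (Fintype.card F) → 5 ≤ Fintype.card F →
    Nonempty (G ≃* Matrix.ProjectiveSpecialLinearGroup (Fin 2) F) → ProperCA G → ¬ IsCA G →
    (∀ S : Sylow 2 G, IsMulCommutative (S : Subgroup G)) → Good (Fintype.card F)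

/-- `Converse.lean` -/
def ConverseStmt : Prop :=
  ∀ (G : Type u) [Group G] [Finite G] (F : Type) [Field F] [Fintype F],
    Good (Fintype.card F) →
    Nonempty (G ≃* Matrix.ProjectiveSpecialLinearGroup (Fin 2) F) →
    ¬ Group.IsSolvable G ∧ ¬ IsCA G ∧ ProperCA G

end Cfsg.Agent.MinNonCA27
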