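import Cfsg.Agent.MinNonCA27.Defs
import Cfsg.Agent.Lib.Dickson.Polyhedra
import Cfsg.Agent.Lib.Dickson.Involutions
import Cfsg.Agent.Lib.Dickson.Fields
import Cfsg.Agent.Lib.LinearGroup.Simple
import Cfsg.Agent.Lib.LinearGroup.SmallPSL

/-!
# S4369: the condition on `q`
-/

set_option autoImplicit false
set_option linter.all false

namespace Cfsg.Agent.MinNonCA27

open Subgroup

universe u

namespace Extract

attribute [local instance] Cfsg.Agent.PLocalB.lineAction Cfsg.Agent.Dickson.pslLine

theorem isCA_of_equiv {A B : Type*} [Group A] [Group B] (e : A ≃* B) (h : IsCA A) : IsCA B := by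
  intro y hy
  have hx : e.symm y ∉ center A := fun hc => hy (by
    rw [mem_center_iff] at hc ⊢
    intro g
    have := congrArg e (hc (e.symm g))
    simpa using this)
  haveI := h _ hx
  have hab := this
  refine ⟨⟨fun a b => Subtype.ext ?_⟩⟩
  have ha : e.symm (a : B) ∈ centralizer ({e.symm y} : Set A) := by
    rw [mem_centralizer_singleton_iff, ← map_mul, mem_centralizer_singleton_iff.mp a.2, map_mul]
  have hb : e.symm (b : B) ∈ centralizer ({e.symm y} : Set A) := by
    rw [mem_centralizer_singleton_iff, ← map_mul, mem_centralizer_singleton_iff.mp b.2, map_mul]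
  have := congrArg (fun t : centralizer ({e.symm y} : Set A) => e (t : A))
    (hab.is_comm.comm ⟨_, ha⟩ ⟨_, hb⟩)
  simpa using this

theorem alt_five_small : ∀ x : alternatingGroup (Fin 5), x ≠ 1 →
    (Finset.univ.filter fun a : alternatingGroup (Fin 5) => a * x = x * a).card ≤ 5 := by
  decide +kernel

theorem comm_of_card_le_five {A : Type*} [Group A] [Finite A] (h : Nat.card A ≤ 5) :
    IsMulCommutative A := by
  have h0 : 0 < Nat.card A := Nat.card_pos
  by_cases h4 : Nat.card A = 4
  · haveI : Fact (Nat.Prime 2) := ⟨Nat.prime_two⟩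
    exact ⟨⟨fun a b => IsPGroup.commutative_of_card_eq_prime_sq (p := 2)
      (by rw [h4]; norm_num) a b⟩⟩
  · by_cases h1 : Nat.card A = 1
    · haveI := (Nat.card_eq_one_iff_unique.mp h1).1
      exact ⟨⟨fun a b => Subsingleton.elim _ _⟩⟩
    · haveI : Fact (Nat.card A).Prime := ⟨by interval_cases hn : Nat.card A <;> first | omega | norm_num⟩
      haveI := isCyclic_of_prime_card (α := A) rfl
      exact ⟨⟨fun a b => (IsCyclic.commutative (α := A)).is_comm.comm a b⟩⟩

theorem isCA_alt_five : IsCA (alternatingGroup (Fin 5)) := by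
  intro x hx
  have h1 : x ≠ 1 := fun e => hx (e ▸ one_mem _)
  refine comm_of_card_le_five ?_
  refine le_trans (le_of_eq ?_) (alt_five_small x h1)
  exact Nat.subtype_card _ fun a => by simp [mem_centralizer_singleton_iff]

theorem not_isCA_psl {F : Type*} [Field F] [Fintype F] (hodd : Odd (Fintype.card F))
    (h7 : 7 ≤ Fintype.card F) : ¬ IsCA (Matrix.ProjectiveSpecialLinearGroup (Fin 2) F) := by
  intro hCA
  have h2 : (2 : F) ≠ 0 := fun e => by
    haveI := CharTwo.of_one_ne_zero_of_two_eq_zero (R := F) one_ne_zero e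
    have := FiniteField.even_card_iff_char_two.mp (ringChar.eq F 2)
    have := Nat.odd_iff.mp hodd
    omega
  obtain ⟨z, N, n, e, hn2, hne, hz, hCN, -⟩ := Dickson.exists_centralizer_dihedral (F := F) h2
  have hq := Nat.odd_iff.mp hodd
  have hd : Nat.gcd 2 (Fintype.card F - 1) = 2 :=
    Nat.gcd_eq_left (by omega)
  -- a cyclic subgroup of order at least three centralising an involution
  obtain ⟨g, hg, hge⟩ : ∃ g : Matrix.ProjectiveSpecialLinearGroup (Fin 2) F,
      3 ≤ orderOf g ∧ 2 ∣ orderOf g := by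
    rcases (by omega : Fintype.card F % 4 = 1 ∨ Fintype.card F % 4 = 3) with h | h
    · obtain ⟨g, hg⟩ := SL2Tor.exists_psl_orderOf_div (F := F) (n := Fintype.card F - 1) (Or.inl rfl)
      exact ⟨g, by rw [hg, hd]; omega, by rw [hg, hd]; omega⟩
    · obtain ⟨g, hg⟩ := SL2Tor.exists_psl_orderOf_div (F := F) (n := Fintype.card F + 1) (Or.inr rfl)
      exact ⟨g, by rw [hg, hd]; omega, by rw [hg, hd]; omega⟩
  obtain ⟨j, hj⟩ := hge
  have hgj : orderOf (g ^ j) = 2 := by
    rw [orderOf_pow_of_dvd (by omega) ⟨2, by rw [hj, mul_comm]⟩, hj,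
      Nat.mul_div_cancel _ (by omega)]
  obtain ⟨c, hc⟩ := Dickson.isConj_involutions h2 hgj hz
  have hmem : c * g * c⁻¹ ∈ N := by
    rw [← hCN, mem_centralizer_singleton_iff, ← hc, ← conj_pow]
    exact (Commute.refl _).pow_right j |>.eq
  -- the centraliser is not commutative
  have hnab : ¬ IsMulCommutative N := by
    intro hab
    have hcm := hab.is_comm.comm (e.symm (DihedralGroup.r 1)) (e.symm (DihedralGroup.sr 0))
    rw [← map_mul, ← map_mul] at hcm
    have h := e.symm.injective hcm
    simp only [DihedralGroup.r_mul_sr, DihedralGroup.sr_mul_r, DihedralGroup.sr.injEq] at h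
    have hn : n = 2 := by
      have h2' : ((2 : ℕ) : ZMod n) = 0 := by
        push_cast
        linear_combination (norm := ring_nf) -h
      exact le_antisymm (Nat.le_of_dvd (by norm_num) ((ZMod.natCast_eq_zero_iff _ _).mp h2')) hn2
    subst hn
    have h22 : ∀ d : DihedralGroup 2, d * d = 1 := by decide
    have := orderOf_dvd_of_pow_eq_one (x := c * g * c⁻¹) (n := 2) (by
      have h' := congrArg e.symm (h22 (e ⟨_, hmem⟩))
      simp only [map_mul, MulEquiv.symm_apply_apply, map_one] at h'
      rw [pow_two]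
      exact congrArg Subtype.val h')
    rw [show orderOf (c * g * c⁻¹) = orderOf g from
      (orderOf_injective (MulAut.conj c).toMonoidHom (MulEquiv.injective _) g)] at this
    exact absurd (Nat.le_of_dvd (by norm_num) this) (by omega)
  have hzc : z ∉ center (Matrix.ProjectiveSpecialLinearGroup (Fin 2) F) := by
    intro hzc
    haveI : IsSimpleGroup (Matrix.ProjectiveSpecialLinearGroup (Fin 2) F) := by
      refine LinearGroup.isSimpleGroup_PSL' fun _ => ?_
      by_contra hno
      simp only [not_exists, not_and, not_not] at hno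
      classical
      have hsub : (Finset.univ : Finset F) ⊆ {0, 1, -1} := fun a _ => by
        by_cases ha : a = 0
        · simp [ha]
        · have := hno a ha
          rw [sq_eq_one_iff] at this
          simp [this]
      have := (Finset.card_le_card hsub).trans Finset.card_le_three
      rw [Finset.card_univ] at this
      omega
    rcases (inferInstance : (center (Matrix.ProjectiveSpecialLinearGroup (Fin 2) F)).Normal).eq_bot_or_eq_top
      with hb | ht
    · rw [hb, mem_bot] at hzc
      rw [hzc, orderOf_one] at hz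
      omega
    · refine hnab ⟨⟨fun a b => Subtype.ext ?_⟩⟩
      have hbc : (b : Matrix.ProjectiveSpecialLinearGroup (Fin 2) F) ∈
          center (Matrix.ProjectiveSpecialLinearGroup (Fin 2) F) := by rw [ht]; exact mem_top _
      exact mem_center_iff.mp hbc a
  exact hnab (hCN ▸ hCA z hzc)

theorem sylow_nonabelian {F : Type*} [Field F] [Fintype F] (h : Fintype.card F ^ 2 % 16 = 1) :
    ∃ S : Sylow 2 (Matrix.ProjectiveSpecialLinearGroup (Fin 2) F),
      ¬ IsMulCommutative (S : Subgroup (Matrix.ProjectiveSpecialLinearGroup (Fin 2) F)) := by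
  haveI : Fact (Nat.Prime 2) := ⟨Nat.prime_two⟩
  obtain ⟨H, ⟨e⟩⟩ := Dickson.exists_S4_of (F := F) h
  obtain ⟨T, hT⟩ : ∃ T : Subgroup (Equiv.Perm (Fin 4)), Nat.card T = 8 ∧ ¬ IsMulCommutative T := by
    let T : Sylow 2 (Equiv.Perm (Fin 4)) := default
    refine ⟨T, ?_, ?_⟩
    · rw [T.card_eq_multiplicity, Nat.card_eq_fintype_card, Fintype.card_perm, Fintype.card_fin]
      rw [show Nat.factorial 4 = 2 ^ 3 * 3 by rfl, Nat.factorization_mul (by norm_num) (by norm_num),
        Nat.Prime.factorization_pow Nat.prime_two]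
      simp [Nat.Prime.factorization (show Nat.Prime 3 by norm_num)]
    · intro hab
      have hdec : ∃ a b : Equiv.Perm (Fin 4), a ^ 4 = 1 ∧ b * b = 1 ∧ b * a * b = a⁻¹ ∧
          a * b ≠ b * a := ⟨finRotate 4, Equiv.swap 0 2, by decide⟩
      obtain ⟨a, b, ha, hb, hba, hne⟩ := hdec
      have hA : IsPGroup 2 (zpowers a) := by
        obtain ⟨j, -, hj⟩ := (Nat.dvd_prime_pow Nat.prime_two).mp
          (show orderOf a ∣ 2 ^ 2 from orderOf_dvd_of_pow_eq_one ha)
        exact IsPGroup.of_card (n := j) (by rw [Nat.card_zpowers, hj])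
      have hB : IsPGroup 2 (zpowers b) := by
        obtain ⟨j, -, hj⟩ := (Nat.dvd_prime_pow Nat.prime_two).mp
          (show orderOf b ∣ 2 ^ 1 from orderOf_dvd_of_pow_eq_one (by rw [pow_one, pow_two]; exact hb))
        exact IsPGroup.of_card (n := j) (by rw [Nat.card_zpowers, hj])
      have hBN : zpowers b ≤ normalizer (zpowers a : Set (Equiv.Perm (Fin 4))) := by
        rw [zpowers_le, mem_normalizer_iff]
        have hb' : b⁻¹ = b := inv_eq_of_mul_eq_one_right hb
        intro x
        have hconj : ∀ i : ℤ, b * a ^ i * b⁻¹ = a ^ (-i) := fun i => by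
          rw [← conj_zpow, hb', hba, inv_zpow']
        constructor
        · rintro ⟨i, rfl⟩
          exact ⟨-i, (hconj i).symm⟩
        · rintro ⟨i, hi⟩
          refine ⟨-i, ?_⟩
          have h2 : b * (b * x * b⁻¹) * b⁻¹ = x := by
            rw [hb', show b * (b * x * b) * b = (b * b) * x * (b * b) by group, hb, one_mul, mul_one]
          rw [← h2, ← hi]
          exact (hconj i).symm
      obtain ⟨S, hS⟩ := (IsPGroup.to_sup_of_normal_left' hA hB hBN).exists_le_sylow
      obtain ⟨d, hd⟩ := MulAction.exists_smul_eq (Equiv.Perm (Fin 4)) S T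
      have eS : (S : Subgroup (Equiv.Perm (Fin 4))) ≃* (T : Subgroup (Equiv.Perm (Fin 4))) :=
        Sylow.equiv S T
      apply hne
      have := hab.is_comm.comm (eS ⟨a, hS (mem_sup_left (mem_zpowers a))⟩)
        (eS ⟨b, hS (mem_sup_right (mem_zpowers b))⟩)
      rw [← map_mul, ← map_mul] at this
      exact congrArg Subtype.val (eS.injective this)
  let f : T →* Matrix.ProjectiveSpecialLinearGroup (Fin 2) F :=
    H.subtype.comp ((e.symm.toMonoidHom).comp T.subtype)
  have hf : Function.Injective f :=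
    H.subtype_injective.comp (e.symm.injective.comp T.subtype_injective)
  have hp : IsPGroup 2 f.range :=
    IsPGroup.of_card (n := 3) (by
      rw [← Nat.card_congr (MonoidHom.ofInjective hf).toEquiv, hT.1]; norm_num)
  obtain ⟨S, hS⟩ := hp.exists_le_sylow
  refine ⟨S, fun hab => hT.2 ⟨⟨fun a b => hf ?_⟩⟩⟩
  rw [map_mul, map_mul]
  exact congrArg Subtype.val (hab.is_comm.comm ⟨f a, hS ⟨a, rfl⟩⟩ ⟨f b, hS ⟨b, rfl⟩⟩)

theorem small_subfield {F : Type*} [Field F] [Fintype F] {G : Type*} [Group G] [Finite G]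
    (e : G ≃* Matrix.ProjectiveSpecialLinearGroup (Fin 2) F) (hP : ProperCA G)
    (r d k : ℕ) [Fact r.Prime] (hodd : Odd r) (hd : 1 ≤ d) (hk : 2 ≤ k)
    (hF : Fintype.card F = (r ^ d) ^ k) : r ^ d < 7 := by
  by_contra hge
  haveI : Fintype (GaloisField r d) := Fintype.ofFinite _
  have hK : Fintype.card (GaloisField r d) = r ^ d := by
    rw [← Nat.card_eq_fintype_card]; exact GaloisField.card r d (by omega)
  obtain ⟨f⟩ := Dickson.exists_ringHom (K := GaloisField r d) (F := F) (m := k) (by rw [hK, hF])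
  obtain ⟨H, ⟨i⟩⟩ := Dickson.exists_subfield_subgroup f ⟨MulEquiv.refl _⟩
  have hoddd : Odd (r ^ d) := hodd.pow
  have hne : H.map e.symm.toMonoidHom ≠ ⊤ := by
    intro htop
    have hH : H = ⊤ := by
      rw [eq_top_iff]
      intro x _
      obtain ⟨y, hy, hxy⟩ := (htop ▸ mem_top (e.symm x) : e.symm x ∈ H.map e.symm.toMonoidHom)
      exact e.symm.injective hxy ▸ hy
    have hc := Nat.card_congr i.toEquiv
    rw [hH, card_top] at hc
    have h1 := Dickson.card_psl_eq (F := F)
    have h2 := Dickson.card_psl_eq (F := GaloisField r d)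
    rw [hc, hF] at h1
    rw [hK] at h2
    have hlt : r ^ d < (r ^ d) ^ k := lt_self_pow₀ (by omega) hk
    have ho1 := Nat.odd_iff.mp hoddd
    have ho2 := Nat.odd_iff.mp (hoddd.pow (n := k))
    rw [show Nat.gcd 2 ((r ^ d) ^ k - 1) = 2 from Nat.gcd_eq_left (by omega)] at h1
    rw [show Nat.gcd 2 (r ^ d - 1) = 2 from Nat.gcd_eq_left (by omega), h1] at h2
    exact absurd h2 (Nat.ne_of_gt (Nat.mul_lt_mul_of_lt_of_lt (by omega)
      (Nat.mul_lt_mul_of_lt_of_lt hlt (by omega))))
  have hca := hP _ hne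
  refine not_isCA_psl (F := GaloisField r d) (by rw [hK]; exact hoddd) (by rw [hK]; omega) ?_
  exact isCA_of_equiv ((e.symm.subgroupMap H).symm.trans i) hca

end Extract

open Extract in
theorem extract : ExtractStmt.{u} := by
  intro G _ _ F _ _ hodd h5 he hP hnCA hab
  obtain ⟨e⟩ := he
  have h16 : ¬ Fintype.card F ^ 2 % 16 = 1 := by
    intro h
    obtain ⟨S, hS⟩ := sylow_nonabelian (F := F) h
    haveI : Fact (Nat.Prime 2) := ⟨Nat.prime_two⟩
    obtain ⟨T, hT⟩ := (S.2.map e.symm.toMonoidHom).exists_le_sylow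
    refine hS ⟨⟨fun a b => Subtype.ext (e.symm.injective ?_)⟩⟩
    have := congrArg Subtype.val ((hab T).is_comm.comm ⟨_, hT (mem_map_of_mem _ a.2)⟩
      ⟨_, hT (mem_map_of_mem _ b.2)⟩)
    simpa using this
  have h16' : ¬ 16 ∣ Fintype.card F ^ 2 - 1 := by
    have : 1 ≤ Fintype.card F ^ 2 := Nat.one_le_pow _ _ (by omega)
    omega
  obtain ⟨r, hr⟩ := CharP.exists F
  obtain ⟨m, hrp, hm⟩ := FiniteField.card F r
  haveI := Fact.mk hrp
  have hrodd : Odd r := by
    rw [hm] at hodd
    exact (Nat.odd_pow_iff m.pos.ne').mp hodd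
  have hr2 := hrp.two_le
  by_cases h1 : (m : ℕ) = 1
  · rw [h1, pow_one] at hm
    refine Or.inl ⟨hm ▸ hrp, ?_, h16'⟩
    rcases (by omega : Fintype.card F = 5 ∨ 5 < Fintype.card F) with h | h
    · obtain ⟨i⟩ := LinearGroup.psl_two_five (F := F) (by rw [Nat.card_eq_fintype_card, h])
      exact absurd (isCA_of_equiv (e.trans i).symm isCA_alt_five) hnCA
    · exact h
  · have hm2 : 2 ≤ (m : ℕ) := by have := m.pos; omega
    have hr7 := small_subfield e hP r 1 m hrodd le_rfl hm2 (by rw [hm, pow_one])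
    rw [pow_one] at hr7
    have hr35 : r = 3 ∨ r = 5 := by
      have := Nat.odd_iff.mp hrodd
      omega
    have hmp : (m : ℕ).Prime := by
      by_contra hnp
      obtain ⟨d, ⟨k, hk⟩, hd2, hdm⟩ := Nat.exists_dvd_of_not_prime2 hm2 hnp
      have hk2 : 2 ≤ k := by
        rcases k with _ | _ | k
        · rw [Nat.mul_zero] at hk; omega
        · rw [Nat.mul_one] at hk; omega
        · omega
      have h7 := small_subfield e hP r d k hrodd (by omega) hk2 (by rw [hm, hk, pow_mul])
      have h9 : 3 ^ 2 ≤ r ^ d :=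
        (Nat.pow_le_pow_left (by omega) 2).trans (Nat.pow_le_pow_right (by omega) hd2)
      omega
    have hmodd : (m : ℕ) ≠ 2 := by
      intro h
      rw [hm, h] at h16'
      rcases hr35 with rfl | rfl <;> norm_num at h16'
    rcases hr35 with rfl | rfl
    · exact Or.inr ⟨m, hmp, hmodd, Or.inl hm⟩
    · exact Or.inr ⟨m, hmp, hmodd, Or.inr hm⟩

end Cfsg.Agent.MinNonCA27
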