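import Cfsg.Agent.MinNonCA27.Defs
import Cfsg.Agent.S3188
import Cfsg.Agent.Lib.LinearGroup.Card

/-!
# Sylow 2-subgroups abelian modulo the centre: the identification
-/

set_option autoImplicit false
set_option linter.style.haveILetI false

namespace Cfsg.Agent.MinNonCA27

open Subgroup

universe u

namespace IdentAb

variable {G : Type*} [Group G]

theorem conj_mem_centralizer {t s g : G} (h : g * t * g⁻¹ = s)
    {x : G} (hx : x ∈ centralizer ({t} : Set G)) :
    g * x * g⁻¹ ∈ centralizer ({s} : Set G) := by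
  rw [mem_centralizer_singleton_iff] at hx ⊢
  calc g * x * g⁻¹ * s = g * (x * t) * g⁻¹ := by rw [← h]; group
    _ = g * (t * x) * g⁻¹ := by rw [hx]
    _ = s * (g * x * g⁻¹) := by rw [← h]; group

theorem not_solvable [Nontrivial G] (h : commutator G = ⊤) : ¬ Group.IsSolvable G := by
  intro hs
  obtain ⟨n, hn⟩ := (Group.isSolvable_def G).1 hs
  have hall : ∀ k, derivedSeries G k = ⊤ := by
    intro k
    induction k with
    | zero => exact derivedSeries_zero G
    | succ k ih => rw [derivedSeries_succ, ih, ← commutator_def, h]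
  exact top_ne_bot ((hall n).symm.trans hn)

end IdentAb

theorem identAb (hCent : CentStmt.{u}) (hSimple : SimpleStmt.{u}) : IdentAbStmt.{u} := by
  intro K _ _ hK S hS
  haveI := Fact.mk Nat.prime_two
  haveI := hK.nontrivial
  haveI hQs : IsSimpleGroup (K ⧸ center K) := hSimple K hK
  have hsur := QuotientGroup.mk'_surjective (center K)
  have hQns : ¬ Group.IsSolvable (K ⧸ center K) := by
    refine IdentAb.not_solvable ?_
    have h1 := Subgroup.map_commutator (f := QuotientGroup.mk' (center K)) (⊤ : Subgroup K) ⊤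
    rw [← commutator_def, hK.perfect, Subgroup.map_top_of_surjective _ hsur] at h1
    exact h1.symm
  set Sb := S.mapSurjective hsur with hSb
  have hmemS : ∀ a ∈ (Sb : Subgroup (K ⧸ center K)),
      ∃ s ∈ (S : Subgroup K), QuotientGroup.mk' (center K) s = a := by
    intro a ha
    rw [hSb, Sylow.coe_mapSurjective] at ha
    exact ha
  have hcomm : ∀ a ∈ (S : Subgroup K), ∀ b ∈ (S : Subgroup K),
      a * b * a⁻¹ * b⁻¹ ∈ center K := by
    rcases hS with hab | hel
    · intro a ha b hb
      have h1 : a * b = b * a :=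
        congrArg Subtype.val (hab.is_comm.comm (⟨a, ha⟩ : (S : Subgroup K)) ⟨b, hb⟩)
      rw [h1, show b * a * a⁻¹ * b⁻¹ = 1 by group]
      exact one_mem _
    · exact fun a ha b hb => (hel a ha b hb).1
  have hSab : IsMulCommutative (Sb : Subgroup (K ⧸ center K)) := by
    refine IsMulCommutative.of_comm fun a b => Subtype.ext ?_
    obtain ⟨x, hx, hxa⟩ := hmemS a a.2
    obtain ⟨y, hy, hyb⟩ := hmemS b b.2
    show (a : K ⧸ center K) * b = b * a
    have h1 : QuotientGroup.mk' (center K) (x * y * x⁻¹ * y⁻¹) = 1 :=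
      (QuotientGroup.eq_one_iff _).2 (hcomm x hx y hy)
    rw [map_mul, map_mul, map_mul, map_inv, map_inv, mul_inv_eq_one, mul_inv_eq_iff_eq_mul] at h1
    rw [← hxa, ← hyb]
    exact h1
  have hC : ∀ t : K ⧸ center K, orderOf t = 2 →
      Group.IsSolvable ↥(centralizer ({t} : Set (K ⧸ center K))) := by
    intro t ht
    have h2 : IsPGroup 2 ↥(zpowers t) :=
      IsPGroup.of_card (n := 1) (by rw [Nat.card_zpowers, ht, pow_one])
    obtain ⟨P, hP⟩ := h2.exists_le_sylow
    obtain ⟨g, hg⟩ := MulAction.exists_smul_eq (K ⧸ center K) P Sb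
    have hmem : g * t * g⁻¹ ∈ (Sb : Subgroup (K ⧸ center K)) := by
      rw [← hg, Sylow.coe_subgroup_smul]
      exact ⟨t, hP (mem_zpowers t), rfl⟩
    obtain ⟨s, hs, hst⟩ := hmemS _ hmem
    have hso : orderOf (QuotientGroup.mk' (center K) s) = 2 := by
      rw [hst]
      exact (orderOf_injective (MulAut.conj g).toMonoidHom (MulAut.conj g).injective t).trans ht
    have hsn : s ∉ center K := fun hc => by
      rw [QuotientGroup.mk'_apply, (QuotientGroup.eq_one_iff s).2 hc, orderOf_one] at hso
      omega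
    have hss : s * s ∈ center K := by
      rw [← QuotientGroup.eq_one_iff, ← QuotientGroup.mk'_apply, map_mul, ← pow_two, ← hso,
        pow_orderOf_eq_one]
    have hsol : Group.IsSolvable (preC s) :=
      hCent K hK S s hs hsn hss fun r hr => hcomm s hs r hr
    haveI : Group.IsSolvable ↥((centralizer ({(QuotientGroup.mk s : K ⧸ center K)} :
        Set (K ⧸ center K))).comap (QuotientGroup.mk' (center K))) := hsol
    have hsol2 : Group.IsSolvable
        ↥(centralizer ({(QuotientGroup.mk s : K ⧸ center K)} : Set (K ⧸ center K))) :=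
      Group.isSolvable_of_surjective (f := ((QuotientGroup.mk' (center K)).subgroupComap _ :
          ↥(preC s) →* ↥(centralizer ({(QuotientGroup.mk s : K ⧸ center K)} :
            Set (K ⧸ center K)))))
        (MonoidHom.subgroupComap_surjective_of_surjective _ _ hsur)
    let f : ↥(centralizer ({t} : Set (K ⧸ center K))) →*
        ↥(centralizer ({(QuotientGroup.mk s : K ⧸ center K)} : Set (K ⧸ center K))) :=
      ((MulAut.conj g).toMonoidHom.comp (centralizer ({t} : Set (K ⧸ center K))).subtype).codRestrict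
        _ fun x => IdentAb.conj_mem_centralizer hst.symm x.2
    haveI := hsol2
    exact Group.isSolvable_of_isSolvable_injective (f := f) fun a b hab =>
      Subtype.ext ((MulAut.conj g).injective (congrArg Subtype.val hab))
  rcases S3188.result Sb hSab hC with hsol | ⟨F, hF, hFF, hq, N, hN, ⟨e⟩, -⟩
  · exact absurd hsol hQns
  refine ⟨F, hF, hFF, hq, ?_⟩
  have hF4 : 4 ≤ Nat.card F := by
    rw [Nat.card_eq_fintype_card]
    rcases hq with ⟨-, h5⟩ | ⟨n, hn, h⟩
    · omega
    · rw [h]; calc 4 = 2 ^ 2 := rfl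
        _ ≤ 2 ^ n := Nat.pow_le_pow_right (by norm_num) hn
  have hPSL : 1 < Nat.card (Matrix.ProjectiveSpecialLinearGroup (Fin 2) F) := by
    have h1 := LinearGroup.gcd_mul_card_PSL_two (F := F)
    have h2 : 2 * 15 ≤ Nat.card F * (Nat.card F ^ 2 - 1) :=
      Nat.mul_le_mul (by omega) (by
        have : 4 ^ 2 ≤ Nat.card F ^ 2 := Nat.pow_le_pow_left hF4 2
        omega)
    rw [← h1] at h2
    have h3 : Nat.gcd 2 (Nat.card F - 1) ≤ 2 := Nat.gcd_le_left _ two_pos
    nlinarith
  have hO : Cfsg.oddCore (K ⧸ center K) = ⊥ := by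
    rcases IsSimpleGroup.eq_bot_or_eq_top_of_normal (Cfsg.oddCore (K ⧸ center K)) inferInstance
      with h | h
    · exact h
    · exfalso
      have hsub : Subsingleton ((K ⧸ center K) ⧸ Cfsg.oddCore (K ⧸ center K)) := by
        rw [QuotientGroup.subsingleton_iff]; exact h
      rw [← Nat.card_congr e.toEquiv, Nat.card_unique] at hPSL
      omega
  let ι := (QuotientGroup.quotientMulEquivOfEq hO).trans QuotientGroup.quotientBot
  have hNt : N = ⊤ := by
    haveI : IsSimpleGroup ((K ⧸ center K) ⧸ Cfsg.oddCore (K ⧸ center K)) := ι.isSimpleGroup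
    refine (IsSimpleGroup.eq_bot_or_eq_top_of_normal N hN).resolve_left fun hb => ?_
    rw [← Nat.card_congr e.toEquiv, hb, card_bot] at hPSL
    omega
  exact ⟨ι.symm.trans (topEquiv.symm.trans ((MulEquiv.subgroupCongr hNt.symm).trans e))⟩

end Cfsg.Agent.MinNonCA27
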