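import Cfsg.Agent.MinNonCA27.Defs
import Cfsg.Agent.S0508
import Cfsg.Agent.S1221
import Cfsg.Agent.H40.Dihedral
import Cfsg.Agent.Lib.Involution.StronglyEmbedded
import Cfsg.Agent.Lib.Involution.IndexTwo
import Cfsg.Agent.InvChar.ZStarApps
import Cfsg.Agent.Lib.LinearGroup.Card

/-!
# S4369: groups with a dihedral Sylow 2-subgroup modulo the centre

`IdentDihStmt`: the hypotheses of the Brauer-Suzuki-Wall type recognition (S0508) hold in `K ⧸ Z`.
-/

set_option autoImplicit false
set_option linter.style.haveILetI false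
set_option linter.unusedSectionVars false

open Subgroup
open scoped commutatorElement

namespace Cfsg.Agent.MinNonCA27

universe u

namespace IdentDihAux

variable {K : Type u} [Group K] [Finite K]

theorem mk_eq_iff {a b : K} :
    (QuotientGroup.mk' (center K)) a = QuotientGroup.mk' (center K) b ↔ a⁻¹ * b ∈ center K :=
  QuotientGroup.eq

theorem mem_preC {T d : K} :
    d ∈ preC T ↔ QuotientGroup.mk' (center K) d * QuotientGroup.mk' (center K) T =
      QuotientGroup.mk' (center K) T * QuotientGroup.mk' (center K) d := by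
  rw [preC, mem_comap, mem_centralizer_singleton_iff]
  rfl

theorem comm_mem_center {T d : K} (hd : d ∈ preC T) : T * d * T⁻¹ * d⁻¹ ∈ center K := by
  rw [← QuotientGroup.eq_one_iff]
  show QuotientGroup.mk' (center K) (T * d * T⁻¹ * d⁻¹) = 1
  rw [map_mul, map_mul, map_mul, map_inv, map_inv, ← mem_preC.1 hd]
  group

theorem mem_preC_of_comm {T d : K} (h : T * d * T⁻¹ * d⁻¹ ∈ center K) : d ∈ preC T := by
  rw [mem_preC]
  have h1 : QuotientGroup.mk' (center K) (T * d * T⁻¹ * d⁻¹) = 1 :=
    (QuotientGroup.eq_one_iff _).2 h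
  rw [map_mul, map_mul, map_mul, map_inv, map_inv, mul_inv_eq_one, mul_inv_eq_iff_eq_mul] at h1
  exact h1.symm

theorem mem_preC_of_commute {T d : K} (h : d * T = T * d) : d ∈ preC T := by
  rw [mem_preC, ← map_mul, h, map_mul]

/-- Odd order lift of an element of odd order. -/
theorem exists_odd_lift {L : Subgroup K} {y : K ⧸ center K}
    (hy : y ∈ L.map (QuotientGroup.mk' (center K))) (ho : Odd (orderOf y)) :
    ∃ a ∈ L, QuotientGroup.mk' (center K) a = y ∧ Odd (orderOf a) := by
  obtain ⟨a, ha, rfl⟩ := hy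
  set π := QuotientGroup.mk' (center K)
  obtain ⟨e, r, hr, her⟩ := Nat.exists_eq_two_pow_mul_odd (orderOf_pos a).ne'
  have hcop : (2 ^ e).Coprime (orderOf (π a)) :=
    Nat.Coprime.pow_left e (Nat.coprime_two_left.mpr ho)
  obtain ⟨n, hn0, hn1⟩ := Nat.chineseRemainder hcop 0 1
  refine ⟨a ^ n, pow_mem ha n, ?_, ?_⟩
  · rw [map_pow]
    conv_rhs => rw [← pow_one (π a)]
    exact pow_eq_pow_iff_modEq.2 hn1
  · refine hr.of_dvd_nat (orderOf_dvd_of_pow_eq_one ?_)
    rw [← pow_mul]
    refine orderOf_dvd_iff_pow_eq_one.1 ?_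
    rw [her]
    exact Nat.mul_dvd_mul_right (Nat.modEq_zero_iff_dvd.1 hn0) r

/-- A 2-subgroup element is conjugate into a given Sylow subgroup inside an overgroup. -/
theorem exists_conj_mem_sylow {G : Type u} [Group G] [Finite G] (S : Sylow 2 G) {L : Subgroup G}
    (hSL : (S : Subgroup G) ≤ L) {x : G} (hx : x ∈ L) {k : ℕ} (hxk : orderOf x = 2 ^ k) :
    ∃ e ∈ L, e * x * e⁻¹ ∈ (S : Subgroup G) := by
  haveI : Fact (Nat.Prime 2) := ⟨Nat.prime_two⟩
  have hP : IsPGroup 2 (zpowers (⟨x, hx⟩ : L)) := IsPGroup.of_card (n := k) (by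
    rw [Nat.card_zpowers, Subgroup.orderOf_mk, hxk])
  obtain ⟨P, hP'⟩ := hP.exists_le_sylow
  obtain ⟨m, hm⟩ := MulAction.exists_smul_eq L P (S.subtype hSL)
  refine ⟨m, m.2, ?_⟩
  have hu : m * ⟨x, hx⟩ * m⁻¹ ∈ (S.subtype hSL : Subgroup L) := by
    rw [← hm]
    exact ⟨_, hP' (mem_zpowers _), rfl⟩
  exact hu

variable {S : Sylow 2 K} {T c u : K} (hK : Hyp K) (hD : Dih (S : Subgroup K) T c u)

include hD

theorem sylow_le_preC : (S : Subgroup K) ≤ preC T := fun s hs =>
  mem_preC_of_comm (hD.T_central s hs)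

theorem u_mem_preC : u ∈ preC T := sylow_le_preC hD hD.u_mem

theorem preC_cases {d : K} (hd : d ∈ preC T) :
    d * T = T * d ∨ (u⁻¹ * d) * T = T * (u⁻¹ * d) := by
  let f : preC T →* K :=
    { toFun := fun x => T * (x : K) * T⁻¹ * (x : K)⁻¹
      map_one' := by simp
      map_mul' := fun x y => by
        have hy := comm_mem_center y.2
        have e := (mem_center_iff.1 hy (x : K)).symm
        push_cast
        calc T * ((x : K) * (y : K)) * T⁻¹ * ((x : K) * (y : K))⁻¹
            = T * (x : K) * T⁻¹ * ((T * (y : K) * T⁻¹ * (y : K)⁻¹) * (x : K)⁻¹) := by group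
          _ = T * (x : K) * T⁻¹ * ((x : K)⁻¹ * (T * (y : K) * T⁻¹ * (y : K)⁻¹)) := by
              rw [mem_center_iff.1 hy (x : K)⁻¹]
          _ = T * (x : K) * T⁻¹ * (x : K)⁻¹ * (T * (y : K) * T⁻¹ * (y : K)⁻¹) := by group }
  have hf : ∀ x : preC T, f x = 1 ↔ (x : K) * T = T * (x : K) := fun x => by
    show T * (x : K) * T⁻¹ * (x : K)⁻¹ = 1 ↔ _
    rw [mul_inv_eq_one, mul_inv_eq_iff_eq_mul]
    exact eq_comm
  have hsq : ∀ x : preC T, f x * f x = 1 := fun x => by
    have hz := comm_mem_center x.2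
    have hT := mem_center_iff.1 hD.T_sq (x : K)
    set z := T * (x : K) * T⁻¹ * (x : K)⁻¹ with hzdef
    show z * z = 1
    have h1 : T * (x : K) * T⁻¹ = z * (x : K) := by rw [hzdef]; group
    have h2 : T * T * (x : K) * (T * T)⁻¹ = (x : K) := by rw [← hT]; group
    have h3 : T * z * T⁻¹ = z := by rw [mem_center_iff.1 hz T]; group
    have h4 : z * z * (x : K) = (x : K) := by
      calc z * z * (x : K) = z * (T * (x : K) * T⁻¹) := by rw [h1, mul_assoc]
        _ = T * z * T⁻¹ * (T * (x : K) * T⁻¹) := by rw [h3]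
        _ = T * (z * (x : K)) * T⁻¹ := by group
        _ = T * T * (x : K) * (T * T)⁻¹ := by rw [← h1]; group
        _ = (x : K) := h2
    exact mul_right_cancel (h4.trans (one_mul _).symm)
  set D : preC T := ⟨d, hd⟩ with hDdef
  obtain ⟨e, r, hr, her⟩ := Nat.exists_eq_two_pow_mul_odd (orderOf_pos d).ne'
  have hord : orderOf (d ^ r) = 2 ^ e := by
    rw [orderOf_pow_of_dvd hr.pos.ne' (her ▸ dvd_mul_left r _), her]
    exact Nat.mul_div_cancel _ hr.pos
  obtain ⟨g, hg, hgs⟩ := exists_conj_mem_sylow S (sylow_le_preC hD) (pow_mem hd r) hord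
  set s : preC T := ⟨g, hg⟩ * D ^ r * (⟨g, hg⟩ : preC T)⁻¹ with hs
  have hsS : (s : K) ∈ (S : Subgroup K) := by rw [hs]; push_cast; exact hgs
  have hfs : f D = f s := by
    obtain ⟨j, hj⟩ := hr
    have hcen : f ⟨g, hg⟩ * f (D ^ r) = f (D ^ r) * f ⟨g, hg⟩ :=
      mem_center_iff.1 (comm_mem_center (D ^ r).2) (f ⟨g, hg⟩)
    rw [hs, map_mul, map_mul, map_inv, hcen, mul_inv_cancel_right]
    show f D = f (D ^ r)
    rw [map_pow, hj, pow_add, pow_mul, pow_two, hsq, one_pow, one_mul, pow_one]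
  rcases hD.cosets _ hsS with h | h
  · left
    exact (hf D).1 (by rw [hfs]; exact (hf s).2 h)
  · right
    refine (hf (⟨u, u_mem_preC hD⟩⁻¹ * D)).1 ?_
    rw [map_mul, hfs, ← map_mul]
    exact (hf _).2 h

theorem mk_T_ne_one : QuotientGroup.mk' (center K) T ≠ 1 := fun h =>
  hD.T_not ((QuotientGroup.eq_one_iff _).1 h)

include hK

theorem center_quot [IsSimpleGroup (K ⧸ center K)] : center (K ⧸ center K) = ⊥ := by
  rcases (inferInstance : (center (K ⧸ center K)).Normal).eq_bot_or_eq_top with h | h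
  · exact h
  exfalso
  have h1 : commutator K ≤ center K := by
    rw [commutator_def, commutator_le]
    intro a _ b _
    rw [← QuotientGroup.eq_one_iff]
    show QuotientGroup.mk' (center K) (⁅a, b⁆) = 1
    rw [map_commutatorElement, commutatorElement_eq_one_iff_mul_comm]
    exact (mem_center_iff.1 (h ▸ mem_top _) _).symm
  exact hD.T_not (h1 (hK.perfect ▸ mem_top T))

theorem preC_ne_top [IsSimpleGroup (K ⧸ center K)] : preC T ≠ ⊤ := by
  intro h
  refine mk_T_ne_one hD ?_
  have : QuotientGroup.mk' (center K) T ∈ center (K ⧸ center K) := by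
    rw [mem_center_iff]
    intro g
    obtain ⟨d, rfl⟩ := QuotientGroup.mk'_surjective _ g
    exact mem_preC.1 (h ▸ mem_top d)
  rwa [center_quot hK hD, mem_bot] at this

theorem comm_cent [IsSimpleGroup (K ⧸ center K)] {a b : K} (ha : a * T = T * a)
    (hb : b * T = T * b) : a * b = b * a := by
  have hT : T ∈ preC T := mem_preC_of_commute rfl
  have hnc : (⟨T, hT⟩ : preC T) ∉ center (preC T) := fun h =>
    hD.u_not (congrArg Subtype.val (mem_center_iff.1 h ⟨u, u_mem_preC hD⟩))
  have := hK.proper _ (preC_ne_top hK hD) _ hnc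
  exact congrArg (fun x : centralizer ({(⟨T, hT⟩ : preC T)} : Set (preC T)) => ((x : preC T) : K))
    (this.is_comm.comm
      ⟨⟨a, mem_preC_of_commute ha⟩, mem_centralizer_singleton_iff.2 (Subtype.ext ha)⟩
      ⟨⟨b, mem_preC_of_commute hb⟩, mem_centralizer_singleton_iff.2 (Subtype.ext hb)⟩)

theorem ident [IsSimpleGroup (K ⧸ center K)] :
    ∃ (F : Type) (_ : Field F) (_ : Fintype F), Odd (Fintype.card F) ∧ 5 ≤ Fintype.card F ∧
      BarIso K F := by
  classical
  haveI : Fact (Nat.Prime 2) := ⟨Nat.prime_two⟩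
  set π := QuotientGroup.mk' (center K) with hπdef
  have hπs : Function.Surjective π := QuotientGroup.mk'_surjective _
  set t := π T with ht_def
  set cb := π c with hcb
  set ub := π u with hub
  set C := centralizer ({t} : Set (K ⧸ center K)) with hCdef
  set M := centralizer ({T} : Set K) with hMdef
  set Mb := M.map π with hMbdef
  set P := S.mapSurjective (f := π) hπs with hPdef
  -- elementary facts
  have ht1 : t ≠ 1 := mk_T_ne_one hD
  have htt : t * t = 1 := by rw [ht_def, ← map_mul]; exact (QuotientGroup.eq_one_iff _).2 hD.T_sq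
  have hto : orderOf t = 2 := orderOf_eq_prime (by rw [sq]; exact htt) ht1
  have huu : ub * ub = 1 := by rw [hub, ← map_mul]; exact (QuotientGroup.eq_one_iff _).2 hD.u_sq
  have hui : ub⁻¹ = ub := inv_eq_of_mul_eq_one_right huu
  have hZM : center K ≤ M := center_le_centralizer _
  have hliftM : ∀ d : K, π d ∈ Mb → d ∈ M := by
    rintro d ⟨m, hm, hmd⟩
    have := mul_mem hm (hZM (mk_eq_iff.1 hmd))
    rwa [mul_inv_cancel_left] at this
  have hMcomm : ∀ a ∈ M, ∀ b ∈ M, a * b = b * a := fun a ha b hb =>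
    comm_cent hK hD (mem_centralizer_singleton_iff.1 ha) (mem_centralizer_singleton_iff.1 hb)
  have hMbcomm : ∀ x ∈ Mb, ∀ y ∈ Mb, x * y = y * x := by
    rintro _ ⟨a, ha, rfl⟩ _ ⟨b, hb, rfl⟩
    rw [← map_mul, hMcomm a ha b hb, map_mul]
  have hmemC : ∀ d : K, π d ∈ C ↔ d ∈ preC T := fun d => by
    rw [hCdef, mem_centralizer_singleton_iff]
    exact mem_preC.symm
  have hMbC : Mb ≤ C := by
    rintro _ ⟨a, ha, rfl⟩
    exact (hmemC a).2 (mem_preC_of_commute (mem_centralizer_singleton_iff.1 ha))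
  have hubC : ub ∈ C := (hmemC u).2 (u_mem_preC hD)
  have hubM : ub ∉ Mb := fun h => hD.u_not (mem_centralizer_singleton_iff.1 (hliftM u h))
  have htMb : t ∈ Mb := ⟨T, mem_centralizer_singleton_iff.2 rfl, rfl⟩
  have hcbMb : cb ∈ Mb := ⟨c, mem_centralizer_singleton_iff.2 hD.comm_T, rfl⟩
  have hzMb : zpowers cb ≤ Mb := zpowers_le.2 hcbMb
  have hCcases : ∀ x ∈ C, x ∈ Mb ∨ ub⁻¹ * x ∈ Mb := by
    intro x hx
    obtain ⟨d, rfl⟩ := hπs x
    rcases preC_cases hD ((hmemC d).1 hx) with h | h
    · exact Or.inl ⟨d, mem_centralizer_singleton_iff.2 h, rfl⟩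
    · exact Or.inr ⟨u⁻¹ * d, mem_centralizer_singleton_iff.2 h, by rw [map_mul, map_inv]⟩
  have hubnorm : ∀ x ∈ Mb, ub * x * ub⁻¹ ∈ Mb := by
    intro x hx
    rcases hCcases _ (mul_mem (mul_mem hubC (hMbC hx)) (inv_mem hubC)) with h | h
    · exact h
    · exfalso
      have h1 : ub⁻¹ * (ub * x * ub⁻¹) = x * ub⁻¹ := by group
      rw [h1, hui] at h
      exact hubM (by simpa using mul_mem (inv_mem hx) h)
  have hMbnorm : ∀ e ∈ C, ∀ x ∈ Mb, e * x * e⁻¹ ∈ Mb := by
    intro e he x hx
    rcases hCcases e he with h | h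
    · rw [hMbcomm e h x hx, mul_inv_cancel_right]; exact hx
    · have h1 : e * x * e⁻¹ = ub * ((ub⁻¹ * e) * x * (ub⁻¹ * e)⁻¹) * ub⁻¹ := by group
      rw [h1, hMbcomm _ h x hx, mul_inv_cancel_right]
      exact hubnorm x hx
  have hoddMb : ∀ x ∈ C, Odd (orderOf x) → x ∈ Mb := by
    intro x hx hodd
    have hx2 : x * x ∈ Mb := by
      rcases hCcases x hx with h | h
      · exact mul_mem h h
      · have h1 : x * x = (ub * (ub⁻¹ * x) * ub⁻¹) * (ub * ub) * (ub⁻¹ * x) := by group
        rw [h1, huu, mul_one]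
        exact mul_mem (hubnorm _ h) h
    obtain ⟨j, hj⟩ := hodd
    have h2 : (x * x) ^ (j + 1) = x := by
      rw [← pow_two, ← pow_mul, show 2 * (j + 1) = orderOf x + 1 by omega, pow_add,
        pow_orderOf_eq_one, one_mul, pow_one]
    rw [← h2]
    exact pow_mem hx2 _
  -- the Sylow 2-subgroup
  have hPmem : ∀ {x : K ⧸ center K}, x ∈ (P : Subgroup (K ⧸ center K)) ↔
      ∃ s ∈ (S : Subgroup K), π s = x := by
    intro x
    exact Subgroup.mem_map
  have hcbP : cb ∈ (P : Subgroup (K ⧸ center K)) := hPmem.2 ⟨c, hD.c_mem, rfl⟩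
  have hubP : ub ∈ (P : Subgroup (K ⧸ center K)) := hPmem.2 ⟨u, hD.u_mem, rfl⟩
  have htP : t ∈ (P : Subgroup (K ⧸ center K)) := hPmem.2 ⟨T, hD.T_mem, rfl⟩
  have hPC : (P : Subgroup (K ⧸ center K)) ≤ C := by
    intro x hx
    obtain ⟨s, hs, rfl⟩ := hPmem.1 hx
    exact (hmemC s).2 (sylow_le_preC hD hs)
  have hPM : ∀ x ∈ (P : Subgroup (K ⧸ center K)), x ∈ Mb → x ∈ zpowers cb := by
    intro x hx hxM
    obtain ⟨s, hs, rfl⟩ := hPmem.1 hx
    obtain ⟨i, hi⟩ := hD.cyclic s hs (mem_centralizer_singleton_iff.1 (hliftM s hxM))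
    refine ⟨i, ?_⟩
    show cb ^ i = π s
    rw [hcb, ← map_zpow]
    exact mk_eq_iff.2 hi
  have hinv : ub * cb * ub⁻¹ = cb⁻¹ := by
    apply eq_inv_of_mul_eq_one_right
    rw [hub, hcb, ← map_inv, ← map_mul, ← map_mul, ← map_mul]
    exact (QuotientGroup.eq_one_iff _).2 (hD.inverts c hD.c_mem hD.comm_T)
  obtain ⟨k, hk⟩ : ∃ k, orderOf cb = 2 ^ k := by
    obtain ⟨k, hk⟩ := IsPGroup.iff_orderOf.1 P.2 ⟨cb, hcbP⟩
    exact ⟨k, by rw [← hk, Subgroup.orderOf_mk]⟩
  have hk2 : 2 ≤ k := by
    by_contra hlt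
    refine hD.c_sq ((QuotientGroup.eq_one_iff _).1 ?_)
    show π (c * c) = 1
    rw [map_mul, ← pow_two]
    refine orderOf_dvd_iff_pow_eq_one.1 ?_
    rw [← hcb, hk]
    exact Dvd.intro_left (2 ^ (1 - k)) (by rw [← pow_add, show 1 - k + k = 1 by omega, pow_one])
  set m := orderOf cb with hm
  have hm4 : 4 ∣ m := by
    rw [hk]
    exact dvd_trans (show 4 ∣ 2 ^ 2 by norm_num) (pow_dvd_pow 2 hk2)
  have hPgen : (P : Subgroup (K ⧸ center K)) = zpowers ub ⊔ zpowers cb := by
    refine le_antisymm ?_ (sup_le (zpowers_le.2 hubP) (zpowers_le.2 hcbP))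
    intro x hx
    rcases hCcases x (hPC hx) with h | h
    · exact mem_sup_right (hPM x hx h)
    · have h1 := hPM _ (mul_mem (inv_mem hubP) hx) h
      rw [show x = ub * (ub⁻¹ * x) by group]
      exact mul_mem (mem_sup_left (mem_zpowers ub)) (mem_sup_right h1)
  have hubz : ub ∉ zpowers cb := fun h => hubM (hzMb h)
  have hdih : Nonempty ((P : Subgroup (K ⧸ center K)) ≃* DihedralGroup m) := by
    obtain ⟨e⟩ := H40.nonempty_mulEquiv_dihedral hm.symm huu hinv hubz
    exact ⟨(MulEquiv.subgroupCongr hPgen).trans e⟩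
  have hcardP : Nat.card (P : Subgroup (K ⧸ center K)) = 2 * m := by
    obtain ⟨e⟩ := hdih
    rw [Nat.card_congr e.toEquiv, DihedralGroup.nat_card]
  have h8 : 8 ∣ Nat.card (K ⧸ center K) := by
    refine dvd_trans ?_ (hcardP ▸ card_subgroup_dvd_card (P : Subgroup (K ⧸ center K)))
    obtain ⟨j, hj⟩ := hm4
    exact ⟨j, by rw [hj]; ring⟩
  -- involutions
  have huniq : ∀ x ∈ zpowers cb, orderOf x = 2 → x = t := by
    intro x hx hxo
    have := Involution.involution_unique_of_isCyclic
      (a := (⟨x, hx⟩ : zpowers cb)) (b := ⟨t, hPM t htP htMb⟩)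
      (by rw [Subgroup.orderOf_mk]; exact hxo) (by rw [Subgroup.orderOf_mk]; exact hto)
    exact congrArg Subtype.val this
  have hoconj : ∀ g x : K ⧸ center K, orderOf (g * x * g⁻¹) = orderOf x := fun g x =>
    orderOf_injective (MulAut.conj g).toMonoidHom (MulAut.conj g).injective x
  have huniqM : ∀ x ∈ Mb, orderOf x = 2 → x = t := by
    intro x hx hxo
    obtain ⟨e, he, hex⟩ := exists_conj_mem_sylow P hPC (hMbC hx) (k := 1) (by rw [hxo, pow_one])
    have h1 := huniq _ (hPM _ hex (hMbnorm e he x hx)) (by rw [hoconj]; exact hxo)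
    have h2 : e * t = t * e := mem_centralizer_singleton_iff.1 he
    calc x = e⁻¹ * (e * x * e⁻¹) * e := by group
      _ = e⁻¹ * t * e := by rw [h1]
      _ = e⁻¹ * (e * t) := by rw [h2]; group
      _ = t := by group
  have hNP : normalizer ((P : Subgroup (K ⧸ center K)) : Set (K ⧸ center K)) ≤ C := by
    intro n hn
    rw [hCdef, mem_centralizer_singleton_iff]
    have hx : n * t * n⁻¹ ∈ (P : Subgroup (K ⧸ center K)) := (mem_normalizer_iff.1 hn t).1 htP
    have hxc : cb * (n * t * n⁻¹) = (n * t * n⁻¹) * cb := by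
      have h1 : n⁻¹ * cb * n ∈ (P : Subgroup (K ⧸ center K)) := by
        simpa using (mem_normalizer_iff.1 (inv_mem hn) cb).1 hcbP
      have h2 : n⁻¹ * cb * n * t = t * (n⁻¹ * cb * n) :=
        mem_centralizer_singleton_iff.1 (hPC h1)
      calc cb * (n * t * n⁻¹) = n * (n⁻¹ * cb * n * t) * n⁻¹ := by group
        _ = n * (t * (n⁻¹ * cb * n)) * n⁻¹ := by rw [h2]
        _ = _ := by group
    have hxo : orderOf (n * t * n⁻¹) = 2 := by rw [hoconj]; exact hto
    suffices h : n * t * n⁻¹ = t by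
      calc n * t = n * t * n⁻¹ * n := by group
        _ = t * n := by rw [h]
    rcases hCcases _ (hPC hx) with h | h
    · exact huniq _ (hPM _ hx h) hxo
    · exfalso
      set w := ub⁻¹ * (n * t * n⁻¹) with hw
      have hxw : n * t * n⁻¹ = ub * w := by rw [hw]; group
      rw [hxw] at hxc
      have hwc : w * cb = cb * w := hMbcomm w h cb hcbMb
      have h1 : ub * cb = cb * ub := by
        refine mul_right_cancel (b := w) ?_
        rw [mul_assoc, ← hwc, ← mul_assoc, ← hxc, mul_assoc]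
      have h2 : cb = cb⁻¹ := by rw [← hinv, h1, mul_inv_cancel_right]
      refine hD.c_sq ((QuotientGroup.eq_one_iff _).1 ?_)
      show π (c * c) = 1
      rw [map_mul]
      exact mul_eq_one_iff_eq_inv.2 h2
  have hidx : ∀ N : Subgroup (K ⧸ center K), N.Normal → N.index ≠ 2 := by
    intro N hN hi
    rcases hN.eq_bot_or_eq_top with rfl | rfl
    · rw [index_bot] at hi; omega
    · rw [index_top] at hi; omega
  have hzidx : (zpowers cb).relIndex (P : Subgroup (K ⧸ center K)) = 2 := by
    have h1 := ((zpowers cb).subgroupOf (P : Subgroup (K ⧸ center K))).card_mul_index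
    rw [Nat.card_congr (subgroupOfEquivOfLe (zpowers_le.2 hcbP)).toEquiv, Nat.card_zpowers,
      hcardP, ← hm] at h1
    have : 0 < m := orderOf_pos cb
    exact Nat.eq_of_mul_eq_mul_left this (h1.trans (mul_comm 2 m))
  have htcenter : t ∉ center (K ⧸ center K) := fun h => ht1 (by
    rwa [center_quot hK hD, mem_bot] at h)
  -- the key step: `u` fixes no nontrivial element of odd order of `Mb`
  have hfix : ∀ y ∈ Mb, Odd (orderOf y) → ub * y = y * ub → y = 1 := by
    intro y hy hodd hcomm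
    by_contra hy1
    obtain ⟨a, haM, hay, hao⟩ := exists_odd_lift hy hodd
    change π a = y at hay
    have hau : a * u = u * a := by
      have hz : u * a * u⁻¹ * a⁻¹ ∈ center K := by
        rw [← QuotientGroup.eq_one_iff]
        show π (u * a * u⁻¹ * a⁻¹) = 1
        rw [map_mul, map_mul, map_mul, map_inv, map_inv, hay, ← hub, hcomm]
        group
      set z := u * a * u⁻¹ * a⁻¹ with hzdef
      have h1 : u * a * u⁻¹ = z * a := by rw [hzdef]; group
      have h2 : u * u * a * (u * u)⁻¹ = a := by rw [← mem_center_iff.1 hD.u_sq a]; group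
      have h3 : u * z * u⁻¹ = z := by rw [mem_center_iff.1 hz u]; group
      have hz2 : z * z = 1 := by
        refine mul_right_cancel (b := a) (Eq.trans ?_ (one_mul a).symm)
        calc z * z * a = z * (u * a * u⁻¹) := by rw [h1, mul_assoc]
          _ = u * z * u⁻¹ * (u * a * u⁻¹) := by rw [h3]
          _ = u * (z * a) * u⁻¹ := by group
          _ = u * u * a * (u * u)⁻¹ := by rw [← h1]; group
          _ = a := h2
      have hzn : z ^ orderOf a = 1 := by
        have h4 : (z * a) ^ orderOf a = 1 := by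
          rw [← h1, conj_pow, pow_orderOf_eq_one, mul_one, mul_inv_cancel]
        rw [(show Commute z a from (mem_center_iff.1 hz a).symm).mul_pow, pow_orderOf_eq_one,
          mul_one] at h4
        exact h4
      obtain ⟨j, hj⟩ := hao
      rw [hj, pow_add, pow_mul, pow_two, hz2, one_pow, one_mul, pow_one] at hzn
      rw [hzn, one_mul, mul_inv_eq_iff_eq_mul] at h1
      exact h1.symm
    have haD : ∀ d ∈ preC T, d * a = a * d := by
      intro d hd
      rcases preC_cases hD hd with h | h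
      · exact hMcomm d (mem_centralizer_singleton_iff.2 h) a haM
      · have h1 := hMcomm _ (mem_centralizer_singleton_iff.2 h) a haM
        calc d * a = u * ((u⁻¹ * d) * a) := by group
          _ = (u * a) * (u⁻¹ * d) := by rw [h1]; group
          _ = a * d := by rw [← hau]; group
    set L := centralizer ({y} : Set (K ⧸ center K)) with hLdef
    have hCL : C ≤ L := by
      intro x hx
      obtain ⟨d, rfl⟩ := hπs x
      rw [hLdef, mem_centralizer_singleton_iff, ← hay, ← map_mul, haD d ((hmemC d).1 hx), map_mul]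
    have hLtop : L ≠ ⊤ := fun h => hy1 (by
      have : y ∈ center (K ⧸ center K) := mem_center_iff.2 fun g =>
        mem_centralizer_singleton_iff.1 (show g ∈ L from h ▸ mem_top g)
      rwa [center_quot hK hD, mem_bot] at this)
    have hCi : ∀ i ∈ (P : Subgroup (K ⧸ center K)), orderOf i = 2 →
        centralizer ({i} : Set (K ⧸ center K)) ≤ L := by
      intro i hi hio
      by_cases hiM : i ∈ Mb
      · rw [huniq i (hPM i hi hiM) hio]; exact hCL
      -- fused into the cyclic part
      obtain ⟨g, hg⟩ : ∃ g : K ⧸ center K, g * i * g⁻¹ ∈ zpowers cb := by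
        by_contra hno
        push Not at hno
        obtain ⟨N, hN, hN2, -⟩ := Involution.thompson_transfer P _ (zpowers_le.2 hcbP) hzidx
          (Involution.mul_self_of_orderOf hio) hno
        exact hidx N hN hN2
      have hgt : g * i * g⁻¹ = t := huniq _ hg (by rw [hoconj]; exact hio)
      obtain ⟨s, hs, rfl⟩ := hPmem.1 hi
      obtain ⟨h, rfl⟩ := hπs g
      intro x hx
      obtain ⟨w, rfl⟩ := hπs x
      have hxs : π w * π s = π s * π w := mem_centralizer_singleton_iff.1 hx
      have hts : π T * π s = π s * π T := (mem_centralizer_singleton_iff.1 (hPC hi)).symm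
      -- transport to the centraliser of `T`
      have hconj : ∀ v : K, π v * π s = π s * π v → h * v * h⁻¹ ∈ preC T := by
        intro v hv
        refine (hmemC _).1 ?_
        rw [hCdef, mem_centralizer_singleton_iff, ← hgt, map_mul, map_mul, map_inv]
        calc π h * π v * (π h)⁻¹ * (π h * π s * (π h)⁻¹) = π h * (π v * π s) * (π h)⁻¹ := by group
          _ = π h * (π s * π v) * (π h)⁻¹ := by rw [hv]
          _ = _ := by group
      have hTz : ∃ z ∈ center K, h * s * h⁻¹ = T * z := by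
        refine ⟨T⁻¹ * (h * s * h⁻¹), mk_eq_iff.1 ?_, by group⟩
        show π T = π (h * s * h⁻¹)
        rw [map_mul, map_mul, map_inv, hgt]
      obtain ⟨z, hz, hzs⟩ := hTz
      have hback : ∀ v : K, h * v * h⁻¹ ∈ M → v * s = s * v := by
        intro v hv
        have h1 : h * v * h⁻¹ * (T * z) = T * z * (h * v * h⁻¹) := by
          rw [← mul_assoc, mem_centralizer_singleton_iff.1 hv, mul_assoc T, mem_center_iff.1 hz,
            ← mul_assoc]
        rw [← hzs] at h1
        refine mul_left_cancel (a := h) (mul_right_cancel (b := h⁻¹) ?_)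
        calc h * (v * s) * h⁻¹ = h * v * h⁻¹ * (h * s * h⁻¹) := by group
          _ = h * s * h⁻¹ * (h * v * h⁻¹) := h1
          _ = h * (s * v) * h⁻¹ := by group
      have hT' : h * T * h⁻¹ ∉ M := fun hT' => hiM ⟨s, mem_centralizer_singleton_iff.2
        (hback T hT').symm, rfl⟩
      have hgood : ∀ v : K, h * v * h⁻¹ ∈ M → π v ∈ L := by
        intro v hv
        have hva : h * a * h⁻¹ ∈ M := by
          have has : s * a = a * s := haD s ((hmemC s).1 (hPC hi))
          rw [mem_centralizer_singleton_iff]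
          have h1 : h * a * h⁻¹ * (T * z) = T * z * (h * a * h⁻¹) := by
            rw [← hzs]
            calc h * a * h⁻¹ * (h * s * h⁻¹) = h * (a * s) * h⁻¹ := by group
              _ = h * (s * a) * h⁻¹ := by rw [has]
              _ = _ := by group
          rw [← mul_assoc, mul_assoc T z, ← mem_center_iff.1 hz, ← mul_assoc] at h1
          exact mul_right_cancel h1
        have h2 : v * a = a * v := by
          refine mul_left_cancel (a := h) (mul_right_cancel (b := h⁻¹) ?_)
          calc h * (v * a) * h⁻¹ = h * v * h⁻¹ * (h * a * h⁻¹) := by group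
            _ = h * a * h⁻¹ * (h * v * h⁻¹) := hMcomm _ hv _ hva
            _ = h * (a * v) * h⁻¹ := by group
        rw [hLdef, mem_centralizer_singleton_iff, ← hay, ← map_mul, h2, map_mul]
      have hw' := hconj w hxs
      have hT'' := hconj T hts
      have hT''' : u⁻¹ * (h * T * h⁻¹) ∈ M := by
        rcases preC_cases hD hT'' with h1 | h1
        · exact absurd (mem_centralizer_singleton_iff.2 h1) hT'
        · exact mem_centralizer_singleton_iff.2 h1
      rcases preC_cases hD hw' with h1 | h1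
      · exact hgood w (mem_centralizer_singleton_iff.2 h1)
      · have h3 : h * (T⁻¹ * w) * h⁻¹ ∈ M := by
          have h4 := mul_mem (inv_mem hT''') (mem_centralizer_singleton_iff.2 h1 : _ ∈ M)
          have h5 : (u⁻¹ * (h * T * h⁻¹))⁻¹ * (u⁻¹ * (h * w * h⁻¹)) = h * (T⁻¹ * w) * h⁻¹ := by
            group
          rwa [h5] at h4
        have h6 := mul_mem (hCL (hMbC htMb)) (hgood _ h3)
        rwa [ht_def, ← map_mul, mul_inv_cancel_left] at h6
    have hPL : (P : Subgroup (K ⧸ center K)) ≤ L := hPC.trans hCL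
    have hCinv : ∀ i ∈ L, orderOf i = 2 → centralizer ({i} : Set (K ⧸ center K)) ≤ L := by
      intro i hi hio x hx
      obtain ⟨e, he, hei⟩ := exists_conj_mem_sylow P hPL hi (k := 1) (by rw [hio, pow_one])
      have h1 : e * x * e⁻¹ ∈ L := hCi _ hei (by rw [hoconj]; exact hio)
        (mem_centralizer_singleton_iff.2 (by
          calc e * x * e⁻¹ * (e * i * e⁻¹) = e * (x * i) * e⁻¹ := by group
            _ = e * (i * x) * e⁻¹ := by rw [mem_centralizer_singleton_iff.1 hx]
            _ = _ := by group))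
      simpa [mul_assoc] using mul_mem (mul_mem (inv_mem he) h1) he
    have hSE : Cfsg.IsStronglyEmbedded L := by
      rw [Involution.stronglyEmbedded_iff]
      refine ⟨hLtop, Involution.even_card_of_involution (hPL htP) hto, fun g i hi hio hgi => ?_⟩
      obtain ⟨e₁, he₁, hei⟩ := exists_conj_mem_sylow P hPL hi (k := 1) (by rw [hio, pow_one])
      set i' := e₁ * i * e₁⁻¹ with hi'
      set g' := g * e₁⁻¹ with hg'
      have hg'i : g' * i' * g'⁻¹ = g * i * g⁻¹ := by rw [hi', hg']; group
      have hio' : orderOf i' = 2 := by rw [hi', hoconj]; exact hio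
      have h1 : g' * t * g'⁻¹ ∈ L := hCinv _ (hg'i ▸ hgi) (by rw [hoconj]; exact hio')
        (mem_centralizer_singleton_iff.2 (by
          have hti : i' * t = t * i' := mem_centralizer_singleton_iff.1 (hPC hei)
          calc g' * t * g'⁻¹ * (g' * i' * g'⁻¹) = g' * (t * i') * g'⁻¹ := by group
            _ = g' * (i' * t) * g'⁻¹ := by rw [hti]
            _ = _ := by group))
      have h2 : ∀ s ∈ (P : Subgroup (K ⧸ center K)), g' * s * g'⁻¹ ∈ L := fun s hs =>
        hCinv _ h1 (by rw [hoconj]; exact hto) (mem_centralizer_singleton_iff.2 (by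
          have hts : s * t = t * s := mem_centralizer_singleton_iff.1 (hPC hs)
          calc g' * s * g'⁻¹ * (g' * t * g'⁻¹) = g' * (s * t) * g'⁻¹ := by group
            _ = g' * (t * s) * g'⁻¹ := by rw [hts]
            _ = _ := by group))
      set Pg : Sylow 2 (K ⧸ center K) := g' • P with hPg
      have hPgL : (Pg : Subgroup (K ⧸ center K)) ≤ L := by
        intro x hx
        obtain ⟨s, hs, rfl⟩ := hx
        exact h2 s hs
      obtain ⟨l, hl⟩ := MulAction.exists_smul_eq L (Pg.subtype hPgL) (P.subtype hPL)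
      set n : K ⧸ center K := (l : K ⧸ center K) * g' with hn
      have hle : (P : Subgroup (K ⧸ center K)).map (MulAut.conj n).toMonoidHom ≤
          (P : Subgroup (K ⧸ center K)) := by
        rintro _ ⟨s, hs, rfl⟩
        have h4 : l * ⟨g' * s * g'⁻¹, h2 s hs⟩ * l⁻¹ ∈ (P.subtype hPL : Subgroup L) := by
          rw [← hl]
          exact ⟨⟨g' * s * g'⁻¹, h2 s hs⟩, ⟨s, hs, rfl⟩, rfl⟩
        show n * s * n⁻¹ ∈ (P : Subgroup (K ⧸ center K))
        have h5 : n * s * n⁻¹ = ((l * ⟨g' * s * g'⁻¹, h2 s hs⟩ * l⁻¹ : L) : K ⧸ center K) := by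
          rw [hn]; push_cast; group
        rw [h5]
        exact h4
      have h3 : n ∈ L := hCL (hNP (mem_normalizer_iff_map_conj_eq.2
        (eq_of_le_of_card_ge hle (by rw [card_map_of_injective (MulAut.conj n).injective]))))
      have h6 := mul_mem (mul_mem (inv_mem l.2) h3) he₁
      rwa [hn, hg', inv_mul_cancel_left, inv_mul_cancel_right] at h6
    have hcore := S1221.result L hSE
    have hQ : Cfsg.oddCore (K ⧸ center K) = ⊥ := by
      rcases (inferInstance : (Cfsg.oddCore (K ⧸ center K)).Normal).eq_bot_or_eq_top with h | h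
      · exact h
      · exfalso
        have h1 : Odd (Nat.card (Cfsg.oddCore (K ⧸ center K))) := InvChar.odd_oddCore
        rw [h, card_top] at h1
        exact Nat.not_even_iff_odd.2 h1 (even_iff_two_dvd.2 (dvd_trans (by norm_num) h8))
    rw [hQ] at hcore
    have hyL : y ∈ L := mem_centralizer_singleton_iff.2 rfl
    have hZy : zpowers (⟨y, hyL⟩ : L) ≤ Cfsg.oddCore L := by
      refine InvChar.le_oddCore ?_ (by rw [Nat.card_zpowers, Subgroup.orderOf_mk]; exact hodd)
      refine ⟨fun n hn g => ?_⟩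
      obtain ⟨j, rfl⟩ := mem_zpowers_iff.1 hn
      have hgy : g * ⟨y, hyL⟩ = ⟨y, hyL⟩ * g :=
        Subtype.ext (mem_centralizer_singleton_iff.1 g.2)
      rw [((show Commute g ⟨y, hyL⟩ from hgy).zpow_right j).eq, mul_inv_cancel_right]
      exact zpow_mem (mem_zpowers _) j
    exact hy1 ((mem_bot).1 (hcore ⟨_, hZy (mem_zpowers _), rfl⟩))
  have hinvert : ∀ y ∈ Mb, Odd (orderOf y) → ub * y * ub⁻¹ = y⁻¹ := by
    intro y hy hodd
    have hy' : ub * y * ub⁻¹ ∈ Mb := hubnorm y hy
    have hc' : Commute y (ub * y * ub⁻¹) := hMbcomm y hy _ hy'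
    have h1 := hfix (y * (ub * y * ub⁻¹)) (mul_mem hy hy')
      ((hodd.mul (by rw [hoconj]; exact hodd)).of_dvd_nat hc'.orderOf_mul_dvd_mul_orderOf) (by
        conv_rhs => rw [hc'.eq]
        rw [hui]
        calc ub * (y * (ub * y * ub)) = ub * y * ub * y * ub := by group
          _ = _ := rfl)
    exact eq_inv_of_mul_eq_one_right h1
  -- the odd core of `C`
  set O := (Cfsg.oddCore C).map C.subtype with hOdef
  have hOmem : ∀ y ∈ O, y ∈ Mb ∧ Odd (orderOf y) := by
    rintro _ ⟨y, hy, rfl⟩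
    have h1 : Odd (orderOf ((y : C) : K ⧸ center K)) := by
      rw [Subgroup.orderOf_coe]
      exact (InvChar.odd_oddCore (G := C)).of_dvd_nat
        (orderOf_dvd_natCard (⟨y, hy⟩ : Cfsg.oddCore C) |> fun h => by rwa [Subgroup.orderOf_mk] at h)
    exact ⟨hoddMb _ y.2 h1, h1⟩
  have hzO : ∀ x ∈ Mb, x ∈ centralizer (O : Set (K ⧸ center K)) := fun x hx =>
    mem_centralizer_iff.2 fun y hy => hMbcomm y (hOmem y hy).1 x hx
  have hcentO : ∀ s ∈ (P : Subgroup (K ⧸ center K)), s ∉ centralizer (O : Set (K ⧸ center K)) →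
      ∀ y ∈ O, s * y * s⁻¹ = y⁻¹ := by
    intro s hs hsn y hy
    rcases hCcases s (hPC hs) with h | h
    · exact absurd (hzO s h) hsn
    · have h1 : s * y * s⁻¹ = ub * ((ub⁻¹ * s) * y * (ub⁻¹ * s)⁻¹) * ub⁻¹ := by group
      rw [h1, hMbcomm _ h y (hOmem y hy).1, mul_inv_cancel_right]
      exact hinvert y (hOmem y hy).1 (hOmem y hy).2
  have ha : O ≠ ⊥ → IsCyclic ((P : Subgroup (K ⧸ center K)) ⊓
      centralizer (O : Set (K ⧸ center K)) : Subgroup (K ⧸ center K)) ∧
      ((P : Subgroup (K ⧸ center K)) ⊓ centralizer (O : Set (K ⧸ center K))).relIndex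
        (P : Subgroup (K ⧸ center K)) = 2 := by
    intro hO
    obtain ⟨⟨y, hy⟩, hy1⟩ := ne_bot_iff_exists_ne_one.1 hO
    have heq : (P : Subgroup (K ⧸ center K)) ⊓ centralizer (O : Set (K ⧸ center K)) = zpowers cb := by
      refine le_antisymm ?_ (le_inf (zpowers_le.2 hcbP) fun x hx => hzO x (hzMb hx))
      rintro x ⟨hxP, hxO⟩
      rcases hCcases x (hPC hxP) with h | h
      · exact hPM x hxP h
      · exfalso
        have hub' : ub ∈ centralizer (O : Set (K ⧸ center K)) := by
          have hxO' : x ∈ centralizer (O : Set (K ⧸ center K)) := hxO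
          have hi : (ub⁻¹ * x)⁻¹ ∈ centralizer (O : Set (K ⧸ center K)) := inv_mem (hzO _ h)
          have := (centralizer (O : Set (K ⧸ center K))).mul_mem hxO' hi
          rwa [mul_inv_rev, inv_inv, mul_inv_cancel_left] at this
        have h2 : ub * y = y * ub := (mem_centralizer_iff.1 hub' y hy).symm
        exact hy1 (Subtype.ext (hfix y (hOmem y hy).1 (hOmem y hy).2 h2))
    rw [heq]
    exact ⟨inferInstance, hzidx⟩
  have hc : ∀ Y : Subgroup (K ⧸ center K), Y ≤ O → Y ≠ ⊥ →
      normalizer (Y : Set (K ⧸ center K)) ≤ C := by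
    intro Y hYO hY x hx
    set N := normalizer (Y : Set (K ⧸ center K)) with hNdef
    set H := N.comap π with hHdef
    have hH : H ≠ ⊤ := by
      intro h
      have hN : N = ⊤ := comap_injective hπs (h.trans (comap_top π).symm)
      have hYn : Y.Normal := normalizer_eq_top_iff.1 hN
      rcases hYn.eq_bot_or_eq_top with h1 | h1
      · exact hY h1
      · refine htcenter (mem_center_iff.2 fun g => ?_)
        exact mem_centralizer_singleton_iff.1 (hMbC (hOmem g (hYO (h1 ▸ mem_top g))).1)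
    have hMH : ∀ v ∈ M, v ∈ H := fun v hv => mem_comap.2 (mem_normalizer_iff.2 fun w => by
      have hvM : π v ∈ Mb := ⟨v, hv, rfl⟩
      constructor
      · intro hw
        rw [hMbcomm _ hvM w (hOmem w (hYO hw)).1, mul_inv_cancel_right]
        exact hw
      · intro hw
        have h1 := hMbcomm _ (inv_mem hvM) _ (hOmem _ (hYO hw)).1
        have h2 : w = (π v)⁻¹ * (π v * w * (π v)⁻¹) * π v := by group
        rw [h2, h1, inv_mul_cancel_right]
        exact hw)
    have huH : u ∈ H := mem_comap.2 (mem_normalizer_iff.2 fun w => by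
      constructor
      · intro hw
        rw [show π u = ub from rfl, hinvert w (hOmem w (hYO hw)).1 (hOmem w (hYO hw)).2]
        exact inv_mem hw
      · intro hw
        have hw' := hOmem _ (hYO hw)
        have h2 : w = ub * (ub * w * ub⁻¹) * ub⁻¹ := by
          calc w = (ub * ub) * w * (ub * ub)⁻¹ := by rw [huu]; group
            _ = _ := by group
        rw [h2, hinvert _ hw'.1 hw'.2]
        exact inv_mem hw)
    have hnon : ∀ a ∈ M, ∀ (haH : a ∈ H), π a ∈ Y → π a ≠ 1 →
        (⟨a, haH⟩ : H) ∉ center H := by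
      intro a _ haH haY ha1 hz
      have h1 : u * a = a * u := congrArg Subtype.val (mem_center_iff.1 hz ⟨u, huH⟩)
      exact ha1 (hfix _ (hOmem _ (hYO haY)).1 (hOmem _ (hYO haY)).2 (by
        rw [hub, ← map_mul, h1, map_mul]))
    obtain ⟨⟨y, hy⟩, hy1⟩ := ne_bot_iff_exists_ne_one.1 hY
    obtain ⟨a, haM, hay⟩ := (hOmem y (hYO hy)).1
    obtain ⟨h, rfl⟩ := hπs x
    have hhH : h ∈ H := hx
    set a' := h * a * h⁻¹ with ha'
    have haY' : π a' ∈ Y := by
      rw [ha', map_mul, map_mul, map_inv, hay]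
      exact (mem_normalizer_iff.1 hx y).1 hy
    have ha'1 : π a' ≠ 1 := by
      rw [ha', map_mul, map_mul, map_inv, hay]
      intro h1
      exact hy1 (Subtype.ext (conj_eq_one_iff.1 h1))
    have ha'M : a' ∈ M := hliftM a' (hOmem _ (hYO haY')).1
    have ha'H : a' ∈ H := hMH a' ha'M
    have hcomm := hK.proper H hH ⟨a', ha'H⟩ (hnon a' ha'M ha'H haY' ha'1)
    have hTM : T ∈ M := mem_centralizer_singleton_iff.2 rfl
    have hThH : h * T * h⁻¹ ∈ H := mul_mem (mul_mem hhH (hMH T hTM)) (inv_mem hhH)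
    have hTh : h * T * h⁻¹ * a' = a' * (h * T * h⁻¹) := by
      rw [ha']
      calc h * T * h⁻¹ * (h * a * h⁻¹) = h * (T * a) * h⁻¹ := by group
        _ = h * (a * T) * h⁻¹ := by rw [hMcomm T hTM a haM]
        _ = _ := by group
    have h1 : h * T * h⁻¹ ∈ M := mem_centralizer_singleton_iff.2
      (congrArg (fun v : centralizer ({(⟨a', ha'H⟩ : H)} : Set H) => ((v : H) : K))
        (hcomm.is_comm.comm
          ⟨⟨h * T * h⁻¹, hThH⟩, mem_centralizer_singleton_iff.2 (Subtype.ext hTh)⟩
          ⟨⟨T, hMH T hTM⟩, mem_centralizer_singleton_iff.2 (Subtype.ext (hMcomm T hTM a' ha'M))⟩))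
    have h2 : π h * t * (π h)⁻¹ ∈ Mb := ⟨_, h1, by rw [map_mul, map_mul, map_inv]⟩
    have h3 := huniqM _ h2 (by rw [hoconj]; exact hto)
    rw [hCdef, mem_centralizer_singleton_iff]
    exact mul_inv_eq_iff_eq_mul.1 h3
  have hm2 : 2 ≤ m := le_trans (by norm_num) (Nat.le_of_dvd (orderOf_pos cb) hm4)
  obtain ⟨F, iF, iFF, hFodd, ⟨e⟩⟩ := S0508.result P m hm2 hdih t hto htP
    (fun s hs => mem_centralizer_singleton_iff.1 (hPC hs)) O rfl ha hcentO hc
  refine ⟨F, iF, iFF, hFodd, ?_, ⟨e⟩⟩
  have hcard := LinearGroup.gcd_mul_card_PSL_two (F := F)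
  rw [← Nat.card_congr e.toEquiv, Nat.card_eq_fintype_card (α := F)] at hcard
  have h1 : 1 < Fintype.card F := Fintype.one_lt_card
  have h2 := Nat.odd_iff.1 hFodd
  by_contra h5
  have h3 : Fintype.card F = 3 := by omega
  rw [h3] at hcard
  norm_num at hcard
  obtain ⟨j, hj⟩ := h8
  omega

end IdentDihAux

/-- S4369 piece: dihedral Sylow 2-subgroup modulo the centre gives `PSL(2, q)`, `q` odd. -/
theorem identDih (hCent : CentStmt.{u}) (hSimple : SimpleStmt.{u}) : IdentDihStmt.{u} := by
  intro K _ _ hK S T c u hD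
  haveI := hSimple K hK
  have := hCent
  exact IdentDihAux.ident hK hD

end Cfsg.Agent.MinNonCA27
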