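import Cfsg.Agent.MinNonCA27.Defs
import Cfsg.Agent.MaxSub.BinaryPSL.Basic
import Cfsg.Agent.SelfCentNC.PSL
import Mathlib.GroupTheory.Transfer

/-!
# S4369: no non-central involution, and the covers of `PSL2(9)`
-/

set_option autoImplicit false
set_option linter.unusedSectionVars false

namespace Cfsg.Agent.MinNonCA27

open Subgroup

universe u

namespace NinePiece

section PSL

open Matrix
open scoped MatrixGroups

variable {F : Type} [Field F] [Fintype F]

/-- In `PSL2`, the centraliser of an element which is no involution has order at most `q`. -/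
theorem card_cent_le (h2 : (2 : F) ≠ 0) {g : Matrix.ProjectiveSpecialLinearGroup (Fin 2) F}
    (hg1 : g ≠ 1) (hg2 : g * g ≠ 1) :
    Nat.card (centralizer ({g} : Set (Matrix.ProjectiveSpecialLinearGroup (Fin 2) F))) ≤
      Fintype.card F := by
  classical
  obtain ⟨A, rfl⟩ := QuotientGroup.mk_surjective g
  have ht : (A : Matrix (Fin 2) (Fin 2) F).trace ≠ 0 := by
    intro h0
    apply hg2
    show MaxSub.BinaryPSL.mk A * MaxSub.BinaryPSL.mk A = 1
    rw [← MaxSub.BinaryPSL.mk_mul, MaxSub.BinaryPSL.mk_eq_one_iff]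
    refine Or.inr (Subtype.ext ?_)
    rw [Matrix.SpecialLinearGroup.coe_mul, Dickson.sl_sq, Matrix.SpecialLinearGroup.coe_neg,
      Matrix.SpecialLinearGroup.coe_one]
    simp [Dickson.str, h0]
  have hns : ¬ SL2Tor.IsScalar (A : Matrix (Fin 2) (Fin 2) F) := fun h =>
    hg1 ((SL2Tor.psl_mk_eq_one_iff A).mpr h)
  set C := centralizer ({(QuotientGroup.mk A : Matrix.ProjectiveSpecialLinearGroup (Fin 2) F)} :
    Set (Matrix.ProjectiveSpecialLinearGroup (Fin 2) F)) with hC
  let S := {Y : SL(2, F) // A * Y = Y * A}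
  have hlift : ∀ c : C, ∃ Y : S, MaxSub.BinaryPSL.mk Y.1 = c.1 := by
    intro c
    obtain ⟨Y, hY⟩ := QuotientGroup.mk_surjective c.1
    refine ⟨⟨Y, MaxSub.BinaryPSL.commute_lift ht ?_⟩, hY⟩
    show MaxSub.BinaryPSL.mk A * QuotientGroup.mk Y = QuotientGroup.mk Y * MaxSub.BinaryPSL.mk A
    rw [hY]
    exact (mem_centralizer_singleton_iff.1 c.2).symm
  choose lft hlft using hlift
  let neg : S → S := fun Y => ⟨-Y.1, by
    apply Subtype.ext
    simp only [Matrix.SpecialLinearGroup.coe_mul, Matrix.SpecialLinearGroup.coe_neg,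
      Matrix.mul_neg, Matrix.neg_mul]
    have := congrArg (fun M : SL(2, F) => (M : Matrix (Fin 2) (Fin 2) F)) Y.2
    simpa using this⟩
  have hnegne : ∀ Y : SL(2, F), -Y ≠ Y := by
    intro Y h
    have hd : Y 0 0 * Y 1 1 - Y 0 1 * Y 1 0 = 1 := (det_fin_two _).symm.trans Y.2
    have e : ∀ i j, Y i j = 0 := by
      intro i j
      have h' := congrArg (fun M : SL(2, F) => M i j) h
      simp at h'
      have : (2 : F) * Y i j = 0 := by linear_combination -h'
      exact (mul_eq_zero.1 this).resolve_left h2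
    rw [e, e 0 1] at hd
    simp at hd
  have h1 : 2 * Nat.card C ≤ Nat.card S := by
    have hinj : Function.Injective (fun p : C × Bool => if p.2 then lft p.1 else neg (lft p.1)) := by
      rintro ⟨c, b⟩ ⟨d, b'⟩ h
      have hcd : c = d := by
        apply Subtype.ext
        rw [← hlft c, ← hlft d]
        have h' := congrArg (fun Y : S => MaxSub.BinaryPSL.mk Y.1) h
        cases b <;> cases b' <;> simpa [neg, MaxSub.BinaryPSL.mk, SL2Tor.psl_mk_neg] using h'
      subst hcd
      cases b <;> cases b' <;> first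
        | rfl
        | exfalso
          have h' := congrArg Subtype.val h
          simp only [neg, Bool.false_eq_true, ↓reduceIte] at h'
          first
            | exact hnegne _ h'
            | exact hnegne _ h'.symm
    have := Nat.card_le_card_of_injective _ hinj
    rw [Nat.card_prod, show Nat.card Bool = 2 by simp] at this
    omega
  have hco : ∀ Y : S, ∃ p : F × F,
      (Y.1 : Matrix (Fin 2) (Fin 2) F) = p.1 • 1 + p.2 • (A : Matrix (Fin 2) (Fin 2) F) := by
    intro Y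
    obtain ⟨x, z, h⟩ := MaxSub.BinaryPSL.exists_coords hns Y.2
    exact ⟨(x, z), h⟩
  choose co hco using hco
  let Sig : Finset (F × F) := Finset.univ.filter fun p =>
    p.1 ^ 2 + p.1 * p.2 * (A 0 0 + A 1 1) + p.2 ^ 2 = 1
  have hmem : ∀ Y : S, co Y ∈ Sig := by
    intro Y
    have hdY : Y.1 0 0 * Y.1 1 1 - Y.1 0 1 * Y.1 1 0 = 1 := (det_fin_two _).symm.trans Y.1.2
    have hdA : A 0 0 * A 1 1 - A 0 1 * A 1 0 = 1 := (det_fin_two _).symm.trans A.2
    rw [hco Y] at hdY
    simp at hdY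
    simp only [Sig, Finset.mem_filter, Finset.mem_univ, true_and]
    linear_combination hdY - (co Y).2 ^ 2 * hdA
  have hcoinj : Function.Injective co := by
    intro Y Y' h
    refine Subtype.ext (Subtype.ext ?_)
    rw [hco Y, hco Y', h]
  have h3 : Nat.card S ≤ Sig.card := by
    rw [← Nat.card_eq_finsetCard Sig]
    exact Nat.card_le_card_of_injective (fun Y => (⟨co Y, hmem Y⟩ : Sig))
      fun Y Y' h => hcoinj (congrArg Subtype.val h)
  have h4 : Sig.card ≤ 2 * Fintype.card F := by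
    refine (Finset.card_le_mul_card_image (f := Prod.snd) Sig 2 ?_).trans
      (Nat.mul_le_mul_left 2 (Finset.card_le_univ _))
    intro z hz
    obtain ⟨p, hp, rfl⟩ := Finset.mem_image.1 hz
    refine (Finset.card_le_card (t := {p, (-(p.2 * (A 0 0 + A 1 1)) - p.1, p.2)}) ?_).trans
      Finset.card_le_two
    intro r hr
    simp only [Sig, Finset.mem_filter, Finset.mem_univ, true_and] at hr hp
    obtain ⟨hr, hr2⟩ := hr
    rw [Finset.mem_insert, Finset.mem_singleton]
    rw [hr2] at hr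
    have : (r.1 - p.1) * (r.1 - (-(p.2 * (A 0 0 + A 1 1)) - p.1)) = 0 := by
      linear_combination hr - hp
    rcases mul_eq_zero.1 this with e | e
    · exact Or.inl (Prod.ext (sub_eq_zero.1 e) hr2)
    · exact Or.inr (Prod.ext (sub_eq_zero.1 e) hr2)
  omega

/-- In `PSL2(9)` involutions have centralisers of order 8. -/
theorem card_cent_involution (h9 : Fintype.card F = 9)
    {g : Matrix.ProjectiveSpecialLinearGroup (Fin 2) F} (hg : orderOf g = 2) :
    Nat.card (centralizer ({g} : Set (Matrix.ProjectiveSpecialLinearGroup (Fin 2) F))) = 8 := by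
  have h2 : (2 : F) ≠ 0 := SelfCentNC.two_ne_zero_iff.2 (by rw [h9]; decide)
  obtain ⟨n, -, hev, hk, ⟨e⟩⟩ := SelfCentNC.involution_cent h2 hg
  rw [h9] at hk
  have hn : n = 4 := by
    rcases hk with h | h
    · omega
    · obtain ⟨k, rfl⟩ := hev
      omega
  rw [Nat.card_congr e.toEquiv, DihedralGroup.nat_card, hn]

end PSL

section Group

variable {K : Type u} [Group K] [Finite K]

/-- A central element of a perfect group lying in a Sylow subgroup dies in every abelian quotient. -/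
theorem transfer_kill (hperf : commutator K = ⊤) (S : Sylow 2 K) {M : Type*} [CommGroup M]
    (ψ : ↥(S : Subgroup K) →* M) {z : K} (hz : z ∈ (S : Subgroup K)) (hzc : z ∈ center K) :
    ψ ⟨z, hz⟩ = 1 := by
  haveI : Fact (Nat.Prime 2) := ⟨Nat.prime_two⟩
  have h1 : MonoidHom.transfer ψ z = 1 := by
    have : z ∈ (MonoidHom.transfer ψ).ker :=
      Abelianization.commutator_subset_ker (MonoidHom.transfer ψ) (by rw [hperf]; trivial)
    exact this
  rw [MonoidHom.transfer_eq_pow ψ z (fun k g₀ _ => by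
    have : z ^ k ∈ center K := pow_mem hzc k
    rw [mul_assoc, ← Subgroup.mem_center_iff.1 this g₀, inv_mul_cancel_left])] at h1
  have h2 : ψ (⟨z, hz⟩ ^ (S : Subgroup K).index) = 1 := by
    rw [← h1]
    congr 1
  rw [map_pow] at h2
  obtain ⟨k, hk⟩ := S.isPGroup' ⟨z, hz⟩
  have h3 : ψ ⟨z, hz⟩ ^ 2 ^ k = 1 := by rw [← map_pow, hk, map_one]
  have hco : Nat.Coprime (S : Subgroup K).index (2 ^ k) :=
    Nat.Coprime.pow_right k ((Nat.coprime_comm.1
      ((Nat.prime_two.coprime_iff_not_dvd).2 S.not_dvd_index)))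
  have := pow_gcd_eq_one.2 ⟨h2, h3⟩
  rwa [hco.gcd_eq_one, pow_one] at this

/-- A central 2-element lies in every Sylow 2-subgroup. -/
theorem central_mem (S : Sylow 2 K) {z : K} (hzc : z ∈ center K) {k : ℕ} (hk : z ^ 2 ^ k = 1) :
    z ∈ (S : Subgroup K) := by
  haveI : Fact (Nat.Prime 2) := ⟨Nat.prime_two⟩
  have hp : IsPGroup 2 ↥(zpowers z) := by
    rintro ⟨y, hy⟩
    obtain ⟨i, rfl⟩ := mem_zpowers_iff.1 hy
    refine ⟨k, Subtype.ext ?_⟩
    show (z ^ i) ^ 2 ^ k = 1
    rw [← zpow_natCast, ← zpow_mul, mul_comm, zpow_mul, zpow_natCast, hk, one_zpow]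
  obtain ⟨Q, hQ⟩ := hp.exists_le_sylow
  obtain ⟨g, hg⟩ := MulAction.exists_smul_eq K Q S
  have h1 : z ∈ (Q : Subgroup K) := hQ (mem_zpowers z)
  have h2 : MulAut.conj g • z ∈ (S : Subgroup K) := by
    rw [← hg, Sylow.coe_subgroup_smul]
    exact Subgroup.smul_mem_pointwise_smul _ _ _ h1
  have : MulAut.conj g • z = z := by
    show g * z * g⁻¹ = z
    rw [Subgroup.mem_center_iff.1 hzc g, mul_inv_cancel_right]
  rwa [this] at h2

variable {S : Sylow 2 K} {T c u : K}

theorem dih_conj_mem (hD : Dih (S : Subgroup K) T c u) {a : K} (ha : a ∈ (S : Subgroup K))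
    (haT : a * T = T * a) : u * a * u⁻¹ * T = T * (u * a * u⁻¹) := by
  have hw := hD.inverts a ha haT
  have h1 : a⁻¹ * T = T * a⁻¹ := (Commute.inv_left (show Commute a T from haT)).eq
  have h2 : Commute (a * (u * a * u⁻¹)) T := ((Subgroup.mem_center_iff.1 hw T)).symm
  have h3 : u * a * u⁻¹ = a⁻¹ * (a * (u * a * u⁻¹)) := by group
  rw [h3]
  exact ((show Commute a⁻¹ T from h1).mul_left h2).eq

/-- Every central element of `S` is `1` or `[T, u]`, which is `T * T`. -/
theorem dih_center (hperf : commutator K = ⊤) (hD : Dih (S : Subgroup K) T c u) :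
    T * T ≠ 1 ∧ T * T * (T * T) = 1 ∧
      (∀ z ∈ (S : Subgroup K), z ∈ center K → z = 1 ∨ z = T * T) ∧
      (∀ a ∈ (S : Subgroup K), a * T = T * a → a * a ∈ center K →
        a ∈ center K ∨ T⁻¹ * a ∈ center K) ∧
      4 ∣ orderOf (c : K ⧸ center K) := by
  classical
  -- the order of `c` modulo the centre
  set n := orderOf (c : K ⧸ center K) with hn
  have hn4 : 4 ∣ n := by
    obtain ⟨k, hk⟩ := S.isPGroup' ⟨c, hD.c_mem⟩
    have hck : c ^ 2 ^ k = 1 := congrArg Subtype.val hk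
    have hd : n ∣ 2 ^ k := orderOf_dvd_of_pow_eq_one (by
      rw [← QuotientGroup.mk_pow, hck, QuotientGroup.mk_one])
    obtain ⟨i, -, hi⟩ := (Nat.dvd_prime_pow Nat.prime_two).1 hd
    have h2 : 2 ≤ i := by
      by_contra hlt
      apply hD.c_sq
      rw [← QuotientGroup.eq_one_iff, QuotientGroup.mk_mul, ← sq, ← orderOf_dvd_iff_pow_eq_one, ← hn,
        hi]
      calc 2 ^ i ∣ 2 ^ 1 := pow_dvd_pow 2 (by omega)
        _ = 2 := pow_one 2
    rw [hi]
    exact pow_dvd_pow 2 h2
  -- exponents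
  have hexp : ∀ a ∈ (S : Subgroup K), a * T = T * a → ∃ i : ℤ, (a : K ⧸ center K) = (c : K ⧸ center K) ^ i := by
    intro a ha haT
    obtain ⟨i, hi⟩ := hD.cyclic a ha haT
    refine ⟨i, ?_⟩
    rw [← QuotientGroup.mk_zpow]
    exact (QuotientGroup.eq.2 hi).symm
  obtain ⟨j, hj⟩ := hexp T hD.T_mem rfl
  have hjn : ¬ (n : ℤ) ∣ j := by
    intro h
    apply hD.T_not
    rw [← QuotientGroup.eq_one_iff, hj, ← orderOf_dvd_iff_zpow_eq_one]
    exact h
  have hj2 : (n : ℤ) ∣ 2 * j := by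
    rw [hn, orderOf_dvd_iff_zpow_eq_one, mul_comm, zpow_mul, ← hj, zpow_two, ← QuotientGroup.mk_mul,
      QuotientGroup.eq_one_iff]
    exact hD.T_sq
  have hcases : ∀ a ∈ (S : Subgroup K), a * T = T * a → a * a ∈ center K →
      a ∈ center K ∨ T⁻¹ * a ∈ center K := by
    intro a ha haT ha2
    obtain ⟨i, hi⟩ := hexp a ha haT
    have hi2 : (n : ℤ) ∣ 2 * i := by
      rw [hn, orderOf_dvd_iff_zpow_eq_one, mul_comm, zpow_mul, ← hi, zpow_two,
        ← QuotientGroup.mk_mul, QuotientGroup.eq_one_iff]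
      exact ha2
    by_cases h : (n : ℤ) ∣ i
    · left
      rw [← QuotientGroup.eq_one_iff, hi, ← orderOf_dvd_iff_zpow_eq_one]
      exact h
    · right
      rw [← QuotientGroup.eq_one_iff, QuotientGroup.mk_mul, QuotientGroup.mk_inv, hi, hj,
        ← zpow_neg, ← zpow_add, ← orderOf_dvd_iff_zpow_eq_one, ← hn]
      obtain ⟨l, hl⟩ := hn4
      obtain ⟨r, hr⟩ := hj2
      obtain ⟨r', hr'⟩ := hi2
      have hr1 : ¬ (2 : ℤ) ∣ r := by
        rintro ⟨r1, rfl⟩
        exact hjn ⟨r1, by linarith⟩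
      have hr1' : ¬ (2 : ℤ) ∣ r' := by
        rintro ⟨r1, rfl⟩
        exact h ⟨r1, by linarith⟩
      obtain ⟨t, ht⟩ : (2 : ℤ) ∣ r' - r := by omega
      refine ⟨t, ?_⟩
      have h3 : (n : ℤ) * (r' - r) = (n : ℤ) * (2 * t) := by rw [ht]
      linarith
  have hjeven : (2 : ℤ) ∣ j := by
    obtain ⟨l, hl⟩ := hn4
    obtain ⟨r, hr⟩ := hj2
    refine ⟨(l : ℤ) * r, ?_⟩
    have : (n : ℤ) = 4 * (l : ℤ) := by exact_mod_cast hl
    rw [this] at hr
    linarith
  -- the map `φ`
  let A : Subgroup K := (S : Subgroup K) ⊓ centralizer ({T} : Set K)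
  have hA : ∀ {a : K}, a ∈ A ↔ a ∈ (S : Subgroup K) ∧ a * T = T * a := by
    intro a
    rw [Subgroup.mem_inf, Subgroup.mem_centralizer_singleton_iff]
  have hAab : ∀ {a b : K}, a ∈ A → b ∈ A → a * b = b * a := fun ha hb =>
    hD.abelian _ (hA.1 ha).1 _ (hA.1 hb).1 (hA.1 ha).2 (hA.1 hb).2
  have hσ : ∀ {a : K}, a ∈ A → u * a * u⁻¹ ∈ A := fun ha =>
    hA.2 ⟨mul_mem (mul_mem hD.u_mem (hA.1 ha).1) (inv_mem hD.u_mem),
      dih_conj_mem hD (hA.1 ha).1 (hA.1 ha).2⟩
  let φ : K → K := fun a => a * (u * a * u⁻¹)⁻¹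
  have hφA : ∀ {a}, a ∈ A → φ a ∈ A := fun ha => mul_mem ha (inv_mem (hσ ha))
  have hφmul : ∀ {a b}, a ∈ A → b ∈ A → φ (a * b) = φ a * φ b := by
    intro a b ha hb
    show a * b * (u * (a * b) * u⁻¹)⁻¹ = a * (u * a * u⁻¹)⁻¹ * (b * (u * b * u⁻¹)⁻¹)
    rw [show u * (a * b) * u⁻¹ = (u * a * u⁻¹) * (u * b * u⁻¹) by group, mul_inv_rev]
    have h1 := hAab hb (mul_mem (inv_mem (hσ hb)) (inv_mem (hσ ha)))
    have h2 := hAab (inv_mem (hσ ha)) (mul_mem hb (inv_mem (hσ hb)))
    calc a * b * ((u * b * u⁻¹)⁻¹ * (u * a * u⁻¹)⁻¹)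
        = a * ((b * (u * b * u⁻¹)⁻¹) * (u * a * u⁻¹)⁻¹) := by simp only [mul_assoc]
      _ = a * ((u * a * u⁻¹)⁻¹ * (b * (u * b * u⁻¹)⁻¹)) := by rw [h2]
      _ = _ := by simp only [mul_assoc]
  have hφZ : ∀ {a}, a ∈ center K → φ a = 1 := by
    intro a ha
    show a * (u * a * u⁻¹)⁻¹ = 1
    rw [Subgroup.mem_center_iff.1 ha u, mul_inv_cancel_right, mul_inv_cancel]
  let I : Subgroup ↥(S : Subgroup K) :=
    { carrier := {s | ∃ a ∈ A, φ a = (s : K)}
      one_mem' := ⟨1, one_mem _, hφZ (one_mem _)⟩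
      mul_mem' := by
        rintro s t ⟨a, ha, has⟩ ⟨b, hb, hbt⟩
        exact ⟨a * b, mul_mem ha hb, by rw [hφmul ha hb, has, hbt]; rfl⟩
      inv_mem' := by
        rintro s ⟨a, ha, has⟩
        refine ⟨a⁻¹, inv_mem ha, ?_⟩
        have h := hφmul (inv_mem ha) ha
        rw [inv_mul_cancel, hφZ (one_mem _), has] at h
        exact eq_inv_of_mul_eq_one_left h.symm }
  have hcomm : commutator ↥(S : Subgroup K) ≤ I := by
    rw [_root_.commutator_def, Subgroup.commutator_le]
    intro s _ t _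
    show ∃ a ∈ A, φ a = _
    have dec : ∀ x : ↥(S : Subgroup K), (x : K) ∈ A ∨ ∃ a ∈ A, (x : K) = u * a := by
      intro x
      rcases hD.cosets x x.2 with h | h
      · exact Or.inl (hA.2 ⟨x.2, h⟩)
      · exact Or.inr ⟨u⁻¹ * x, hA.2 ⟨mul_mem (inv_mem hD.u_mem) x.2, h⟩, by group⟩
    rw [commutatorElement_def]
    simp only [Subgroup.coe_mul, InvMemClass.coe_inv]
    rcases dec s with hs | ⟨a, ha, hs⟩ <;> rcases dec t with ht | ⟨b, hb, ht⟩
    · exact ⟨1, one_mem _, by rw [hφZ (one_mem _), hAab hs ht]; group⟩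
    · refine ⟨s, hs, ?_⟩
      rw [ht]
      show (s : K) * (u * s * u⁻¹)⁻¹ = _
      have h := hAab hb (inv_mem hs)
      calc (s : K) * (u * s * u⁻¹)⁻¹ = (s : K) * u * ((s : K)⁻¹ * b) * b⁻¹ * u⁻¹ := by group
        _ = (s : K) * u * (b * (s : K)⁻¹) * b⁻¹ * u⁻¹ := by rw [h]
        _ = _ := by group
    · refine ⟨(t : K)⁻¹, inv_mem ht, ?_⟩
      rw [hs]
      show (t : K)⁻¹ * (u * (t : K)⁻¹ * u⁻¹)⁻¹ = _
      have h1 := hAab ha ht
      have h2 := hAab (inv_mem ht) (hσ ht)
      calc (t : K)⁻¹ * (u * (t : K)⁻¹ * u⁻¹)⁻¹ = (t : K)⁻¹ * (u * t * u⁻¹) := by group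
        _ = u * t * u⁻¹ * (t : K)⁻¹ := h2
        _ = u * (t * a) * a⁻¹ * u⁻¹ * (t : K)⁻¹ := by group
        _ = u * (a * t) * a⁻¹ * u⁻¹ * (t : K)⁻¹ := by rw [h1]
        _ = _ := by group
    · refine ⟨u * (a * b⁻¹) * u⁻¹, hσ (mul_mem ha (inv_mem hb)), ?_⟩
      rw [hs, ht]
      show u * (a * b⁻¹) * u⁻¹ * (u * (u * (a * b⁻¹) * u⁻¹) * u⁻¹)⁻¹ = _
      have h1 := hAab (inv_mem hb) (mul_mem (inv_mem (hσ (inv_mem hb))) (inv_mem (hσ ha)))
      calc u * (a * b⁻¹) * u⁻¹ * (u * (u * (a * b⁻¹) * u⁻¹) * u⁻¹)⁻¹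
          = u * (a * (b⁻¹ * ((u * b⁻¹ * u⁻¹)⁻¹ * (u * a * u⁻¹)⁻¹))) * u⁻¹ := by group
        _ = u * (a * ((u * b⁻¹ * u⁻¹)⁻¹ * (u * a * u⁻¹)⁻¹ * b⁻¹)) * u⁻¹ := by rw [h1]
        _ = _ := by group
  have hTA : T ∈ A := hA.2 ⟨hD.T_mem, rfl⟩
  have hcA : c ∈ A := hA.2 ⟨hD.c_mem, hD.comm_T⟩
  have hmemI : ∀ z ∈ (S : Subgroup K), z ∈ center K → ∃ a ∈ A, φ a = z := by
    intro z hz hzc
    have h1 := transfer_kill hperf S (Abelianization.of : ↥(S : Subgroup K) →* _) hz hzc
    have h2 : (⟨z, hz⟩ : ↥(S : Subgroup K)) ∈ commutator ↥(S : Subgroup K) :=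
      (QuotientGroup.eq_one_iff _).1 h1
    exact hcomm h2
  have htwo : ∀ z ∈ (S : Subgroup K), z ∈ center K → z = 1 ∨ z = φ T := by
    intro z hz hzc
    obtain ⟨a, ha, rfl⟩ := hmemI z hz hzc
    have ha2 : a * a ∈ center K := by
      have h := hD.inverts a (hA.1 ha).1 (hA.1 ha).2
      have h2 := hAab ha (hσ ha)
      have : a * a = φ a * (a * (u * a * u⁻¹)) := by
        show a * a = a * (u * a * u⁻¹)⁻¹ * (a * (u * a * u⁻¹))
        rw [h2]
        group
      rw [this]
      exact mul_mem hzc h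
    rcases hcases a (hA.1 ha).1 (hA.1 ha).2 ha2 with h | h
    · exact Or.inl (hφZ h)
    · refine Or.inr ?_
      have hTa : T⁻¹ * a ∈ A := mul_mem (inv_mem hTA) ha
      have h' := hφmul hTA hTa
      rw [mul_inv_cancel_left, hφZ h, mul_one] at h'
      exact h'
  have hφT_ne : φ T ≠ 1 := by
    intro h
    apply hD.u_not
    have h' : T = u * T * u⁻¹ := by
      have := mul_inv_eq_one.1 (show T * (u * T * u⁻¹)⁻¹ = 1 from h)
      exact this
    calc u * T = u * T * u⁻¹ * u := by group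
      _ = T * u := by rw [← h']
  have hφT_mem : φ T ∈ (S : Subgroup K) := (hA.1 (hφA hTA)).1
  have hφT_Z : φ T ∈ center K := by
    have h := hD.T_central u hD.u_mem
    have : φ T = T * u * T⁻¹ * u⁻¹ := by
      show T * (u * T * u⁻¹)⁻¹ = _
      group
    rwa [this]
  have hsq : ∀ z ∈ (S : Subgroup K), z ∈ center K → z * z = 1 := by
    intro z hz hzc
    rcases htwo z hz hzc with rfl | rfl
    · exact mul_one 1
    · have h' : φ T * φ T = φ (T * T) := (hφmul hTA hTA).symm
      rw [h', hφZ hD.T_sq]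
  -- `T * T = φ T`
  have hTT : T * T = φ T := by
    obtain ⟨i, hi⟩ := hjeven
    have hw : (c ^ j)⁻¹ * T ∈ center K := by
      rw [← QuotientGroup.eq, QuotientGroup.mk_zpow]
      exact hj.symm
    set w := (c ^ j)⁻¹ * T with hwdef
    have hcjA : c ^ j ∈ A := zpow_mem hcA j
    have hwS : w ∈ (S : Subgroup K) := mul_mem (inv_mem (hA.1 hcjA).1) hD.T_mem
    have hT : T = c ^ j * w := by rw [hwdef, mul_inv_cancel_left]
    have hwA : w ∈ A := mul_mem (inv_mem hcjA) hTA
    set w1 := c * (u * c * u⁻¹) with hw1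
    have hw1Z : w1 ∈ center K := hD.inverts c hD.c_mem hD.comm_T
    have hw1S : w1 ∈ (S : Subgroup K) := mul_mem hD.c_mem (hA.1 (hσ hcA)).1
    have hcc : φ c = c * c * w1⁻¹ := by
      show c * (u * c * u⁻¹)⁻¹ = c * c * (c * (u * c * u⁻¹))⁻¹
      rw [hAab hcA (hσ hcA)]
      group
    have hpow : ∀ m : ℤ, φ (c ^ m) = φ c ^ m := by
      let ψ : ↥A →* K := MonoidHom.mk' (fun a => φ a) fun a b => hφmul a.2 b.2
      intro m
      exact map_zpow ψ ⟨c, hcA⟩ m
    have h1 : φ T = φ c ^ j := by rw [hT, hφmul hcjA hwA, hφZ hw, mul_one, hpow]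
    have hcomm1 : Commute (c * c) w1⁻¹ :=
      (Subgroup.mem_center_iff.1 (inv_mem hw1Z) (c * c))
    rw [h1, hcc, hcomm1.mul_zpow, hi, zpow_mul w1⁻¹, zpow_two, ← mul_inv_rev, hsq w1 hw1S hw1Z,
      inv_one, one_zpow, mul_one, hT, ← hi]
    have hc2 : Commute (c ^ j) w := Subgroup.mem_center_iff.1 hw (c ^ j)
    calc c ^ j * w * (c ^ j * w) = c ^ j * c ^ j * (w * w) := by
          rw [mul_assoc, ← mul_assoc w, ← hc2.eq]; simp only [mul_assoc]
      _ = (c * c) ^ j := by rw [hsq w hwS hw, mul_one, (Commute.refl c).mul_zpow]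
  refine ⟨hTT ▸ hφT_ne, ?_, fun z hz hzc => hTT ▸ htwo z hz hzc, hcases, hn4⟩
  exact hsq _ (mul_mem hD.T_mem hD.T_mem) hD.T_sq

/-- An element squaring into the centre is conjugate into `C_S(T) Z`. -/
theorem exists_conj (hperf : commutator K = ⊤) (hD : Dih (S : Subgroup K) T c u) {x : K}
    (hx : x * x ∈ center K) :
    ∃ g : K, ∃ a ∈ (S : Subgroup K), a * T = T * a ∧ ∃ z ∈ center K, g * x * g⁻¹ = a * z := by
  classical
  haveI : Fact (Nat.Prime 2) := ⟨Nat.prime_two⟩
  set SZ : Subgroup K := (S : Subgroup K) ⊔ center K with hSZ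
  set H : Subgroup K := SZ ⊓ centralizer ({T} : Set K) with hH
  have dec : ∀ b ∈ SZ, ∃ s ∈ (S : Subgroup K), ∃ z ∈ center K, s * z = b := fun b hb =>
    Subgroup.mem_sup_of_normal_right.1 hb
  have hmem : ∀ {b : K}, b ∈ H ↔ b ∈ SZ ∧ b * T = T * b := by
    intro b
    rw [hH, Subgroup.mem_inf, Subgroup.mem_centralizer_singleton_iff]
  have hZH : center K ≤ H := fun z hz =>
    hmem.2 ⟨Subgroup.mem_sup_right hz, (Subgroup.mem_center_iff.1 hz T).symm⟩
  have hHSZ : H ≤ SZ := inf_le_left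
  have huSZ : u ∈ SZ := Subgroup.mem_sup_left hD.u_mem
  have hrel : H.relIndex SZ = 2 := by
    rw [Subgroup.relIndex_eq_two_iff]
    refine ⟨u, huSZ, fun b hb => ?_⟩
    obtain ⟨s, hs, z, hz, rfl⟩ := dec b hb
    by_cases h : s * z * T = T * (s * z)
    · refine Or.inr ⟨hmem.2 ⟨hb, h⟩, fun h' => hD.u_not ?_⟩
      have h'' := (hmem.1 h').2
      apply mul_left_cancel (a := s * z)
      calc s * z * (u * T) = s * z * u * T := (mul_assoc _ _ _).symm
        _ = T * (s * z * u) := h''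
        _ = T * (s * z) * u := (mul_assoc _ _ _).symm
        _ = s * z * T * u := by rw [h]
        _ = s * z * (T * u) := mul_assoc _ _ _
    · refine Or.inl ⟨hmem.2 ⟨mul_mem hb huSZ, ?_⟩, fun h' => h (hmem.1 h').2⟩
      have hzT : Commute z T := (Subgroup.mem_center_iff.1 hz T).symm
      rcases hD.cosets s hs with h1 | h1
      · exact absurd ((Commute.mul_left (show Commute s T from h1) hzT).eq) h
      · set a := u⁻¹ * s
        have h2 : Commute (u * a * u⁻¹) T :=
          dih_conj_mem hD (mul_mem (inv_mem hD.u_mem) hs) h1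
        have h3 : Commute (u * u) T := (Subgroup.mem_center_iff.1 hD.u_sq T).symm
        have h4 : s * z * u = u * a * u⁻¹ * (u * u) * z := by
          rw [mul_assoc s, ← Subgroup.mem_center_iff.1 hz u, ← mul_assoc]
          show s * u * z = u * (u⁻¹ * s) * u⁻¹ * (u * u) * z
          group
        rw [h4]
        exact ((h2.mul_left h3).mul_left hzT).eq
  have hodd : Odd SZ.index := Nat.not_even_iff_odd.mp fun h =>
    S.not_dvd_index ((even_iff_two_dvd.mp h).trans (Subgroup.index_dvd_of_le le_sup_left))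
  haveI := Fintype.ofFinite (K ⧸ H)
  let σ : K →* Equiv.Perm (K ⧸ H) := MulAction.toPermHom K (K ⧸ H)
  let f : K →* ℤˣ := Equiv.Perm.sign.comp σ
  have hf : f x = 1 := by
    have : x ∈ f.ker := Abelianization.commutator_subset_ker f (by rw [hperf]; trivial)
    exact this
  have h2 : σ x ^ 2 = 1 := by
    rw [sq, ← map_mul]
    ext q
    induction q using QuotientGroup.induction_on with
    | H g =>
      show ((x * x * g : K) : K ⧸ H) = (g : K ⧸ H)
      rw [QuotientGroup.eq, mul_inv_rev, mul_assoc, ← Subgroup.mem_center_iff.1 (inv_mem hx) g,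
        inv_mul_cancel_left]
      exact hZH (inv_mem hx)
  obtain ⟨m, hm⟩ := hodd
  have hcard : Fintype.card (K ⧸ H) = 2 * (2 * m + 1) := by
    rw [← Nat.card_eq_fintype_card, ← Subgroup.index_eq_card,
      ← Subgroup.relIndex_mul_index hHSZ, hrel, hm]
  by_cases hfix : Fintype.card (Function.fixedPoints (σ x)) = 0
  · exfalso
    have h : Equiv.Perm.sign (σ x) = -1 := by
      rw [Equiv.Perm.sign_of_pow_two_eq_one h2, hfix, hcard,
        show (2 * (2 * m + 1) - 0) / 2 = 2 * m + 1 by omega]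
      exact Odd.neg_one_pow ⟨m, rfl⟩
    have h' : f x = -1 := h
    rw [hf] at h'
    exact absurd h' (by decide)
  · obtain ⟨⟨q, hq⟩⟩ := Fintype.card_pos_iff.1 (Nat.pos_of_ne_zero hfix)
    obtain ⟨g, rfl⟩ := QuotientGroup.mk_surjective q
    have h1 : ((x * g : K) : K ⧸ H) = (g : K ⧸ H) := hq
    rw [eq_comm, QuotientGroup.eq] at h1
    obtain ⟨hb, hbT⟩ := hmem.1 h1
    obtain ⟨s, hs, z, hz, hsz⟩ := dec _ hb
    refine ⟨g⁻¹, s, hs, ?_, z, hz, by rw [inv_inv, mul_assoc]; exact hsz.symm⟩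
    have e : s = g⁻¹ * (x * g) * z⁻¹ := by rw [← hsz, mul_inv_cancel_right]
    rw [e]
    exact ((show Commute (g⁻¹ * (x * g)) T from hbT).mul_left
      (Subgroup.mem_center_iff.1 (inv_mem hz) T).symm).eq

/-- One class of elements of order two modulo the centre. -/
theorem exists_conj_T (hperf : commutator K = ⊤) (hD : Dih (S : Subgroup K) T c u) {x : K}
    (hxn : x ∉ center K) (hx : x * x ∈ center K) :
    ∃ g : K, ∃ y ∈ center K, g * x * g⁻¹ = T * y := by
  obtain ⟨g, a, ha, haT, z, hz, he⟩ := exists_conj hperf hD hx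
  have haz : g * (x * x) * g⁻¹ = a * a * (z * z) := by
    calc g * (x * x) * g⁻¹ = (g * x * g⁻¹) * (g * x * g⁻¹) := by group
      _ = a * z * (a * z) := by rw [he]
      _ = a * a * (z * z) := by
        rw [mul_assoc, ← mul_assoc z, ← Subgroup.mem_center_iff.1 hz a]
        simp only [mul_assoc]
  have ha2 : a * a ∈ center K := by
    rw [Subgroup.mem_center_iff.1 hx g, mul_inv_cancel_right] at haz
    have h := mul_mem hx (inv_mem (mul_mem hz hz))
    rwa [haz, mul_inv_cancel_right] at h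
  rcases (dih_center hperf hD).2.2.2.1 a ha haT ha2 with h | h
  · exfalso
    apply hxn
    have hm : g * x * g⁻¹ ∈ center K := he ▸ mul_mem h hz
    have := (inferInstance : (center K).Normal).conj_mem _ hm g⁻¹
    simpa [mul_assoc] using this
  · exact ⟨g, T⁻¹ * a * z, mul_mem h hz, by rw [he]; group⟩

theorem noInvolution (hperf : commutator K = ⊤) (hD : Dih (S : Subgroup K) T c u) :
    NoInvolution K := by
  intro e he
  by_contra hec
  have he1 : e * e = 1 := by rw [← sq, ← he, pow_orderOf_eq_one]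
  obtain ⟨g, y, hy, hge⟩ := exists_conj_T hperf hD hec (by rw [he1]; exact one_mem _)
  obtain ⟨h0, h4, htwo, -, -⟩ := dih_center hperf hD
  have hyT : Commute T y := Subgroup.mem_center_iff.1 hy T
  have h1 : T * T * (y * y) = 1 := by
    calc T * T * (y * y) = T * y * (T * y) := (hyT.symm.mul_mul_mul_comm T y).symm
      _ = (g * e * g⁻¹) * (g * e * g⁻¹) := by rw [hge]
      _ = g * (e * e) * g⁻¹ := by group
      _ = 1 := by rw [he1, mul_one, mul_inv_cancel]
  have hyy : y * y = T * T := (mul_left_cancel (h1.trans h4.symm))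
  have hy4 : y ^ 2 ^ 2 = 1 := by
    rw [show (2 : ℕ) ^ 2 = 2 + 2 from rfl, pow_add, sq, hyy, h4]
  rcases htwo y (central_mem S hy hy4) hy with rfl | rfl
  · exact h0 (by rw [← hyy, mul_one])
  · exact h0 (hyy.symm.trans h4)

/-- Centralisers in `K ⧸ Z` through an isomorphism. -/
theorem card_cent_iso {Q P : Type*} [Group Q] [Group P] (e : Q ≃* P) (g : Q) :
    Nat.card (centralizer ({g} : Set Q)) = Nat.card (centralizer ({e g} : Set P)) := by
  refine Nat.card_congr (Equiv.subtypeEquiv e.toEquiv fun a => ?_)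
  rw [Subgroup.mem_centralizer_singleton_iff, Subgroup.mem_centralizer_singleton_iff]
  show a * g = g * a ↔ e a * e g = e g * e a
  rw [← map_mul, ← map_mul, e.apply_eq_iff_eq]

theorem map_cent_le (x : K) :
    (centralizer ({x} : Set K)).map (QuotientGroup.mk' (center K)) ≤
      centralizer ({(x : K ⧸ center K)} : Set (K ⧸ center K)) := by
  rintro _ ⟨a, ha, rfl⟩
  rw [Subgroup.mem_centralizer_singleton_iff]
  show ((a : K ⧸ center K)) * x = (x : K ⧸ center K) * a
  rw [← QuotientGroup.mk_mul, ← QuotientGroup.mk_mul, Subgroup.mem_centralizer_singleton_iff.1 ha]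

/-- Elements of `C(x)` commute as soon as one of them generates the image with something central. -/
theorem comm_of_image {a b : K}
    (h : (b : K ⧸ center K) ∈ (centralizer ({a} : Set K)).map (QuotientGroup.mk' (center K))) :
    a * b = b * a := by
  obtain ⟨v, hv, he⟩ := h
  have hz : v⁻¹ * b ∈ center K := QuotientGroup.eq.1 he
  have h1 : Commute a v := (Subgroup.mem_centralizer_singleton_iff.1 hv).symm
  have h2 : Commute a (v⁻¹ * b) := Subgroup.mem_center_iff.1 hz a
  have := h1.mul_right h2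
  rw [mul_inv_cancel_left] at this
  exact this.eq

theorem cent_comm_T (hperf : commutator K = ⊤) (hD : Dih (S : Subgroup K) T c u)
    (h8 : Nat.card (centralizer ({(T : K ⧸ center K)} : Set (K ⧸ center K))) = 8) :
    ∀ a ∈ centralizer ({T} : Set K), ∀ b ∈ centralizer ({T} : Set K), a * b = b * a := by
  set M := (centralizer ({T} : Set K)).map (QuotientGroup.mk' (center K)) with hM
  set C := centralizer ({(T : K ⧸ center K)} : Set (K ⧸ center K)) with hC
  have hu : (u : K ⧸ center K) ∈ C := by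
    rw [hC, Subgroup.mem_centralizer_singleton_iff, ← QuotientGroup.mk_mul, ← QuotientGroup.mk_mul,
      QuotientGroup.eq]
    have h := hD.T_central u hD.u_mem
    have h' := (inferInstance : (center K).Normal).conj_mem _ h (u * T)⁻¹
    have : (u * T)⁻¹ * (T * u * T⁻¹ * u⁻¹) * (u * T)⁻¹⁻¹ = (u * T)⁻¹ * (T * u) := by group
    rwa [this] at h'
  have hne : M ≠ C := by
    intro hMC
    obtain ⟨v, hv, hev⟩ := (hMC.symm ▸ hu : (u : K ⧸ center K) ∈ M)
    have hz : v⁻¹ * u ∈ center K := QuotientGroup.eq.1 hev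
    apply hD.u_not
    have h1 : Commute v T := Subgroup.mem_centralizer_singleton_iff.1 hv
    have h2 : Commute (v⁻¹ * u) T := (Subgroup.mem_center_iff.1 hz T).symm
    have := h1.mul_left h2
    rw [mul_inv_cancel_left] at this
    exact this.eq
  have hMle : M ≤ C := map_cent_le T
  have hlt : Nat.card M < 8 := by
    rw [← h8]
    exact lt_of_le_of_ne (Subgroup.card_le_of_le hMle)
      fun h => hne (Subgroup.eq_of_le_of_card_ge hMle h.ge)
  have hcM : zpowers (c : K ⧸ center K) ≤ M := Subgroup.zpowers_le.2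
    ⟨c, Subgroup.mem_centralizer_singleton_iff.2 hD.comm_T, rfl⟩
  have hcyc : M = zpowers (c : K ⧸ center K) := by
    refine (Subgroup.eq_of_le_of_card_ge hcM ?_).symm
    have h4 := (dih_center hperf hD).2.2.2.2
    rw [Nat.card_zpowers]
    have hd : Nat.card M ∣ 8 := h8 ▸ Subgroup.card_dvd_of_le hMle
    have h4' : 4 ≤ orderOf (c : K ⧸ center K) := Nat.le_of_dvd (orderOf_pos _) h4
    have := Nat.le_of_dvd (by norm_num) hd
    interval_cases hh : Nat.card M <;> omega
  intro a ha b hb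
  have ha' : a ∈ centralizer ({c} : Set K) := by
    rw [Subgroup.mem_centralizer_singleton_iff]
    have : (a : K ⧸ center K) ∈ (centralizer ({c} : Set K)).map (QuotientGroup.mk' (center K)) := by
      have h : (a : K ⧸ center K) ∈ M := ⟨a, ha, rfl⟩
      rw [hcyc] at h
      exact (Subgroup.zpowers_le.2 (Subgroup.mem_map_of_mem _
        (Subgroup.mem_centralizer_singleton_iff.2 rfl))) h
    exact (comm_of_image this).symm
  apply comm_of_image
  have hb' : (b : K ⧸ center K) ∈ M := ⟨b, hb, rfl⟩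
  rw [hcyc] at hb'
  refine (Subgroup.zpowers_le.2 (Subgroup.mem_map_of_mem _ ?_)) hb'
  exact Subgroup.mem_centralizer_singleton_iff.2 (Subgroup.mem_centralizer_singleton_iff.1 ha').symm

theorem isCA_nine (hperf : commutator K = ⊤) (hD : Dih (S : Subgroup K) T c u) (F : Type) [Field F]
    [Fintype F] (h9 : Fintype.card F = 9) (hbar : BarIso K F) : IsCA K := by
  obtain ⟨e⟩ := hbar
  have hF2 : (2 : F) ≠ 0 := SelfCentNC.two_ne_zero_iff.2 (by rw [h9]; decide)
  have hT8 : Nat.card (centralizer ({(T : K ⧸ center K)} : Set (K ⧸ center K))) = 8 := by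
    rw [card_cent_iso e]
    refine card_cent_involution h9 ?_
    rw [MulEquiv.orderOf_eq]
    refine orderOf_eq_prime ?_ ?_
    · rw [sq, ← QuotientGroup.mk_mul, QuotientGroup.eq_one_iff]
      exact hD.T_sq
    · rw [Ne, QuotientGroup.eq_one_iff]
      exact hD.T_not
  intro x hx
  refine ⟨⟨fun a b => Subtype.ext ?_⟩⟩
  show (a : K) * b = b * a
  by_cases hx2 : x * x ∈ center K
  · obtain ⟨g, y, hy, hg⟩ := exists_conj_T hperf hD hx hx2
    have hmem : ∀ v ∈ centralizer ({x} : Set K), g * v * g⁻¹ ∈ centralizer ({T} : Set K) := by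
      intro v hv
      rw [Subgroup.mem_centralizer_singleton_iff] at hv ⊢
      have h1 : Commute (g * v * g⁻¹) (T * y) := by
        rw [← hg]
        show g * v * g⁻¹ * (g * x * g⁻¹) = g * x * g⁻¹ * (g * v * g⁻¹)
        calc g * v * g⁻¹ * (g * x * g⁻¹) = g * (v * x) * g⁻¹ := by group
          _ = g * (x * v) * g⁻¹ := by rw [hv]
          _ = _ := by group
      have h2 : Commute (g * v * g⁻¹) y⁻¹ := Subgroup.mem_center_iff.1 (inv_mem hy) _
      have h3 := h1.mul_right h2
      rw [mul_inv_cancel_right] at h3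
      exact h3.eq
    have h := cent_comm_T hperf hD hT8 _ (hmem _ a.2) _ (hmem _ b.2)
    have h' : g * ((a : K) * b) * g⁻¹ = g * ((b : K) * a) * g⁻¹ := by
      calc g * ((a : K) * b) * g⁻¹ = (g * a * g⁻¹) * (g * b * g⁻¹) := by group
        _ = (g * b * g⁻¹) * (g * a * g⁻¹) := h
        _ = _ := by group
    exact mul_left_cancel (mul_right_cancel h')
  · have hx1 : (x : K ⧸ center K) ≠ 1 := by rw [Ne, QuotientGroup.eq_one_iff]; exact hx
    have hxx : (x : K ⧸ center K) * x ≠ 1 := by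
      rw [← QuotientGroup.mk_mul, Ne, QuotientGroup.eq_one_iff]; exact hx2
    have hle : Nat.card (centralizer ({(x : K ⧸ center K)} : Set (K ⧸ center K))) ≤ 9 := by
      rw [card_cent_iso e, ← h9]
      refine card_cent_le hF2 ?_ ?_
      · rwa [Ne, map_eq_one_iff e e.injective]
      · rwa [← map_mul, Ne, map_eq_one_iff e e.injective]
    set M := (centralizer ({x} : Set K)).map (QuotientGroup.mk' (center K)) with hM
    set L := zpowers (x : K ⧸ center K) with hL
    have hxa : x ∈ centralizer ({(a : K)} : Set K) :=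
      Subgroup.mem_centralizer_singleton_iff.2 (Subgroup.mem_centralizer_singleton_iff.1 a.2).symm
    set Q := L ⊔ zpowers ((a : K) : K ⧸ center K) with hQ
    have hQa : Q ≤ (centralizer ({(a : K)} : Set K)).map (QuotientGroup.mk' (center K)) :=
      sup_le (Subgroup.zpowers_le.2 ⟨x, hxa, rfl⟩)
        (Subgroup.zpowers_le.2 ⟨a, Subgroup.mem_centralizer_singleton_iff.2 rfl, rfl⟩)
    have hQM : Q ≤ M := sup_le
      (Subgroup.zpowers_le.2 ⟨x, Subgroup.mem_centralizer_singleton_iff.2 rfl, rfl⟩)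
      (Subgroup.zpowers_le.2 ⟨a, a.2, rfl⟩)
    have hbM : ((b : K) : K ⧸ center K) ∈ M := ⟨b, b.2, rfl⟩
    by_cases haL : ((a : K) : K ⧸ center K) ∈ L
    · refine (comm_of_image ?_).symm
      exact (Subgroup.zpowers_le.2 (show (x : K ⧸ center K) ∈
          (centralizer ({(b : K)} : Set K)).map (QuotientGroup.mk' (center K)) from
        ⟨x, Subgroup.mem_centralizer_singleton_iff.2
          (Subgroup.mem_centralizer_singleton_iff.1 b.2).symm, rfl⟩)) haL
    · apply comm_of_image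
      refine hQa ?_
      have hLQ : L ≤ Q := le_sup_left
      have hQne : Q ≠ L := fun h => haL (h ▸ (le_sup_right : _ ≤ Q) (mem_zpowers _))
      have hMle : Nat.card M ≤ 9 := le_trans (Subgroup.card_le_of_le (map_cent_le x)) hle
      have hL3 : 3 ≤ Nat.card L := by
        rw [hL, Nat.card_zpowers]
        have hpos := orderOf_pos (x : K ⧸ center K)
        by_contra hlt
        have h12 : orderOf (x : K ⧸ center K) = 1 ∨ orderOf (x : K ⧸ center K) = 2 := by omega
        rcases h12 with h | h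
        · exact hx1 (orderOf_eq_one_iff.1 h)
        · exact hxx (by rw [← sq, ← h, pow_orderOf_eq_one])
      obtain ⟨l, hl⟩ := Subgroup.card_dvd_of_le hLQ
      obtain ⟨k, hk⟩ := Subgroup.card_dvd_of_le hQM
      have hl2 : 2 ≤ l := by
        rcases l with _ | _ | l
        · have hp := Nat.card_pos (α := Q)
          omega
        · exact absurd (Subgroup.eq_of_le_of_card_ge hLQ (by omega)).symm hQne
        · omega
      have hQ6 : 6 ≤ Nat.card Q := by rw [hl]; exact Nat.mul_le_mul hL3 hl2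
      have hk1 : k = 1 := by
        rcases k with _ | _ | k
        · have hp := Nat.card_pos (α := M)
          omega
        · rfl
        · exfalso
          have h26 : 2 * 6 ≤ (k + 1 + 1) * Nat.card Q := Nat.mul_le_mul (by omega) hQ6
          rw [hk, mul_comm] at hMle
          omega
      have hQeq : Q = M := Subgroup.eq_of_le_of_card_ge hQM (by rw [hk, hk1, mul_one])
      exact hQeq ▸ hbM

end Group

end NinePiece

theorem nine (_hSimple : SimpleStmt.{u}) : NineStmt.{u} := by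
  intro K _ _ hK S T c u hD
  exact ⟨NinePiece.noInvolution hK.perfect hD,
    fun F _ _ h9 hbar => NinePiece.isCA_nine hK.perfect hD F h9 hbar⟩

end Cfsg.Agent.MinNonCA27
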