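import Cfsg.Agent.MinNonCA27.Defs

/-!
# Outer case, steps 4 and 5

`x` is outside `Z·K` with `B = C_K(x)` non-abelian and meeting a conjugate outside `Z`. Then there is
`e` of order `p` in `B` whose centraliser `A` in `K` contains a Sylow `p`-subgroup of `B` and is its
own normaliser in `B`, and a `p`-element `n` of `K` outside `B` normalising `A` with `[n, e]` a
non-trivial central element. In particular `p` divides the order of the centre of `K`.
-/

set_option autoImplicit false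

namespace Cfsg.Agent.MinNonCA27.Aux34

open Subgroup

universe u

variable {G : Type u} [Group G]

/-- The situation after steps 0-3. -/
structure Setup (K : Subgroup G) (p : ℕ) (x : G) : Prop where
  normal : K.Normal
  prime : p.Prime
  pow : x ^ p ∈ center G
  notMem : x ∉ center G
  xK : ∀ k ∈ K, x * k ∉ center G
  comm : ∃ a ∈ K, ∃ b ∈ K, a * x = x * a ∧ b * x = x * b ∧ a * b ≠ b * a
  rigid : ∀ k ∈ K, x⁻¹ * (k * x * k⁻¹) ∈ center G → k * x = x * k
  kerCA : ∀ k ∈ K, k ∉ center G → IsMulCommutative (centralizer ({k} : Set G))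
  meet : ∃ g ∈ K, g * x ≠ x * g ∧ ∃ c ∈ K, c ∉ center G ∧ c * x = x * c ∧
    c * (g * x * g⁻¹) = (g * x * g⁻¹) * c

/-- The configuration left to the endgame. -/
structure Critical (K : Subgroup G) (p : ℕ) (x e n : G) : Prop where
  e_mem : e ∈ K
  e_not : e ∉ center G
  e_pow : orderOf e = p
  e_comm : e * x = x * e
  n_mem : n ∈ K
  n_not : n * x ≠ x * n
  n_pgroup : ∃ j, orderOf n = p ^ j
  n_norm : ∀ a ∈ K, (a * e = e * a ↔ (n * a * n⁻¹) * e = e * (n * a * n⁻¹))
  z_mem : n * e * n⁻¹ * e⁻¹ ∈ center G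
  z_ne : n * e * n⁻¹ * e⁻¹ ≠ 1
  selfNorm : ∀ b ∈ K, b * x = x * b →
    (∀ a ∈ K, a * e = e * a → (b * a * b⁻¹) * e = e * (b * a * b⁻¹)) → b * e = e * b
  sylow : ∀ Q : Subgroup G, IsPGroup p Q → Q ≤ K ⊓ centralizer ({x} : Set G) →
    ∃ b ∈ K, b * x = x * b ∧ ∀ q ∈ Q, (b * q * b⁻¹) * e = e * (b * q * b⁻¹)

theorem mem_cent {a g : G} : a ∈ centralizer ({g} : Set G) ↔ a * g = g * a :=
  mem_centralizer_singleton_iff

theorem comm_of_ca {k u v : G} (h : IsMulCommutative (centralizer ({k} : Set G)))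
    (hu : u * k = k * u) (hv : v * k = k * v) : u * v = v * u :=
  congrArg Subtype.val (h.is_comm.comm ⟨u, mem_cent.2 hu⟩ ⟨v, mem_cent.2 hv⟩)

theorem comm_of_properCA (hP : ProperCA G) {H : Subgroup G} (hH : H ≠ ⊤) {y w u v : G}
    (hy : y ∈ H) (hw : w ∈ H) (hu : u ∈ H) (hv : v ∈ H) (hwy : w * y ≠ y * w)
    (huy : u * y = y * u) (hvy : v * y = y * v) : u * v = v * u := by
  have hn : (⟨y, hy⟩ : H) ∉ center H := fun h =>
    hwy (congrArg Subtype.val (mem_center_iff.1 h ⟨w, hw⟩))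
  have h := comm_of_ca (hP H hH ⟨y, hy⟩ hn) (u := (⟨u, hu⟩ : H)) (v := ⟨v, hv⟩)
    (Subtype.ext huy) (Subtype.ext hvy)
  exact congrArg Subtype.val h

theorem notMem_center_conj {a : G} (h : a ∉ center G) (g : G) : g * a * g⁻¹ ∉ center G := by
  intro hc
  have := (inferInstance : (center G).Normal).conj_mem _ hc g⁻¹
  exact h (by simpa [mul_assoc] using this)

theorem conj_comm {a b g : G} (h : a * b = b * a) :
    (g * a * g⁻¹) * (g * b * g⁻¹) = (g * b * g⁻¹) * (g * a * g⁻¹) := by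
  rw [conj_mul, conj_mul, h]

theorem comm_of_conj {a b g : G} (h : (g * a * g⁻¹) * (g * b * g⁻¹) = (g * b * g⁻¹) * (g * a * g⁻¹)) :
    a * b = b * a := by
  rwa [conj_mul, conj_mul, mul_left_inj, mul_right_inj] at h

theorem mem_normalizer_of_conj_le [Finite G] {H : Subgroup G} {n : G}
    (h : ∀ a ∈ H, n * a * n⁻¹ ∈ H) : n ∈ normalizer (H : Set G) := by
  refine mem_normalizer_iff.2 fun a => ⟨h a, fun ha => ?_⟩
  obtain ⟨b, hb, hab⟩ : ∃ b ∈ H, n * b * n⁻¹ = n * a * n⁻¹ := by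
    have hinj : Function.Injective (fun b : H => (⟨n * b * n⁻¹, h b b.2⟩ : H)) := fun b c hbc =>
      Subtype.ext (mul_left_cancel (mul_right_cancel (congrArg Subtype.val hbc)))
    obtain ⟨b, hb⟩ := Finite.surjective_of_injective hinj ⟨_, ha⟩
    exact ⟨b, b.2, congrArg Subtype.val hb⟩
  rwa [← mul_left_cancel (mul_right_cancel hab)]

theorem exists_iterate_eq_one [Finite G] {p : ℕ} [Fact p.Prime] {P : Subgroup G}
    (hP : IsPGroup p P) {n a : G} (hn : n ∈ P) (ha : a ∈ P) :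
    ∃ i, (fun b => n * b * n⁻¹ * b⁻¹)^[i] a = 1 := by
  have := hP.isNilpotent
  let f : P → P := fun b => ⟨n, hn⟩ * b * (⟨n, hn⟩ : P)⁻¹ * b⁻¹
  have hf : ∀ i, f^[i] ⟨a, ha⟩ ∈ (⊤ : Subgroup P).lowerCentralSeries i := by
    intro i
    induction i with
    | zero => exact mem_top _
    | succ i ih =>
      rw [Function.iterate_succ_apply']
      have h := Subgroup.commutator_mem_commutator ih (mem_top (⟨n, hn⟩ : P))
      have h' := inv_mem h
      rw [commutatorElement_inv] at h'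
      exact h'
  have hcoe : ∀ i, ((f^[i] ⟨a, ha⟩ : P) : G) = (fun b => n * b * n⁻¹ * b⁻¹)^[i] a := by
    intro i
    induction i with
    | zero => rfl
    | succ i ih =>
      rw [Function.iterate_succ_apply', Function.iterate_succ_apply', ← ih]
      rfl
  obtain ⟨i, hi⟩ := Subgroup.nilpotent_iff_lowerCentralSeries.1 this
  refine ⟨i, ?_⟩
  have := hf i
  rw [hi, mem_bot] at this
  rw [← hcoe, this]
  rfl

/-- The `p`-elements of `C_K(e)`, a group as soon as that centraliser is abelian. -/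
def pPart (p : ℕ) (A : Subgroup G) (hA : ∀ a ∈ A, ∀ b ∈ A, a * b = b * a) : Subgroup G where
  carrier := {a | a ∈ A ∧ ∃ j, a ^ p ^ j = 1}
  one_mem' := ⟨one_mem A, 0, by simp⟩
  inv_mem' := fun {a} ⟨ha, j, hj⟩ => ⟨inv_mem ha, j, by rw [inv_pow, hj, inv_one]⟩
  mul_mem' := fun {a b} ⟨ha, i, hi⟩ ⟨hb, j, hj⟩ => ⟨mul_mem ha hb, i + j, by
    rw [(show Commute a b from hA a ha b hb).mul_pow, pow_add, pow_mul, hi, one_pow, one_mul,
      mul_comm (p ^ i), pow_mul, hj, one_pow]⟩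

variable [Finite G] {K : Subgroup G} {p : ℕ} {x : G}

/-- Steps 3 and 4. -/
theorem sylow_step (hP : ProperCA G) (hR : RadCentral G) (hs : Setup K p x) :
    ∃ e n : G, e ∈ K ∧ e ∉ center G ∧ orderOf e = p ∧ e * x = x * e ∧
      n ∈ K ∧ n * x ≠ x * n ∧
      (∀ a ∈ K, a * e = e * a → (n * a * n⁻¹) * e = e * (n * a * n⁻¹)) ∧
      (∀ b ∈ K, b * x = x * b →
        (∀ a ∈ K, a * e = e * a → (b * a * b⁻¹) * e = e * (b * a * b⁻¹)) → b * e = e * b) ∧
      (∀ Q : Subgroup G, IsPGroup p Q → Q ≤ K ⊓ centralizer ({x} : Set G) →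
        ∃ b ∈ K, b * x = x * b ∧ ∀ q ∈ Q, (b * q * b⁻¹) * e = e * (b * q * b⁻¹)) := by
  have : Fact p.Prime := ⟨hs.prime⟩
  have := hs.normal
  obtain ⟨g, hg, hgx, c, hc, hcZ, hcx, hcx'⟩ := hs.meet
  set x' := g * x * g⁻¹ with hx'
  set e := x⁻¹ * x' with he
  have heK : e ∈ K := by
    have h1 : x⁻¹ * g * x⁻¹⁻¹ ∈ K := hs.normal.conj_mem g hg x⁻¹
    have h2 : e = x⁻¹ * g * x⁻¹⁻¹ * g⁻¹ := by rw [he, hx']; group
    rw [h2]
    exact mul_mem h1 (inv_mem hg)
  have heZ : e ∉ center G := fun h => hgx (hs.rigid g hg h)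
  have hxx' : x * x' = x' * x := comm_of_ca (hs.kerCA c hc hcZ) hcx.symm hcx'.symm
  have hex : e * x = x * e := by
    have : Commute x⁻¹ x := (Commute.refl x).inv_left
    exact (this.mul_left (show Commute x' x from hxx'.symm)).eq
  have hex' : e * x' = x' * e := by
    have : Commute x⁻¹ x' := (show Commute x x' from hxx').inv_left
    exact (this.mul_left (Commute.refl x')).eq
  have hep : orderOf e = p := by
    refine orderOf_eq_prime ?_ (fun h => heZ (h ▸ one_mem _))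
    rw [he, (show Commute x⁻¹ x' from (show Commute x x' from hxx').inv_left).mul_pow, hx',
      conj_pow, mem_center_iff.1 hs.pow g, mul_inv_cancel_right, inv_pow, inv_mul_cancel]
  set A := K ⊓ centralizer ({e} : Set G) with hAdef
  have memA : ∀ {a : G}, a ∈ A ↔ a ∈ K ∧ a * e = e * a := fun {a} => by
    rw [hAdef, mem_inf, mem_cent]
  have hA : ∀ a ∈ A, ∀ b ∈ A, a * b = b * a := fun a ha b hb =>
    comm_of_ca (hs.kerCA e heK heZ) (memA.1 ha).2 (memA.1 hb).2
  have hAx : ∀ a ∈ A, a * x = x * a := fun a ha =>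
    comm_of_ca (hs.kerCA e heK heZ) (memA.1 ha).2 hex.symm
  have hAx' : ∀ a ∈ A, a * x' = x' * a := fun a ha =>
    comm_of_ca (hs.kerCA e heK heZ) (memA.1 ha).2 hex'.symm
  set Ap := pPart p A hA with hAp
  have heAp : e ∈ Ap := ⟨memA.2 ⟨heK, rfl⟩, 1, by rw [pow_one, ← hep, pow_orderOf_eq_one]⟩
  have hAppg : IsPGroup p Ap := fun a => by
    obtain ⟨j, hj⟩ := a.2.2
    exact ⟨j, Subtype.ext (by simpa using hj)⟩
  have hH : normalizer (Ap : Set G) ≠ ⊤ := by
    intro h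
    have : Ap.Normal := normalizer_eq_top_iff.1 h
    have : Group.IsSolvable Ap := by
      apply Group.isSolvable_of_comm
      intro a b
      exact Subtype.ext (hA a a.2.1 b b.2.1)
    exact heZ (hR Ap inferInstance inferInstance heAp)
  have hnorm : ∀ y : G, (∀ a ∈ A, y * a = a * y) → y ∈ normalizer (Ap : Set G) := fun y hy =>
    mem_normalizer_of_conj_le fun a ha => by rwa [hy a ha.1, mul_inv_cancel_right]
  have hxN : x ∈ normalizer (Ap : Set G) := hnorm x fun a ha => (hAx a ha).symm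
  have hx'N : x' ∈ normalizer (Ap : Set G) := hnorm x' fun a ha => (hAx' a ha).symm
  have heN : e ∈ normalizer (Ap : Set G) := le_normalizer heAp
  -- either `Ap` is a Sylow subgroup of `C_K(y)` or something there moves `e`
  have dich : ∀ y : G, (∀ a ∈ A, a * y = y * a) →
      (∀ Q : Subgroup G, IsPGroup p Q → Q ≤ K ⊓ centralizer ({y} : Set G) →
        Nat.card Q ≤ Nat.card Ap) ∨
      ∃ u ∈ normalizer (Ap : Set G), u * y = y * u ∧ u * e ≠ e * u := by
    intro y hy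
    set B := K ⊓ centralizer ({y} : Set G) with hB
    have hApB : Ap ≤ B := fun a ha => mem_inf.2 ⟨(memA.1 ha.1).1, mem_cent.2 (hy a ha.1)⟩
    obtain ⟨R, hR'⟩ := (hAppg.comap_of_injective B.subtype B.subtype_injective).exists_le_sylow
    set R' := (R : Subgroup B).map B.subtype with hR'def
    have hR'p : IsPGroup p R' := R.2.map _
    have hApR : Ap ≤ R' := fun a ha => ⟨⟨a, hApB ha⟩, hR' ha, rfl⟩
    by_cases hall : ∀ r ∈ R', r * e = e * r
    · refine Or.inl fun Q hQ hQB => ?_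
      have hRAp : R' = Ap := by
        refine le_antisymm (fun r hr => ⟨memA.2 ⟨?_, hall r hr⟩, ?_⟩) hApR
        · obtain ⟨s, _, rfl⟩ := hr
          exact (mem_inf.1 s.2).1
        · obtain ⟨j, hj⟩ := hR'p ⟨r, hr⟩
          exact ⟨j, by simpa using congrArg Subtype.val hj⟩
      obtain ⟨R₁, hR₁⟩ := (hQ.comap_of_injective B.subtype B.subtype_injective).exists_le_sylow
      calc Nat.card Q = Nat.card (Q.subgroupOf B) :=
            (Nat.card_congr (subgroupOfEquivOfLe hQB).toEquiv).symm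
        _ ≤ Nat.card (R₁ : Subgroup B) := Subgroup.card_le_of_le hR₁
        _ = Nat.card (R : Subgroup B) := (R₁.equiv R).toEquiv |> Nat.card_congr
        _ = Nat.card R' := (card_map_of_injective B.subtype_injective).symm
        _ = Nat.card Ap := by rw [hRAp]
    · push Not at hall
      obtain ⟨r, hr, hre⟩ := hall
      have := hR'p.isNilpotent
      have hlt : Ap.subgroupOf R' < ⊤ := by
        refine lt_top_iff_ne_top.2 fun h => hre ?_
        have : (⟨r, hr⟩ : R') ∈ Ap.subgroupOf R' := h ▸ mem_top _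
        exact (memA.1 (mem_subgroupOf.1 this).1).2
      obtain ⟨u, hu, huA⟩ := SetLike.exists_of_lt (Group.normalizerCondition_of_isNilpotent _ hlt)
      refine Or.inr ⟨(u : G), ?_, ?_, fun h => huA ?_⟩
      · exact mem_normalizer_of_conj_le fun a ha =>
          mem_subgroupOf.1 ((mem_normalizer_iff.1 hu ⟨a, hApR ha⟩).1 ha)
      · obtain ⟨s, _, hs'⟩ := u.2
        exact mem_cent.1 (hs' ▸ (mem_inf.1 s.2).2)
      · obtain ⟨j, hj⟩ := hR'p u
        obtain ⟨s, _, hs'⟩ := u.2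
        exact mem_subgroupOf.2
          ⟨memA.2 ⟨hs' ▸ (mem_inf.1 s.2).1, h⟩, j, by simpa using congrArg Subtype.val hj⟩
  have hmap : ∀ Q : Subgroup G, IsPGroup p Q → Q ≤ K ⊓ centralizer ({x} : Set G) →
      Nat.card Q ≤ Nat.card Ap := by
    rcases dich x hAx with h | ⟨u, huN, hux, hue⟩
    · exact h
    rcases dich x' hAx' with h | ⟨u', huN', hux', hue'⟩
    · intro Q hQ hQB
      refine le_trans (le_of_eq ?_) (h (Q.map (MulAut.conj g).toMonoidHom) (hQ.map _) ?_)
      · exact (card_map_of_injective (MulAut.conj g).injective).symm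
      · rintro _ ⟨q, hq, rfl⟩
        obtain ⟨hqK, hqx⟩ := mem_inf.1 (hQB hq)
        exact mem_inf.2 ⟨hs.normal.conj_mem q hqK g, mem_cent.2 (conj_comm (mem_cent.1 hqx))⟩
    · exfalso
      have hxc : ∀ w ∈ normalizer (Ap : Set G), w * x = x * w := by
        intro w hw
        by_contra hne
        exact hue (comm_of_properCA hP hH hxN hw huN heN hne hux hex)
      refine hue' ?_
      have h1 : Commute u' x⁻¹ := (show Commute u' x from hxc u' huN').inv_right
      exact (h1.mul_right (show Commute u' x' from hux')).eq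
  have hApB : Ap ≤ K ⊓ centralizer ({x} : Set G) := fun a ha =>
    mem_inf.2 ⟨(memA.1 ha.1).1, mem_cent.2 (hAx a ha.1)⟩
  have hconj : ∀ Q : Subgroup G, IsPGroup p Q → Q ≤ K ⊓ centralizer ({x} : Set G) →
      ∃ b ∈ K, b * x = x * b ∧ ∀ q ∈ Q, b * q * b⁻¹ ∈ Ap := by
    intro Q hQ hQB
    set B := K ⊓ centralizer ({x} : Set G) with hB
    obtain ⟨R, hR'⟩ := (hAppg.comap_of_injective B.subtype B.subtype_injective).exists_le_sylow
    obtain ⟨R₁, hR₁⟩ := (hQ.comap_of_injective B.subtype B.subtype_injective).exists_le_sylow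
    have hRAp : (R : Subgroup B).map B.subtype = Ap := by
      refine (eq_of_le_of_card_ge
        (show Ap ≤ (R : Subgroup B).map B.subtype from fun a ha => ⟨⟨a, hApB ha⟩, hR' ha, rfl⟩) ?_).symm
      exact hmap _ (R.2.map _) (map_subtype_le _)
    obtain ⟨b, hb⟩ := MulAction.exists_smul_eq B R₁ R
    refine ⟨b, (mem_inf.1 b.2).1, mem_cent.1 (mem_inf.1 b.2).2, fun q hq => ?_⟩
    rw [← hRAp]
    refine ⟨b * ⟨q, hQB hq⟩ * b⁻¹, ?_, rfl⟩
    rw [← hb, Sylow.coe_subgroup_smul]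
    exact smul_mem_pointwise_smul _ (MulAut.conj b) _ (hR₁ hq)
  obtain ⟨b, hbK, hbx, hbmem⟩ := hconj (Ap.map (MulAut.conj g⁻¹).toMonoidHom) (hAppg.map _) (by
    rintro _ ⟨a, ha, rfl⟩
    refine mem_inf.2 ⟨hs.normal.conj_mem a (memA.1 ha.1).1 g⁻¹, mem_cent.2 ?_⟩
    have h := conj_comm (g := g⁻¹) (hAx' a ha.1)
    have hxg : g⁻¹ * x' * g⁻¹⁻¹ = x := by rw [hx']; group
    rwa [hxg] at h)
  set n := b * g⁻¹ with hn
  have hnAp : ∀ a ∈ Ap, n * a * n⁻¹ ∈ Ap := fun a ha => by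
    have h := hbmem _ ⟨a, ha, rfl⟩
    have h2 : n * a * n⁻¹ = b * ((MulAut.conj g⁻¹).toMonoidHom a) * b⁻¹ := by
      simp [hn, mul_assoc]
    rwa [h2]
  have hnx : n * x ≠ x * n := by
    intro h
    apply hgx
    have h1 : Commute g⁻¹ x := by
      have h2 : g⁻¹ = b⁻¹ * n := by rw [hn]; group
      rw [h2]
      exact (show Commute b x from hbx).inv_left.mul_left (show Commute n x from h)
    simpa using h1.inv_left.eq
  have hne : n * e * n⁻¹ ∈ A := (hnAp e heAp).1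
  refine ⟨e, n, heK, heZ, hep, hex, mul_mem hbK (inv_mem hg), hnx, fun a ha hae => ?_, ?_, ?_⟩
  · exact comm_of_ca (hs.kerCA _ (memA.1 hne).1 (notMem_center_conj heZ n))
      (conj_comm hae) (memA.1 hne).2.symm
  · intro b' hb'K hb'x hb'A
    refine comm_of_properCA hP hH hxN (mem_normalizer_of_conj_le hnAp) ?_ heN hnx hb'x hex
    refine mem_normalizer_of_conj_le fun a ha => ⟨memA.2 ⟨?_, hb'A a (memA.1 ha.1).1 (memA.1 ha.1).2⟩, ?_⟩
    · exact hs.normal.conj_mem a (memA.1 ha.1).1 b'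
    · obtain ⟨j, hj⟩ := ha.2
      exact ⟨j, by rw [conj_pow, hj, mul_one, mul_inv_cancel]⟩
  · intro Q hQ hQB
    obtain ⟨b', hb'K, hb'x, hb'⟩ := hconj Q hQ hQB
    exact ⟨b', hb'K, hb'x, fun q hq => (memA.1 (hb' q hq).1).2⟩

/-- Step 5. -/
theorem critical (hP : ProperCA G) (hR : RadCentral G)
    (hall : ∀ y : G, y ∉ center G → y ^ p ∈ center G → (∀ k ∈ K, y * k ∉ center G) →
      (∃ a ∈ K, ∃ b ∈ K, a * y = y * a ∧ b * y = y * b ∧ a * b ≠ b * a) → Setup K p y)
    (hs : Setup K p x) : ∃ e n : G, Critical K p x e n := by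
  classical
  have : Fact p.Prime := ⟨hs.prime⟩
  have := hs.normal
  obtain ⟨e, n₀, heK, heZ, hep, hex, hn₀K, hn₀x, hn₀A, hself, hsyl⟩ := sylow_step hP hR hs
  set A := K ⊓ centralizer ({e} : Set G) with hAdef
  have memA : ∀ {a : G}, a ∈ A ↔ a ∈ K ∧ a * e = e * a := fun {a} => by
    rw [hAdef, mem_inf, mem_cent]
  have hA : ∀ a ∈ A, ∀ b ∈ A, a * b = b * a := fun a ha b hb =>
    comm_of_ca (hs.kerCA e heK heZ) (memA.1 ha).2 (memA.1 hb).2
  have hAx : ∀ a ∈ A, a * x = x * a := fun a ha =>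
    comm_of_ca (hs.kerCA e heK heZ) (memA.1 ha).2 hex.symm
  have heA : e ∈ A := memA.2 ⟨heK, rfl⟩
  set NA := K ⊓ normalizer (A : Set G) with hNA
  have hANA : A ≤ NA := fun a ha => mem_inf.2 ⟨(memA.1 ha).1, le_normalizer ha⟩
  have hn₀NA : n₀ ∈ NA := mem_inf.2 ⟨hn₀K, mem_normalizer_of_conj_le fun a ha =>
    memA.2 ⟨hs.normal.conj_mem a (memA.1 ha).1 n₀, hn₀A a (memA.1 ha).1 (memA.1 ha).2⟩⟩
  have hnorm : ∀ m ∈ NA, ∀ a ∈ A, m * a * m⁻¹ ∈ A := fun m hm a ha =>
    (mem_normalizer_iff.1 (mem_inf.1 hm).2 a).1 ha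
  have hNAx : ∀ m ∈ NA, m * x = x * m → m ∈ A := fun m hm hmx => memA.2 ⟨(mem_inf.1 hm).1,
    hself m (mem_inf.1 hm).1 hmx fun a haK hae => (memA.1 (hnorm m hm a (memA.2 ⟨haK, hae⟩))).2⟩
  set Aq := A.subgroupOf NA with hAq
  have hdvd : p ∣ Aq.index := by
    by_contra hnd
    let _ : CommGroup A := { (inferInstance : Group A) with
      mul_comm := fun a b => Subtype.ext (hA a a.2 b b.2) }
    have hδ : ∀ m : NA, x⁻¹ * (m * x * (m : G)⁻¹) ∈ A := by
      intro m
      have hmK := (mem_inf.1 m.2).1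
      have h1 : x⁻¹ * (m : G) * x⁻¹⁻¹ ∈ K := hs.normal.conj_mem _ hmK x⁻¹
      have h1' : x⁻¹ * (m * x * (m : G)⁻¹) = x⁻¹ * (m : G) * x⁻¹⁻¹ * (m : G)⁻¹ := by group
      refine memA.2 ⟨h1' ▸ mul_mem h1 (inv_mem hmK), ?_⟩
      have h2 : (m : G)⁻¹ * e * (m : G)⁻¹⁻¹ ∈ A := hnorm _ (inv_mem m.2) e heA
      have h3 := conj_comm (g := (m : G)) (hAx _ h2)
      have h4 : (m : G) * ((m : G)⁻¹ * e * (m : G)⁻¹⁻¹) * (m : G)⁻¹ = e := by group
      rw [h4] at h3
      exact ((show Commute x⁻¹ e from (show Commute x e from hex.symm).inv_left).mul_left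
        (show Commute ((m : G) * x * (m : G)⁻¹) e from h3.symm)).eq
    let δ : NA → A := fun m => ⟨_, hδ m⟩
    have hδp : ∀ m, δ m ^ p = 1 := by
      intro m
      apply Subtype.ext
      have h1 : Commute x ((m : G) * x * (m : G)⁻¹) := by
        have h2 := hAx _ (hδ m)
        have h3 : Commute (x * (x⁻¹ * ((m : G) * x * (m : G)⁻¹))) x :=
          (Commute.refl x).mul_left h2
        rw [mul_inv_cancel_left] at h3
        exact h3.symm
      push_cast
      change (x⁻¹ * ((m : G) * x * (m : G)⁻¹)) ^ p = 1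
      rw [h1.inv_left.mul_pow, conj_pow, mem_center_iff.1 hs.pow (m : G), mul_inv_cancel_right,
        inv_pow, inv_mul_cancel]
    have hinv : ∀ m a : NA, a ∈ Aq → δ (m * a) = δ m := by
      intro m a ha
      apply Subtype.ext
      have hax := hAx _ (mem_subgroupOf.1 ha)
      change x⁻¹ * (((m * a : NA) : G) * x * ((m * a : NA) : G)⁻¹) = x⁻¹ * (m * x * (m : G)⁻¹)
      push_cast
      rw [mul_inv_rev, mul_assoc (m : G), hax]
      group
    let f : NA ⧸ Aq → A := fun q => δ q.out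
    have hf : ∀ m : NA, f (QuotientGroup.mk m) = δ m := by
      intro m
      obtain ⟨a, ha⟩ := QuotientGroup.mk_out_eq_mul Aq m
      change δ _ = δ m
      rw [ha, hinv m a a.2]
    let φ : NA → A →* A := fun m =>
      { toFun := fun a => ⟨m * a * (m : G)⁻¹, hnorm m m.2 a a.2⟩
        map_one' := Subtype.ext (by simp)
        map_mul' := fun a b => Subtype.ext (by simp [mul_assoc]) }
    have hcoc : ∀ m l : NA, δ (m * l) = δ m * φ m (δ l) := by
      intro m l
      apply Subtype.ext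
      change x⁻¹ * ((m * l : G) * x * (m * l : G)⁻¹) =
        x⁻¹ * (m * x * (m : G)⁻¹) * (m * (x⁻¹ * (l * x * (l : G)⁻¹)) * (m : G)⁻¹)
      group
    let _ := Fintype.ofFinite (NA ⧸ Aq)
    set s : A := ∏ q, f q with hs'
    set k := Fintype.card (NA ⧸ Aq) with hk
    have hsp : s ^ p = 1 := by
      rw [hs', ← Finset.prod_pow]
      exact Finset.prod_eq_one fun q _ => hδp _
    have hfix : ∀ m : NA, s = δ m ^ k * φ m s := by
      intro m
      calc s = ∏ q, f (m • q) := (Equiv.prod_comp (MulAction.toPerm m) f).symm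
        _ = ∏ q, δ m * φ m (f q) := Finset.prod_congr rfl fun q _ => by
          induction q using QuotientGroup.induction_on with
          | _ l => rw [MulAction.Quotient.smul_mk, smul_eq_mul, hf, hf, hcoc]
        _ = _ := by rw [Finset.prod_mul_distrib, Finset.prod_const, map_prod, Finset.card_univ]
    obtain ⟨j, _, hj⟩ : ∃ j, j < p ∧ k * j % p = 1 := by
      refine Nat.exists_mul_mod_eq_one_of_coprime ?_ hs.prime.one_lt
      rw [hk, ← Nat.card_eq_fintype_card]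
      exact (hs.prime.coprime_iff_not_dvd.2 hnd).symm
    set a : A := s ^ j with ha
    have haK : (a : G) ∈ K := (memA.1 a.2).1
    have hax : (a : G) * x = x * a := hAx a a.2
    have hafix : ∀ m : NA, (m : G) * (x * a) = x * a * m := by
      intro m
      have h1 : a = δ m * φ m a := by
        have h2 : a = δ m ^ (k * j) * φ m a := by
          rw [ha, map_pow, pow_mul, ← mul_pow, ← hfix m]
        rwa [← pow_mod_orderOf, ← Nat.mod_mod_of_dvd (k * j)
          (orderOf_dvd_of_pow_eq_one (hδp m)), hj, pow_mod_orderOf, pow_one] at h2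
      have h3 : (a : G) = x⁻¹ * (m * x * (m : G)⁻¹) * (m * a * (m : G)⁻¹) := congrArg Subtype.val h1
      have h4 : x * (a : G) = m * (x * a) * (m : G)⁻¹ := by
        conv_lhs => rw [h3]
        group
      conv_rhs => rw [h4]
      group
    have hxap : (x * a) ^ p ∈ center G := by
      have hap : a ^ p = 1 := by rw [ha, ← pow_mul, mul_comm, pow_mul, hsp, one_pow]
      have hap' : (a : G) ^ p = 1 := by simpa using congrArg Subtype.val hap
      rw [(show Commute x (a : G) from hax.symm).mul_pow, hap', mul_one]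
      exact hs.pow
    have hn₀e : n₀ * e ≠ e * n₀ := fun h => hn₀x (hAx n₀ (memA.2 ⟨hn₀K, h⟩))
    have hs₂ := hall (x * a) (hs.xK a haK) hxap
      (fun k hk => by rw [mul_assoc]; exact hs.xK _ (mul_mem haK hk))
      ⟨n₀, hn₀K, e, heK, hafix ⟨n₀, hn₀NA⟩, hafix ⟨e, hANA heA⟩, hn₀e⟩
    obtain ⟨e₂, n₂, he₂K, he₂Z, -, he₂x, -, -, -, hself₂, hsyl₂⟩ := sylow_step hP hR hs₂
    obtain ⟨b, hbK, hbx, hbQ⟩ := hsyl₂ (zpowers e)
      (IsPGroup.of_card (n := 1) (by rw [Nat.card_zpowers, hep, pow_one]))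
      (zpowers_le.2 (mem_inf.2 ⟨heK, mem_cent.2 (hafix ⟨e, hANA heA⟩)⟩))
    have he₁ : (b * e * b⁻¹) * e₂ = e₂ * (b * e * b⁻¹) := hbQ e (mem_zpowers e)
    have he₁K : b * e * b⁻¹ ∈ K := hs.normal.conj_mem e heK b
    have hnb : (b * n₀ * b⁻¹) * e₂ = e₂ * (b * n₀ * b⁻¹) := by
      refine hself₂ _ (hs.normal.conj_mem n₀ hn₀K b) ?_ fun c hc hce => ?_
      · have hb : Commute b (x * a) := hbx
        exact ((hb.mul_left (hafix ⟨n₀, hn₀NA⟩)).mul_left hb.inv_left).eq
      · have h1 : c * (b * e * b⁻¹) = (b * e * b⁻¹) * c :=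
          comm_of_ca (hs.kerCA e₂ he₂K he₂Z) hce he₁
        set d := b⁻¹ * c * b⁻¹⁻¹ with hd
        have hd' : c = b * d * b⁻¹ := by rw [hd]; group
        have h3 : d * e = e * d := comm_of_conj (g := b) (by rwa [← hd'])
        have h4 := conj_comm (g := b) (hn₀A d (hs.normal.conj_mem c hc b⁻¹) h3)
        have h5 : b * (n₀ * d * n₀⁻¹) * b⁻¹ = (b * n₀ * b⁻¹) * c * (b * n₀ * b⁻¹)⁻¹ := by
          rw [hd']; group
        rw [h5] at h4
        exact comm_of_ca (hs.kerCA _ he₁K (notMem_center_conj heZ b)) h4 he₁.symm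
    exact hn₀e (comm_of_conj (comm_of_ca (hs.kerCA e₂ he₂K he₂Z) hnb he₁))
  obtain ⟨P⟩ : Nonempty (Sylow p NA) := inferInstance
  obtain ⟨l, hlP, hlA⟩ : ∃ l ∈ (P : Subgroup NA), l ∉ Aq := by
    by_contra h
    push Not at h
    exact P.not_dvd_index (dvd_trans hdvd (index_dvd_of_le h))
  set P' := (P : Subgroup NA).map NA.subtype with hP'
  have hP'p : IsPGroup p P' := P.2.map _
  have heP : e ∈ P' := by
    set E : Subgroup NA := (pPart p A hA).subgroupOf NA with hE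
    have hEp : IsPGroup p E := fun a => by
      obtain ⟨j, hj⟩ := (mem_subgroupOf.1 a.2).2
      exact ⟨j, Subtype.ext (Subtype.ext (by simpa using hj))⟩
    have hEn : E.Normal := ⟨fun a ha m => mem_subgroupOf.2 ⟨hnorm m m.2 a (mem_subgroupOf.1 ha).1, by
      obtain ⟨j, hj⟩ := (mem_subgroupOf.1 ha).2
      exact ⟨j, by push_cast; rw [conj_pow, hj, mul_one, mul_inv_cancel]⟩⟩⟩
    refine ⟨⟨e, hANA heA⟩, ?_, rfl⟩
    exact (IsPGroup.le_sylow_of_normal hEp P) (mem_subgroupOf.2 ⟨heA, 1, by rw [pow_one, ← hep, pow_orderOf_eq_one]⟩)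
  have hlP' : (l : G) ∈ P' := ⟨l, hlP, rfl⟩
  set c := fun b : G => (l : G) * b * (l : G)⁻¹ * b⁻¹ with hc
  have hinvar : ∀ i, c^[i] e ∈ A ∧ (c^[i] e) ^ p = 1 := by
    intro i
    induction i with
    | zero => exact ⟨heA, by rw [Function.iterate_zero_apply, ← hep, pow_orderOf_eq_one]⟩
    | succ i ih =>
      rw [Function.iterate_succ_apply']
      have h1 := hnorm l l.2 _ ih.1
      refine ⟨mul_mem h1 (inv_mem ih.1), ?_⟩
      rw [hc, (show Commute _ _ from hA _ h1 _ (inv_mem ih.1)).mul_pow, conj_pow, ih.2, inv_pow,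
        ih.2]
      simp
  obtain ⟨i₀, hi₀⟩ := exists_iterate_eq_one hP'p hlP' heP
  have hex' : ∃ i, c^[i] e ∈ center G := ⟨i₀, by rw [hc, hi₀]; exact one_mem _⟩
  have hpos : Nat.find hex' ≠ 0 := fun h => heZ (by simpa [h] using Nat.find_spec hex')
  set i := Nat.find hex' - 1 with hi
  set e' := c^[i] e with he'
  have he'Z : e' ∉ center G := Nat.find_min hex' (by omega)
  have hz : c e' ∈ center G := by
    rw [he', ← Function.iterate_succ_apply' c i e, show i.succ = Nat.find hex' by omega]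
    exact Nat.find_spec hex'
  obtain ⟨he'A, he'p⟩ := hinvar i
  have he'K := (memA.1 he'A).1
  have hsame : ∀ a, a * e' = e' * a ↔ a * e = e * a := fun a =>
    ⟨fun h => comm_of_ca (hs.kerCA e' he'K he'Z) h (memA.1 he'A).2.symm,
     fun h => comm_of_ca (hs.kerCA e heK heZ) h (memA.1 he'A).2⟩
  have hlK := (mem_inf.1 l.2).1
  refine ⟨e', l, he'K, he'Z, orderOf_eq_prime he'p (fun h => he'Z (h ▸ one_mem _)), hAx e' he'A,
    hlK, fun h => hlA (mem_subgroupOf.2 (hNAx l l.2 h)), ?_, fun a ha => ?_, hz, fun h => ?_,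
    fun b hbK hbx hb => (hsame b).2 (hself b hbK hbx fun a haK hae =>
      (hsame _).1 (hb a haK ((hsame a).2 hae))), fun Q hQ hQB => ?_⟩
  · obtain ⟨j, hj⟩ := IsPGroup.iff_orderOf.1 hP'p ⟨l, hlP'⟩
    exact ⟨j, by rwa [← Subgroup.orderOf_coe] at hj⟩
  · rw [hsame, hsame]
    refine ⟨fun h => (memA.1 (hnorm l l.2 a (memA.2 ⟨ha, h⟩))).2, fun h => ?_⟩
    exact (memA.1 ((mem_normalizer_iff.1 (mem_inf.1 l.2).2 a).2
      (memA.2 ⟨hs.normal.conj_mem a ha l, h⟩))).2
  · refine hlA (mem_subgroupOf.2 (memA.2 ⟨hlK, (hsame _).1 ?_⟩))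
    have h1 : (l : G) * e' = ((l : G) * e' * (l : G)⁻¹ * e'⁻¹) * e' * l := by group
    rwa [h, one_mul] at h1
  · obtain ⟨b, hbK, hbx, hb⟩ := hsyl Q hQ hQB
    exact ⟨b, hbK, hbx, fun q hq => (hsame _).2 (hb q hq)⟩

end Cfsg.Agent.MinNonCA27.Aux34
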