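import Mathlib.GroupTheory.Sylow
import Mathlib.GroupTheory.Transfer
import Mathlib.GroupTheory.IndexNormal
import Mathlib.Tactic.NormNum.Prime
import Mathlib.GroupTheory.GroupAction.SubMulAction
import Mathlib.GroupTheory.GroupAction.Quotient
import Mathlib.GroupTheory.Perm.Basic
import Mathlib.GroupTheory.SpecificGroups.Cyclic
import Mathlib.Data.Nat.Prime.Basic
import Mathlib.Tactic.IntervalCases

/-!
# S4369, `Outer.lean`: the endgame `|K/Z(K)| = 360`
-/

set_option autoImplicit false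
set_option linter.style.haveILetI false

namespace Cfsg.Agent.MinNonCA27

namespace Aux5

open Subgroup

universe u

section Finite360

theorem arith_p {p : ℕ} (hp : p.Prime) (hp2 : p ≠ 2) (h : p * p ∣ 360) : p = 3 := by
  have h3 : p ≤ 18 := by nlinarith [Nat.le_of_dvd (by norm_num : 0 < 360) h]
  have := hp.two_le
  interval_cases p <;> first | rfl | omega | norm_num at hp

theorem arith {m n : ℕ} (hd : m ∣ n - 1) (hc : m * n ∣ 360) (h3 : 3 ∣ m) (h60 : m * n ≤ 60)
    (h2 : 2 ≤ n) : m = 3 ∧ (n = 4 ∨ n = 10) := by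
  have hm0 : m ≠ 0 := by rintro rfl; simp at hc
  have hm3 : 3 ≤ m := Nat.le_of_dvd (by omega) h3
  have hle : m ≤ n - 1 := Nat.le_of_dvd (by omega) hd
  have hm7 : m ≤ 7 := by nlinarith [Nat.mul_le_mul (le_refl m) (show m + 1 ≤ n by omega)]
  have hn : n ≤ 20 := by nlinarith
  interval_cases m <;> first | omega | (interval_cases n <;> omega)

variable {Q : Type u} [Group Q] [Finite Q]

/-- A proper subgroup of a simple group of order 360 has index at least 6. -/
theorem six_le_index (hs : IsSimpleGroup Q) (h360 : Nat.card Q = 360) {H : Subgroup Q}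
    (hH : H ≠ ⊤) : 6 ≤ H.index := by
  haveI := hs
  by_contra! hlt
  have hker : (MulAction.toPermHom Q (Q ⧸ H)).ker = ⊥ := by
    refine (IsSimpleGroup.eq_bot_or_eq_top_of_normal _ inferInstance).resolve_right fun h => hH ?_
    refine eq_top_iff.mpr fun q _ => ?_
    have hq : q ∈ H.normalCore := by
      rw [Subgroup.normalCore_eq_ker, h]; exact mem_top q
    exact H.normalCore_le hq
  have hdvd := Subgroup.card_dvd_of_injective (MulAction.toPermHom Q (Q ⧸ H))
    ((MonoidHom.ker_eq_bot_iff _).mp hker)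
  rw [Nat.card_perm, h360] at hdvd
  change 360 ∣ (H.index).factorial at hdvd
  interval_cases h : H.index <;> simp [Nat.factorial] at hdvd

/-- If every nontrivial element of `L` has its `H`-transporter into `L` inside `L`, then
`|H : L| ≡ 1 (mod |L|)`. -/
theorem card_dvd_relIndex_sub_one {H L : Subgroup Q} (hLH : L ≤ H)
    (hTI : ∀ a ∈ L, a ≠ 1 → ∀ b ∈ H, b * a * b⁻¹ ∈ L → b ∈ L) :
    Nat.card ↥L ∣ L.relIndex H - 1 := by
  classical
  set L' := L.subgroupOf H with hL'
  let o : ↥H ⧸ L' := ((1 : ↥H) : ↥H ⧸ L')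
  have hfix : ∀ a : ↥L', (a : ↥H) • o = o := fun a => by
    change (((a : ↥H) * 1 : ↥H) : ↥H ⧸ L') = ((1 : ↥H) : ↥H ⧸ L')
    rw [mul_one, QuotientGroup.eq, mul_one]
    exact inv_mem a.2
  let X : SubMulAction ↥L' (↥H ⧸ L') :=
    { carrier := {x | x ≠ o}
      smul_mem' := fun a x hx h => hx (by
        have h1 := congrArg (fun y => (a : ↥H)⁻¹ • y) h
        change (a : ↥H)⁻¹ • ((a : ↥H) • x) = (a : ↥H)⁻¹ • o at h1
        rw [inv_smul_smul] at h1
        rw [h1]
        exact hfix a⁻¹) }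
  have hfree : ∀ x : ↥X, MulAction.stabilizer ↥L' x = ⊥ := by
    rintro ⟨x, hx⟩
    rw [eq_bot_iff]
    intro a ha
    rw [mem_bot]
    by_contra ha1
    have hax : (a : ↥H) • x = x := congrArg Subtype.val (MulAction.mem_stabilizer_iff.mp ha)
    induction x using QuotientGroup.induction_on with
    | _ b =>
      change (((a : ↥H) * b : ↥H) : ↥H ⧸ L') = (b : ↥H ⧸ L') at hax
      rw [QuotientGroup.eq, mem_subgroupOf] at hax
      have ha' : ((a : ↥H) : Q) ∈ L := a.2
      have h2 : (b : Q)⁻¹ * ((a : ↥H) : Q) * ((b : Q)⁻¹)⁻¹ ∈ L := by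
        simpa [mul_assoc] using inv_mem hax
      have hb : (b : Q)⁻¹ ∈ L :=
        hTI _ ha' (fun h => ha1 (Subtype.ext (Subtype.ext h))) _ (inv_mem b.2) h2
      apply hx
      change (b : ↥H ⧸ L') = ((1 : ↥H) : ↥H ⧸ L')
      rw [QuotientGroup.eq, mul_one, mem_subgroupOf]
      exact hb
  have hX : Nat.card ↥X = L.relIndex H - 1 := by
    change Nat.card ↥({x : ↥H ⧸ L' | x ≠ o} : Set _) = _
    rw [Nat.card_coe_set_eq, show {x : ↥H ⧸ L' | x ≠ o} = {o}ᶜ from rfl,
      Set.ncard_compl, Set.ncard_singleton]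
    rfl
  rw [← hX, Nat.card_congr (MulAction.selfEquivOrbitsQuotientProd hfree), Nat.card_prod,
    Nat.card_congr (subgroupOfEquivOfLe hLH).toEquiv]
  exact dvd_mul_left _ _

/-- A normal complement of `L` from transfer, when `L` is a self-normalising subgroup of order 3
of `H` and 9 does not divide `|H|`. -/
theorem exists_complement {H L : Subgroup Q} (hLH : L ≤ H) (hL : Nat.card ↥L = 3)
    (h9 : ¬ 3 ∣ L.relIndex H) (hN : ∀ b ∈ H, (∀ a ∈ L, b * a * b⁻¹ ∈ L) → b ∈ L) :
    ∃ R : Subgroup Q, R ≤ H ∧ Nat.card ↥R = L.relIndex H ∧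
      ∀ b ∈ H, ∀ r ∈ R, b * r * b⁻¹ ∈ R := by
  haveI : Fact (Nat.Prime 3) := ⟨Nat.prime_three⟩
  set L' := L.subgroupOf H with hL'
  have hcard : Nat.card ↥L' = 3 := by rw [hL', Nat.card_congr (subgroupOfEquivOfLe hLH).toEquiv, hL]
  have hp : IsPGroup 3 ↥L' := IsPGroup.of_card (n := 1) (by rw [hcard, pow_one])
  let P : Sylow 3 ↥H := hp.toSylow h9
  have hPL : (P : Subgroup ↥H) = L' := rfl
  haveI : IsCyclic ↥L' := isCyclic_of_prime_card hcard
  have hNC : normalizer ((P : Subgroup ↥H) : Set ↥H) ≤ centralizer ((P : Subgroup ↥H) : Set ↥H) := by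
    intro b hb
    rw [hPL] at hb ⊢
    have hbL : b ∈ L' := by
      rw [hL', mem_subgroupOf]
      refine hN _ b.2 fun a ha => ?_
      have h1 := (mem_normalizer_iff.mp hb ⟨a, hLH ha⟩).mp (by rw [hL']; exact ha)
      rw [hL', mem_subgroupOf] at h1
      exact h1
    refine mem_centralizer_iff.mpr fun c hc => ?_
    obtain ⟨g, hg⟩ := IsCyclic.exists_generator (α := ↥L')
    obtain ⟨i, hi⟩ := hg ⟨b, hbL⟩
    obtain ⟨j, hj⟩ := hg ⟨c, hc⟩
    have h := ((Commute.refl g).zpow_zpow j i).eq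
    simp only at hi hj
    rw [hi, hj] at h
    exact congrArg Subtype.val h
  haveI : FiniteIndex (P : Subgroup ↥H) := inferInstance
  have hcompl := MonoidHom.ker_transferSylow_isComplement' P hNC
  set T := (MonoidHom.transferSylow P hNC).ker with hT
  have h1 := hcompl.card_mul
  rw [hPL, hcard] at h1
  have h2 : Nat.card ↥L' * L'.index = Nat.card ↥H := L'.card_mul_index
  rw [hcard] at h2
  refine ⟨T.map H.subtype, map_subtype_le T, ?_, ?_⟩
  · rw [Subgroup.card_map_of_injective Subtype.val_injective, Subgroup.relIndex]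
    rw [← hL']
    omega
  · rintro b hb _ ⟨r, hr, rfl⟩
    have hn : T.Normal := MonoidHom.normal_ker _
    refine mem_map.mpr ⟨(⟨b, hb⟩ : ↥H) * r * (⟨b, hb⟩ : ↥H)⁻¹, ?_, ?_⟩
    · exact hn.conj_mem r hr (⟨b, hb⟩ : ↥H)
    · simp

/-- A nontrivial element of order 3 acting on a subgroup of order 5 centralises it. -/
theorem fixed_of_card_five {P : Subgroup Q} (hP : Nat.card ↥P = 5) {e : Q} (he : e ^ 3 = 1)
    (hN : ∀ r ∈ P, e * r * e⁻¹ ∈ P) : ∃ r ∈ P, r ≠ 1 ∧ e * r = r * e := by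
  by_contra! hcon
  haveI : Fact (Nat.Prime 3) := ⟨Nat.prime_three⟩
  have heN : e ∈ normalizer (P : Set Q) := by
    refine mem_normalizer_iff.mpr fun r => ⟨hN r, fun h => ?_⟩
    have h2 := hN _ (hN _ h)
    have he3 : e * e * e = 1 := by rw [← he, pow_succ, pow_two]
    have : e * (e * (e * r * e⁻¹) * e⁻¹) * e⁻¹ = (e * e * e) * r * (e * e * e)⁻¹ := by group
    rw [this, he3, one_mul, inv_one, mul_one] at h2
    exact h2
  have hZ : IsPGroup 3 ↥(zpowers (⟨e, heN⟩ : ↥(normalizer (P : Set Q)))) := by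
    refine fun y => ⟨1, ?_⟩
    obtain ⟨i, hi⟩ := mem_zpowers_iff.mp y.2
    refine Subtype.ext (Subtype.ext ?_)
    rw [pow_one]
    push_cast
    rw [← hi]
    push_cast
    rw [← zpow_natCast, ← zpow_mul, mul_comm, zpow_mul, zpow_natCast, he, one_zpow]
  letI : MulAction ↥(zpowers (⟨e, heN⟩ : ↥(normalizer (P : Set Q)))) ↥P :=
    { smul := fun z r => ⟨(z : Q) * r * (z : Q)⁻¹, (mem_normalizer_iff.mp z.1.2 _).mp r.2⟩
      one_smul := fun r => Subtype.ext (by change (1 : Q) * _ * (1 : Q)⁻¹ = _; simp)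
      mul_smul := fun z w r => Subtype.ext (by
        change ((z : Q) * (w : Q)) * _ * ((z : Q) * (w : Q))⁻¹ =
          (z : Q) * ((w : Q) * _ * (w : Q)⁻¹) * (z : Q)⁻¹
        group) }
  have hfix : MulAction.fixedPoints ↥(zpowers (⟨e, heN⟩ : ↥(normalizer (P : Set Q)))) ↥P =
      ({1} : Set ↥P) := by
    ext r
    constructor
    · intro hr
      refine Subtype.ext ?_
      by_contra h1
      have h2 : e * (r : Q) * e⁻¹ = r := congrArg Subtype.val (hr ⟨_, mem_zpowers _⟩)
      exact hcon r r.2 h1 (mul_inv_eq_iff_eq_mul.mp h2)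
    · rintro rfl z
      refine Subtype.ext ?_
      change (z : Q) * ((1 : ↥P) : Q) * (z : Q)⁻¹ = _
      simp
  have h := hZ.card_modEq_card_fixedPoints ↥P
  rw [hfix, hP, Nat.card_coe_set_eq, Set.ncard_singleton] at h
  exact absurd h (by decide)

/-- In a simple group of order 360 a proper subgroup `H` with a Frobenius complement `L` of order
divisible by 3 has a normal four-subgroup without fixed 3-elements, normalised outside `H`. -/
theorem four_subgroup (hs : IsSimpleGroup Q) (h360 : Nat.card Q = 360) {H L : Subgroup Q}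
    (hH : H ≠ ⊤) (hLH : L < H) (hTI : ∀ a ∈ L, a ≠ 1 → ∀ b ∈ H, b * a * b⁻¹ ∈ L → b ∈ L)
    {e : Q} (heL : e ∈ L) (he : e ^ 3 = 1) (he1 : e ≠ 1) :
    ∃ (R : Subgroup Q) (u : Q), R ≤ H ∧ R ≠ ⊥ ∧ u ∉ H ∧ u ∈ normalizer (R : Set Q) ∧
      ∀ y ∈ H, y ^ 3 = 1 → (∀ r ∈ R, r * y = y * r) → y = 1 := by
  haveI : Fact (Nat.Prime 3) := ⟨Nat.prime_three⟩
  haveI : Fact (Nat.Prime 2) := ⟨Nat.prime_two⟩
  have hord : orderOf e = 3 := orderOf_eq_prime he he1
  have h3m : 3 ∣ Nat.card ↥L := by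
    have := Subgroup.orderOf_dvd_natCard L heL
    rwa [hord] at this
  have hm0 : 0 < Nat.card ↥L := Nat.card_pos
  have hmn : Nat.card ↥L * L.relIndex H = Nat.card ↥H := by
    rw [← Nat.card_congr (subgroupOfEquivOfLe hLH.le).toEquiv]
    exact (L.subgroupOf H).card_mul_index
  have hidx := six_le_index hs h360 hH
  have hHd := H.card_mul_index
  rw [h360] at hHd
  have h60 : Nat.card ↥H ≤ 60 := by nlinarith
  have hn2 : 2 ≤ L.relIndex H := by
    by_contra! hlt
    have h0 : L.relIndex H ≠ 0 := fun h => by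
      rw [h, mul_zero] at hmn; exact Nat.card_pos.ne' hmn.symm
    exact hLH.not_ge (relIndex_eq_one.mp (by omega))
  have hdvd := card_dvd_relIndex_sub_one hLH.le hTI
  have hH360 : Nat.card ↥H ∣ 360 := ⟨_, hHd.symm⟩
  have key : Nat.card ↥L = 3 ∧ (L.relIndex H = 4 ∨ L.relIndex H = 10) :=
    arith hdvd (hmn.symm ▸ hH360) h3m (hmn.symm ▸ h60) hn2
  obtain ⟨hL3, hn⟩ := key
  obtain ⟨R, hRH, hRcard, hRn⟩ := exists_complement hLH.le hL3 (by omega)
    (fun b hb h => hTI e heL he1 b hb (h e heL))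
  rcases hn with hn | hn <;> rw [hn] at hRcard hmn
  · refine ⟨R, ?_⟩
    obtain ⟨P, hRP⟩ := (IsPGroup.of_card (n := 2) (by rw [hRcard]; rfl) :
      IsPGroup 2 ↥R).exists_le_sylow
    have hP8 : Nat.card ↥(P : Subgroup Q) = 8 := by
      rw [P.card_eq_multiplicity, h360, show (360 : ℕ) = 2 ^ 3 * 45 by norm_num,
        Nat.factorization_mul (by norm_num) (by norm_num), Finsupp.add_apply,
        Nat.Prime.factorization_pow Nat.prime_two, Finsupp.single_eq_same,
        Nat.factorization_eq_zero_of_not_dvd (by norm_num)]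
      norm_num
    have hnotle : ¬ (P : Subgroup Q) ≤ H := fun h => by
      have := Subgroup.card_dvd_of_le h
      rw [hP8, ← hmn, hL3] at this
      omega
    obtain ⟨u, huP, huH⟩ := SetLike.not_le_iff_exists.mp hnotle
    have hidx2 : (R.subgroupOf (P : Subgroup Q)).index = 2 := by
      have := (R.subgroupOf (P : Subgroup Q)).card_mul_index
      rw [Nat.card_congr (subgroupOfEquivOfLe hRP).toEquiv, hRcard, hP8] at this
      omega
    haveI := Subgroup.normal_of_index_eq_two hidx2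
    refine ⟨u, hRH, fun h => by rw [h, Subgroup.card_bot] at hRcard; omega, huH, ?_, ?_⟩
    · refine mem_normalizer_iff.mpr fun r => ⟨fun hr => ?_, fun hr => ?_⟩
      · exact (mem_subgroupOf.mp ((‹(R.subgroupOf (P : Subgroup Q)).Normal›).conj_mem ⟨r, hRP hr⟩
          (mem_subgroupOf.mpr hr) ⟨u, huP⟩) :)
      · have h := (mem_subgroupOf.mp ((‹(R.subgroupOf (P : Subgroup Q)).Normal›).conj_mem
          ⟨_, hRP hr⟩ (mem_subgroupOf.mpr hr) ⟨u, huP⟩⁻¹) :)
        simpa [mul_assoc] using h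
    · intro y hy hy3 hcomm
      by_contra hy1
      have hyo : orderOf y = 3 := orderOf_eq_prime hy3 hy1
      set L' := L.subgroupOf H with hL'
      have hL'card : Nat.card ↥L' = 3 := by
        rw [hL', Nat.card_congr (subgroupOfEquivOfLe hLH.le).toEquiv, hL3]
      have hidx3 : ¬ 3 ∣ L'.index := by
        change ¬ 3 ∣ L.relIndex H
        omega
      let S : Sylow 3 ↥H := (IsPGroup.of_card (n := 1) (by rw [hL'card, pow_one]) :
        IsPGroup 3 ↥L').toSylow hidx3
      obtain ⟨S', hS'⟩ := (IsPGroup.of_card (n := 1) (by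
        rw [Nat.card_zpowers, Subgroup.orderOf_mk, hyo, pow_one]) :
        IsPGroup 3 ↥(zpowers (⟨y, hy⟩ : ↥H))).exists_le_sylow
      obtain ⟨g, hg⟩ := MulAction.exists_smul_eq ↥H S S'
      have hyS : (⟨y, hy⟩ : ↥H) ∈ ((g • S : Sylow 3 ↥H) : Subgroup ↥H) := by
        rw [hg]; exact hS' (mem_zpowers _)
      rw [Sylow.coe_subgroup_smul, Subgroup.mem_pointwise_smul_iff_inv_smul_mem] at hyS
      have hy' : (g : Q)⁻¹ * y * (g : Q) ∈ L := by
        simpa [S, L', mem_subgroupOf] using hyS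
      have hy'1 : (g : Q)⁻¹ * y * (g : Q) ≠ 1 := fun h => hy1 (by
        have : y = (g : Q) * ((g : Q)⁻¹ * y * (g : Q)) * (g : Q)⁻¹ := by group
        rw [this, h, mul_one, mul_inv_cancel])
      have hRL : R ≤ L := by
        intro r hr
        refine hTI _ hy' hy'1 r (hRH hr) ?_
        have h1 := hRn _ g.2 _ hr
        have h2 := hcomm _ h1
        have : r * ((g : Q)⁻¹ * y * (g : Q)) * r⁻¹ = (g : Q)⁻¹ * y * (g : Q) := by
          have h3 : r * ((g : Q)⁻¹ * y * (g : Q)) =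
              (g : Q)⁻¹ * (((g : Q) * r * (g : Q)⁻¹) * y) * (g : Q) := by group
          rw [h3, h2]
          group
        rw [this]
        exact hy'
      have := Subgroup.card_dvd_of_le hRL
      rw [hRcard, hL3] at this
      omega
  · exfalso
    haveI : Fact (Nat.Prime 5) := ⟨by norm_num⟩
    obtain ⟨P0⟩ : Nonempty (Sylow 5 ↥R) := inferInstance
    have hP0 : Nat.card ↥(P0 : Subgroup ↥R) = 5 := by
      rw [P0.card_eq_multiplicity, hRcard, show (10 : ℕ) = 5 ^ 1 * 2 by norm_num,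
        Nat.factorization_mul (by norm_num) (by norm_num), Finsupp.add_apply,
        Nat.Prime.factorization_pow (by norm_num : Nat.Prime 5), Finsupp.single_eq_same,
        Nat.factorization_eq_zero_of_not_dvd (by norm_num)]
      norm_num
    have hidx2 : (P0 : Subgroup ↥R).index = 2 := by
      have := (P0 : Subgroup ↥R).card_mul_index
      rw [hP0, hRcard] at this
      omega
    haveI := Subgroup.normal_of_index_eq_two hidx2
    have hinv : ∀ r ∈ (P0 : Subgroup ↥R).map R.subtype,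
        e * r * e⁻¹ ∈ (P0 : Subgroup ↥R).map R.subtype := by
      rintro _ ⟨r, hr, rfl⟩
      let s : ↥R := ⟨e * r * e⁻¹, hRn e (hLH.le heL) r r.2⟩
      refine ⟨s, ?_, rfl⟩
      have hso : orderOf s = orderOf r := by
        rw [← Subgroup.orderOf_coe s, ← Subgroup.orderOf_coe r]
        exact SemiconjBy.orderOf_eq _ (show SemiconjBy e (r : Q) (e * r * e⁻¹) from by
          simp [SemiconjBy, mul_assoc]) |>.symm
      have hs5 : IsPGroup 5 ↥(zpowers s) := by
        have hd := Subgroup.orderOf_dvd_natCard (P0 : Subgroup ↥R) hr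
        rw [hP0, ← hso] at hd
        rcases (Nat.dvd_prime (by norm_num : Nat.Prime 5)).mp hd with h | h
        · exact IsPGroup.of_card (n := 0) (by rw [Nat.card_zpowers, h, pow_zero])
        · exact IsPGroup.of_card (n := 1) (by rw [Nat.card_zpowers, h, pow_one])
      obtain ⟨P1, hP1⟩ := hs5.exists_le_sylow
      haveI := Sylow.unique_of_normal P0 inferInstance
      rw [Subsingleton.elim P0 P1]
      exact hP1 (mem_zpowers s)
    obtain ⟨r, hr, hr1, hre⟩ := fixed_of_card_five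
      (by rw [Subgroup.card_map_of_injective Subtype.val_injective, hP0]) he hinv
    have hrR : r ∈ R := map_subtype_le _ hr
    have hrL : r ∈ L := hTI e heL he1 r (hRH hrR) (by rw [← hre, mul_inv_cancel_right]; exact heL)
    have h1 := Subgroup.orderOf_dvd_natCard L hrL
    have h2 := Subgroup.orderOf_dvd_natCard _ hr
    rw [hL3] at h1
    rw [Subgroup.card_map_of_injective Subtype.val_injective, hP0] at h2
    have h35 : orderOf r ∣ 1 := by
      have := Nat.dvd_gcd h1 h2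
      simpa using this
    exact hr1 (orderOf_eq_one_iff.mp (Nat.dvd_one.mp h35))

end Finite360


set_option maxHeartbeats 1000000 in
open Subgroup in
/-- The endgame of `Outer.lean`: `|K/Z(K)| = 360` is impossible. -/
theorem endgame360.{v} {G : Type v} [Group G] [Finite G] (K : Subgroup G) [K.Normal]
    (hs : IsSimpleGroup (↥K ⧸ center ↥K)) (h360 : Nat.card (↥K ⧸ center ↥K) = 360)
    (x : G) (p : ℕ) (hp : p.Prime) (hp2 : p ≠ 2) (hxp : x ^ p ∈ center G)
    (hZG : ∀ z ∈ center ↥K, (z : G) ∈ center G) (B A : Subgroup ↥K) (hBtop : B ≠ ⊤)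
    (hBmem : ∀ k : ↥K, k ∈ B ↔ (k : G) * x = x * k)
    (hD : ∀ k : ↥K, (k : G) * x * (k : G)⁻¹ * x⁻¹ ∈ center G → k ∈ B)
    (hCA : ∀ c : ↥K, c ∈ B → c ∉ center ↥K →
      IsMulCommutative (centralizer ({(c : G)} : Set G)))
    (hAB : A < B) (hAcomm : ∀ a ∈ A, ∀ b ∈ A, a * b = b * a) (hAZ : center ↥K ≤ A)
    (hAself : ∀ a ∈ A, a ∉ center ↥K → ∀ k ∈ B, k * a = a * k → k ∈ A)
    (hAnorm : ∀ b ∈ B, b ∈ normalizer (A : Set ↥K) → b ∈ A)
    (e : ↥K) (heA : e ∈ A) (heZ : e ∉ center ↥K) (hep : e ^ p = 1)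
    (hk : p ∣ A.relIndex (normalizer (A : Set ↥K))) : False := by
  set π := QuotientGroup.mk' (center ↥K) with hπ
  haveI := Fact.mk hp
  have hπsurj : Function.Surjective π := QuotientGroup.mk'_surjective _
  have hker : π.ker = center ↥K := QuotientGroup.ker_mk' _
  have hcomA : (A.map π).comap π = A := comap_map_eq_self (by rw [hker]; exact hAZ)
  have hcomB : (B.map π).comap π = B := comap_map_eq_self (by rw [hker]; exact hAZ.trans hAB.le)
  have hπe : π e ≠ 1 := fun h => heZ (hker ▸ MonoidHom.mem_ker.mpr h)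
  -- `p = 3`
  have hA' : p ∣ Nat.card ↥(A.map π) := by
    have h1 : orderOf (π e) = p := orderOf_eq_prime (by rw [← map_pow, hep, map_one]) hπe
    rw [← h1]
    exact Subgroup.orderOf_dvd_natCard _ (mem_map_of_mem π heA)
  have hNA : Nat.card ↥(A.map π) * A.relIndex (normalizer (A : Set ↥K)) ∣ 360 := by
    set N := normalizer (A : Set ↥K)
    have hle : A ≤ N := le_normalizer
    have hcomN : (N.map π).comap π = N := comap_map_eq_self (by rw [hker]; exact hAZ.trans hle)
    have h1 : A.relIndex N = (A.map π).relIndex (N.map π) := by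
      conv_lhs => rw [← hcomA]
      rw [relIndex_comap]
    rw [h1]
    have h2 := ((A.map π).subgroupOf (N.map π)).card_mul_index
    rw [Nat.card_congr (subgroupOfEquivOfLe (map_mono hle)).toEquiv] at h2
    rw [← h360]
    exact h2 ▸ card_subgroup_dvd_card (N.map π)
  have hp3 : p = 3 := by
    have h2 : p * p ∣ 360 := (mul_dvd_mul hA' hk).trans hNA
    exact arith_p hp hp2 h2
  subst hp3
  -- transporter condition modulo the centre
  have hTI : ∀ a ∈ A.map π, a ≠ 1 → ∀ b ∈ B.map π, b * a * b⁻¹ ∈ A.map π → b ∈ A.map π := by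
    rintro _ ⟨a, ha, rfl⟩ ha1 _ ⟨b, hb, rfl⟩ hba
    have haZ : a ∉ center ↥K := fun h => ha1 (MonoidHom.mem_ker.mp (hker.symm ▸ h))
    have hbaA : b * a * b⁻¹ ∈ A := by
      rw [← hcomA, mem_comap, map_mul, map_mul, map_inv]; exact hba
    have hmaps : ∀ a' ∈ A, b⁻¹ * a' * b ∈ A := by
      intro a' ha'
      refine hAself a ha haZ _ (mul_mem (mul_mem (inv_mem hb) (hAB.le ha')) hb) ?_
      have h := hAcomm a' ha' _ hbaA
      calc b⁻¹ * a' * b * a = b⁻¹ * (a' * (b * a * b⁻¹)) * b := by group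
        _ = b⁻¹ * ((b * a * b⁻¹) * a') * b := by rw [h]
        _ = a * (b⁻¹ * a' * b) := by group
    have hbN : b⁻¹ ∈ normalizer (A : Set ↥K) := by
      have he' : A.map (MulAut.conj b⁻¹).toMonoidHom = A :=
        eq_of_le_of_card_ge (by
          rintro _ ⟨v, hv, rfl⟩
          change b⁻¹ * v * b⁻¹⁻¹ ∈ A
          rw [inv_inv]
          exact hmaps v hv) (card_map_of_injective (MulAut.conj b⁻¹).injective).ge
      refine mem_normalizer_iff.mpr fun v => ⟨fun hv => ?_, fun hv => ?_⟩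
      · rw [inv_inv]
        exact hmaps v hv
      have hv2 : (MulAut.conj b⁻¹) v ∈ A.map (MulAut.conj b⁻¹).toMonoidHom := by
        rw [he']; exact hv
      obtain ⟨w, hw, hwv⟩ := hv2
      rw [← (MulAut.conj b⁻¹).injective hwv]
      exact hw
    exact mem_map_of_mem π (inv_mem_iff.mp (hAnorm _ (inv_mem hb) hbN))
  have hHtop : B.map π ≠ ⊤ := fun h => hBtop (by rw [← hcomB, h, comap_top])
  have hLH : A.map π < B.map π := lt_of_le_of_ne (map_mono hAB.le)
    fun h => hAB.ne (by rw [← hcomA, h, hcomB])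
  obtain ⟨R, u, hRH, hRne, huH, huN, hfree⟩ := four_subgroup hs h360 hHtop hLH hTI
    (mem_map_of_mem π heA) (by rw [← map_pow, hep, map_one]) hπe
  obtain ⟨v, rfl⟩ := hπsurj u
  have hvB : v ∉ B := fun h => huH (mem_map_of_mem π h)
  set R0 := R.comap π with hR0
  have hR0B : R0 ≤ B := by rw [← hcomB]; exact comap_mono hRH
  -- `f = [x, v]` centralises the preimage of `R`
  let f : ↥K := ⟨x⁻¹ * ((v : G)⁻¹ * x * (v : G)), by
    have h : x⁻¹ * ((v : G)⁻¹ * x * (v : G)) = x⁻¹ * (v : G)⁻¹ * x⁻¹⁻¹ * (v : G) := by group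
    rw [h]
    exact mul_mem (Subgroup.Normal.conj_mem ‹K.Normal› _ (inv_mem v.2) x⁻¹) v.2⟩
  have hf : (f : G) = x⁻¹ * ((v : G)⁻¹ * x * (v : G)) := rfl
  have hxf : x * (f : G) = (v : G)⁻¹ * x * (v : G) := by rw [hf, mul_inv_cancel_left]
  have hcr : ∀ r ∈ R0, (r : G) * x = x * r ∧ (r : G) * f = f * r := by
    intro r hr
    have hrx := (hBmem r).mp (hR0B hr)
    have hr' : v * r * v⁻¹ ∈ R0 := by
      rw [hR0, mem_comap, map_mul, map_mul, map_inv]
      exact (mem_normalizer_iff.mp huN _).mp hr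
    have hrx' := (hBmem _).mp (hR0B hr')
    simp only [Subgroup.coe_mul, InvMemClass.coe_inv] at hrx'
    refine ⟨hrx, ?_⟩
    have h2 : (r : G) * ((v : G)⁻¹ * x * (v : G)) = (v : G)⁻¹ * x * (v : G) * r := by
      calc (r : G) * ((v : G)⁻¹ * x * (v : G))
          = (v : G)⁻¹ * (((v : G) * r * (v : G)⁻¹) * x) * (v : G) := by group
        _ = (v : G)⁻¹ * (x * ((v : G) * r * (v : G)⁻¹)) * (v : G) := by rw [hrx']
        _ = (v : G)⁻¹ * x * (v : G) * r := by group
    have h3 : (r : G) * x⁻¹ = x⁻¹ * r := (Commute.inv_right hrx).eq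
    rw [hf, ← mul_assoc, h3, mul_assoc, h2]
    group
  obtain ⟨c, hcR, hc1⟩ : ∃ c ∈ R, c ≠ 1 := by
    by_contra! h
    exact hRne (eq_bot_iff.mpr fun c hc => h c hc)
  obtain ⟨c, rfl⟩ := hπsurj c
  have hcZ : c ∉ center ↥K := fun h => hc1 (MonoidHom.mem_ker.mp (hker.symm ▸ h))
  haveI := hCA c (hR0B hcR) hcZ
  have hxfc : x * (f : G) = f * x := by
    have h1 : x ∈ centralizer ({(c : G)} : Set G) :=
      mem_centralizer_singleton_iff.mpr (hcr c hcR).1.symm
    have h2 : (f : G) ∈ centralizer ({(c : G)} : Set G) :=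
      mem_centralizer_singleton_iff.mpr (hcr c hcR).2.symm
    exact congrArg Subtype.val (mul_comm' (⟨x, h1⟩ : ↥(centralizer ({(c : G)} : Set G))) ⟨f, h2⟩)
  have hfB : f ∈ B := (hBmem f).mpr hxfc.symm
  have hf3 : f ^ 3 = 1 := by
    apply Subtype.ext
    push_cast
    have h1 : (x * (f : G)) ^ 3 = x ^ 3 * (f : G) ^ 3 := (show Commute x (f : G) from hxfc).mul_pow 3
    have h2 : ((v : G)⁻¹ * x * (v : G)) ^ 3 = x ^ 3 := by
      have h4 : ((v : G)⁻¹ * x * (v : G)) ^ 3 = (v : G)⁻¹ * x ^ 3 * (v : G) := by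
        simp only [pow_succ, pow_zero, one_mul]; group
      rw [h4, mul_assoc, ← mem_center_iff.mp hxp (v : G), inv_mul_cancel_left]
    rw [hxf, h2] at h1
    exact mul_left_cancel (h1.symm.trans (mul_one _).symm)
  have hπf : π f = 1 := by
    refine hfree _ (mem_map_of_mem π hfB) (by rw [← map_pow, hf3, map_one]) ?_
    intro r hr
    obtain ⟨r, rfl⟩ := hπsurj r
    rw [← map_mul, ← map_mul]
    exact congrArg π (Subtype.ext (hcr r hr).2)
  have hfZ : (f : G) ∈ center G := hZG f (hker ▸ MonoidHom.mem_ker.mpr hπf)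
  refine hvB (inv_mem_iff.mp (hD v⁻¹ ?_))
  have h5 : ((v⁻¹ : ↥K) : G) * x * ((v⁻¹ : ↥K) : G)⁻¹ * x⁻¹ = x * (f : G) * x⁻¹ := by
    rw [hxf]; simp
  rw [h5, mem_center_iff.mp hfZ x, mul_inv_cancel_right]
  exact hfZ

end Aux5

end Cfsg.Agent.MinNonCA27
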