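import Cfsg.Agent.MinNonCA27.OuterBase96
import Cfsg.Agent.MinNonCA27.OuterAux34
import Cfsg.Agent.MinNonCA27.OuterAux5

/-!
# S4369: the case of a proper perfect residual
-/

set_option autoImplicit false
set_option linter.style.haveILetI false

namespace Cfsg.Agent.MinNonCA27

open Subgroup

universe u

namespace Outer96

variable {G : Type u} [Group G] [Finite G] {K : Subgroup G}

/-- Steps 0-3 give the setup of steps 4-5. -/
theorem Ctx.setup (h : Ctx K) {p : ℕ} (hp : p.Prime) (y : G) (hy : y ∉ center G)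
    (hyp : y ^ p ∈ center G) (hyK : ∀ k ∈ K, y * k ∉ center G)
    (hcomm : ∃ a ∈ K, ∃ b ∈ K, a * y = y * a ∧ b * y = y * b ∧ a * b ≠ b * a) :
    Aux34.Setup K p y := by
  have hM : IsCoatom (centralizer ({y} : Set G)) := by
    obtain ⟨a, -, b, -, ha, hb, hab⟩ := hcomm
    exact isCoatom_centralizer h.pca hy ⟨a, b, ha, hb, hab⟩
  refine ⟨h.normal, hp, hyp, hy, hyK, hcomm, fun k hk hz => h.rigid hy hM k hk ?_, h.kerCA,
    h.meet hy hcomm⟩
  have := (Subgroup.instNormalCenter (G := G)).conj_mem _ hz y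
  simpa [mul_assoc] using this

/-- Steps 1-2: a bad element of prime order modulo the centre gives a setup. -/
theorem Ctx.setup_of_bad (h : Ctx K) {p : ℕ} (hp : p.Prime) {y : G} (hy : y ∉ center G)
    (hyp : y ^ p ∈ center G) (hC : ∃ a b : G, a * y = y * a ∧ b * y = y * b ∧ a * b ≠ b * a) :
    Aux34.Setup K p y := by
  have hM := isCoatom_centralizer h.pca hy hC
  refine h.setup hp y hy hyp (fun k hk hz => ?_) (h.nonabelian hy hM hp hyp)
  have hkZ : k ∉ center G := fun hkz => hy (by simpa using mul_mem hz (inv_mem hkz))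
  obtain ⟨a, b, ha, hb, hab⟩ := hC
  have key : ∀ c : G, c * y = y * c → c * k = k * c := fun c hc => by
    have h1 := mem_center_iff.1 hz c
    calc c * k = y⁻¹ * (y * c) * k := by group
      _ = y⁻¹ * (c * (y * k)) := by rw [← hc]; group
      _ = y⁻¹ * ((y * k) * c) := by rw [h1]
      _ = k * c := by group
  exact hab (h.comm_of hk hkZ (key a ha) (key b hb))

end Outer96

open Outer96 in
theorem outer : OuterStmt.{u} := by
  intro G _ _ hP hR hNC K hKn hKtop hKns hKs hKperf hp360 hp2 x hx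
  classical
  by_contra hna
  have h : Ctx K := ⟨hP, hR, hNC, hKn, hKtop, hKns, hKs, hKperf⟩
  obtain ⟨y, p, hp, hy, hyp, hcent⟩ := exists_prime_bad hx
  have hC : ∃ a b : G, a * y = y * a ∧ b * y = y * b ∧ a * b ≠ b * a := by
    by_contra! hall
    exact hna ⟨⟨fun a b => Subtype.ext (hall a b (hcent a (mem_centralizer_singleton_iff.1 a.2))
      (hcent b (mem_centralizer_singleton_iff.1 b.2)))⟩⟩
  have hs := h.setup_of_bad hp hy hyp hC
  obtain ⟨e, n, hc⟩ := Aux34.critical hP hR (fun z hz hzp hzK hzc => h.setup hp z hz hzp hzK hzc) hs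
  haveI := Fact.mk hp
  haveI := h.normal
  -- `p` divides the order of the centre of `K`
  set z := n * e * n⁻¹ * e⁻¹ with hzdef
  have hzK : z ∈ K := mul_mem (mul_mem (mul_mem hc.n_mem hc.e_mem) (inv_mem hc.n_mem)) (inv_mem hc.e_mem)
  have hep : e ^ p = 1 := hc.e_pow ▸ pow_orderOf_eq_one e
  have hzp : z ^ p = 1 := by
    have hze : z * e = n * e * n⁻¹ := by rw [hzdef]; group
    have h1 : (z * e) ^ p = z ^ p * e ^ p :=
      (show Commute z e from (mem_center_iff.1 hc.z_mem e).symm).mul_pow p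
    rw [hze, conj_pow, hep, mul_one, mul_one, mul_inv_cancel] at h1
    exact h1.symm
  have hdvd : p ∣ Nat.card (center K) := by
    have hzc : (⟨z, hzK⟩ : K) ∈ center K := (h.center_iff _).2 hc.z_mem
    have ho : orderOf (⟨⟨z, hzK⟩, hzc⟩ : center K) = p := orderOf_eq_prime
      (Subtype.ext (Subtype.ext hzp))
      (fun h1 => hc.z_ne (congrArg (fun w : center K => ((w : K) : G)) h1))
    exact ho ▸ orderOf_dvd_natCard _
  rcases eq_or_ne p 2 with rfl | hp_odd
  · have ho : orderOf (⟨e, hc.e_mem⟩ : K) = 2 := by rw [Subgroup.orderOf_mk]; exact hc.e_pow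
    exact hc.e_not ((h.center_iff _).1 (hp2 hdvd _ ho))
  -- the endgame
  set B : Subgroup K := (centralizer ({y} : Set G)).subgroupOf K with hB
  set A : Subgroup K := (centralizer ({e} : Set G)).subgroupOf K with hA
  have memB : ∀ k : K, k ∈ B ↔ (k : G) * y = y * k := fun k => mem_centralizer_singleton_iff
  have memA : ∀ k : K, k ∈ A ↔ (k : G) * e = e * k := fun k => mem_centralizer_singleton_iff
  have hAle : A ≤ B := fun k hk => (memB k).2
    (h.comm_of hc.e_mem hc.e_not ((memA k).1 hk) hc.e_comm.symm)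
  have hAlt : A < B := by
    refine lt_of_le_not_ge hAle fun hge => ?_
    obtain ⟨a, ha, b, hb, hay, hby, hab⟩ := hs.comm
    exact hab (h.comm_of hc.e_mem hc.e_not ((memA ⟨a, ha⟩).1 (hge ((memB _).2 hay)))
      ((memA ⟨b, hb⟩).1 (hge ((memB _).2 hby))))
  refine Aux5.endgame360 K hKs (hp360 p hp hp_odd hdvd) y p hp hp_odd hyp
    (fun w hw => (h.center_iff w).1 hw) B A (h.B_ne_top hy) memB
    (fun k hk => (memB k).2 (h.rigid hy (isCoatom_centralizer hP hy hC) k k.2 hk))
    (fun c _ hcz => h.kerCA c c.2 fun hz => hcz ((h.center_iff c).2 hz))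
    hAlt (fun a ha b hb => Subtype.ext (h.comm_of hc.e_mem hc.e_not ((memA a).1 ha) ((memA b).1 hb)))
    (fun w hw => (memA w).2 (mem_center_iff.1 ((h.center_iff w).1 hw) e).symm)
    (fun a ha haz k _ hka => (memA k).2 (h.comm_of a.2 (fun hz => haz ((h.center_iff a).2 hz))
      (congrArg Subtype.val hka) ((memA a).1 ha).symm))
    ?_ ⟨e, hc.e_mem⟩ ((memA _).2 rfl) (fun hz => hc.e_not ((h.center_iff _).1 hz))
    (Subtype.ext hep) ?_
  · intro b hb hbN
    refine (memA b).2 (hc.selfNorm b b.2 ((memB b).1 hb) fun a ha hae => ?_)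
    exact (memA (b * ⟨a, ha⟩ * b⁻¹)).1 ((mem_normalizer_iff.1 hbN ⟨a, ha⟩).1 ((memA _).2 hae))
  · have hnN : (⟨n, hc.n_mem⟩ : K) ∈ normalizer (A : Set K) := mem_normalizer_iff.2 fun a => by
      rw [memA, memA]
      exact hc.n_norm a a.2
    have hnA : (⟨n, hc.n_mem⟩ : K) ∉ A := fun hn => hc.n_not ((memB _).1 (hAle hn))
    set N := normalizer (A : Set K)
    haveI : (A.subgroupOf N).Normal := Subgroup.normal_in_normalizer
    set q : N ⧸ A.subgroupOf N := QuotientGroup.mk ⟨_, hnN⟩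
    have hq1 : q ≠ 1 := fun h1 => hnA (Subgroup.mem_subgroupOf.1 ((QuotientGroup.eq_one_iff _).1 h1))
    obtain ⟨j, hj⟩ := hc.n_pgroup
    have hqd : orderOf q ∣ p ^ j := by
      refine (orderOf_map_dvd (QuotientGroup.mk' (A.subgroupOf N)) ⟨_, hnN⟩).trans ?_
      rw [Subgroup.orderOf_mk, Subgroup.orderOf_mk, hj]
    obtain ⟨i, -, hi⟩ := (Nat.dvd_prime_pow hp).1 hqd
    have hi0 : i ≠ 0 := by
      rintro rfl
      exact hq1 (orderOf_eq_one_iff.1 (by rw [hi, pow_zero]))
    exact (dvd_pow_self p hi0).trans (hi ▸ orderOf_dvd_natCard q)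

end Cfsg.Agent.MinNonCA27
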