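import Cfsg.Agent.MinNonCA27.Defs
import Cfsg.Agent.Lib.Frobenius.Nilpotent
import Cfsg.Agent.Lib.Frobenius.Kernel

/-!
# S4369, outer case: steps 0-3
-/

set_option autoImplicit false
set_option linter.style.haveILetI false

namespace Cfsg.Agent.MinNonCA27.Outer96

open Subgroup
open scoped commutatorElement

universe u

variable {G : Type u} [Group G]

/-- The standing hypotheses on the proper perfect normal subgroup. -/
structure Ctx (K : Subgroup G) : Prop where
  pca : ProperCA G
  rad : RadCentral G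
  noc : NoCentralised G
  normal : K.Normal
  ne_top : K ≠ ⊤
  nonsolv : ¬ Group.IsSolvable K
  simple : IsSimpleGroup (K ⧸ center K)
  perfect : commutator K = ⊤

variable {K : Subgroup G}

theorem Ctx.center_iff (h : Ctx K) (k : K) : k ∈ center K ↔ (k : G) ∈ center G := by
  constructor
  · intro hk
    haveI := h.normal
    haveI : Group.IsSolvable (center K) := Group.isSolvable_of_comm fun a b => Subtype.ext (mem_center_iff.1 b.2 a)
    exact h.rad ((center K).map K.subtype) inferInstance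
      ((center K).equivMapOfInjective K.subtype K.subtype_injective |>.surjective
        |> Group.isSolvable_of_surjective (f := ((center K).equivMapOfInjective K.subtype
          K.subtype_injective).toMonoidHom)) (mem_map_of_mem K.subtype hk)
  · exact fun hk => mem_center_iff.2 fun y => Subtype.ext (mem_center_iff.1 hk y)

theorem Ctx.noFrobenius [Finite G] (h : Ctx K) (B : Subgroup K) (hZB : center K ≤ B) (htop : B ≠ ⊤)
    (hne : ∃ c ∈ B, c ∉ center K)
    (hTI : ∀ g : K, g ∉ B → ∀ c ∈ B, g⁻¹ * c * g ∈ B → c ∈ center K) : False := by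
  haveI := h.simple
  set π := QuotientGroup.mk' (center K)
  have hcomap : (B.map π).comap π = B := by
    rw [comap_map_eq, QuotientGroup.ker_mk', sup_eq_left.2 hZB]
  have hF : Cfsg.IsFrobeniusComplement (B.map π) := by
    refine ⟨?_, ?_, ?_⟩
    · intro hb
      obtain ⟨c, hc, hcZ⟩ := hne
      exact hcZ ((QuotientGroup.eq_one_iff c).1 ((Subgroup.mem_bot).1 (hb ▸ mem_map_of_mem π hc)))
    · intro ht
      rw [ht, comap_top] at hcomap
      exact htop hcomap.symm
    · intro q hq
      obtain ⟨g, rfl⟩ := QuotientGroup.mk'_surjective (center K) q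
      rw [Subgroup.eq_bot_iff_forall]
      rintro r ⟨hr, hr'⟩
      obtain ⟨c, hc, rfl⟩ := mem_map.1 hr
      have hr'' : (π g)⁻¹ * π c * π g ∈ B.map π := by
        have := Subgroup.mem_pointwise_smul_iff_inv_smul_mem.1 hr'
        simpa [π, MulAut.smul_def, mul_assoc] using this
      have hg : g ∉ B := fun hg => hq (mem_map_of_mem π hg)
      have hcm : g⁻¹ * c * g ∈ B := by
        rw [← hcomap]
        simpa [mul_assoc] using hr''
      exact (QuotientGroup.eq_one_iff c).2 (hTI g hg c hc hcm)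
  obtain ⟨N, -, hN, hcompl⟩ := Frobenius.exists_frobeniusKernel_subgroup hF
  rcases IsSimpleGroup.eq_bot_or_eq_top_of_normal N hN with rfl | rfl
  · exact hF.2.1 (isComplement'_bot_left.1 hcompl)
  · exact hF.1 (isComplement'_top_left.1 hcompl)

/-- A normal subgroup of `G` inside `K` is central or equal to `K`. -/
theorem Ctx.normal_le (h : Ctx K) {N : Subgroup G} (hN : N.Normal) (hNK : N ≤ K) :
    N ≤ center G ∨ N = K := by
  haveI := h.simple
  haveI := h.normal
  set π := QuotientGroup.mk' (center K)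
  rcases IsSimpleGroup.eq_bot_or_eq_top_of_normal ((N.subgroupOf K).map π)
      ((hN.subgroupOf K).map π (QuotientGroup.mk'_surjective _)) with hb | ht
  · refine Or.inl fun n hn => ?_
    have h1 : (⟨n, hNK hn⟩ : K) ∈ center K := (QuotientGroup.eq_one_iff _).1
      ((Subgroup.mem_bot).1 (hb ▸ mem_map_of_mem π (show (⟨n, hNK hn⟩ : K) ∈ N.subgroupOf K from hn)))
    exact (h.center_iff _).1 h1
  · refine Or.inr (le_antisymm hNK fun k hk => ?_)
    haveI := hN.subgroupOf K
    have hcomm : commutator K ≤ N.subgroupOf K := by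
      rw [commutator_def, commutator_le]
      intro a _ b _
      obtain ⟨n, hn, hn'⟩ := mem_map.1 (ht ▸ mem_top (π a) : π a ∈ (N.subgroupOf K).map π)
      have hz : n⁻¹ * a ∈ center K := QuotientGroup.eq.1 hn'
      have hzb : n⁻¹ * a * b = b * (n⁻¹ * a) := (mem_center_iff.1 hz b).symm
      have e : ⁅a, b⁆ = n * (b * n⁻¹ * b⁻¹) := by
        rw [commutatorElement_def]
        calc a * b * a⁻¹ * b⁻¹ = n * (n⁻¹ * a * b) * a⁻¹ * b⁻¹ := by group
          _ = _ := by rw [hzb]; group
      rw [e]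
      exact mul_mem hn ((hN.subgroupOf K).conj_mem _ (inv_mem hn) b)
    exact hcomm (h.perfect ▸ mem_top (⟨k, hk⟩ : K))

theorem Ctx.not_centralised (h : Ctx K) {x : G} (hx : x ∉ center G) : ∃ k ∈ K, k * x ≠ x * k := by
  by_contra! hall
  exact hx (h.noc K h.normal h.ne_top h.nonsolv x (mem_centralizer_iff.2 hall))

/-- The centraliser of a bad element is a maximal subgroup. -/
theorem isCoatom_centralizer (hP : ProperCA G) {x : G} (hx : x ∉ center G)
    (hC : ∃ a b : G, a * x = x * a ∧ b * x = x * b ∧ a * b ≠ b * a) :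
    IsCoatom (centralizer ({x} : Set G)) := by
  refine ⟨fun ht => hx (mem_center_iff.2 fun g =>
    mem_centralizer_singleton_iff.1 (ht ▸ mem_top g : g ∈ centralizer ({x} : Set G))),
    fun H hlt => ?_⟩
  by_contra hH
  have hxH : x ∈ H := hlt.le (mem_centralizer_singleton_iff.2 rfl)
  by_cases hxc : (⟨x, hxH⟩ : H) ∈ center H
  · exact hlt.not_ge fun g hg => mem_centralizer_singleton_iff.2
      (congrArg Subtype.val (mem_center_iff.1 hxc ⟨g, hg⟩))
  · obtain ⟨a, b, ha, hb, hab⟩ := hC
    have key : ∀ g, g * x = x * g → ∃ hg : g ∈ H, (⟨g, hg⟩ : H) ∈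
        centralizer ({⟨x, hxH⟩} : Set H) := fun g hg =>
      ⟨hlt.le (mem_centralizer_singleton_iff.2 hg),
        mem_centralizer_singleton_iff.2 (Subtype.ext hg)⟩
    obtain ⟨ha', ha''⟩ := key a ha
    obtain ⟨hb', hb''⟩ := key b hb
    have := (hP H hH _ hxc).is_comm.comm ⟨_, ha''⟩ ⟨_, hb''⟩
    exact hab (congrArg (fun z : centralizer ({⟨x, hxH⟩} : Set H) => ((z : H) : G)) this)

/-- Facts around a bad element. -/
theorem Ctx.rigid (h : Ctx K) {x : G} (hx : x ∉ center G)
    (hM : IsCoatom (centralizer ({x} : Set G))) :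
    ∀ k ∈ K, k * x * k⁻¹ * x⁻¹ ∈ center G → k * x = x * k := by
  haveI := h.normal
  have hmul : ∀ a b : G, b * x * b⁻¹ * x⁻¹ ∈ center G →
      a * b * x * (a * b)⁻¹ * x⁻¹ = (b * x * b⁻¹ * x⁻¹) * (a * x * a⁻¹ * x⁻¹) := fun a b hb => by
    have e : a * b * x * (a * b)⁻¹ * x⁻¹ = a * (b * x * b⁻¹ * x⁻¹) * x * a⁻¹ * x⁻¹ := by group
    rw [e, show a * (b * x * b⁻¹ * x⁻¹) = (b * x * b⁻¹ * x⁻¹) * a from mem_center_iff.1 hb a]
    group
  let D : Subgroup G :=
    { carrier := {k | k ∈ K ∧ k * x * k⁻¹ * x⁻¹ ∈ center G}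
      one_mem' := ⟨K.one_mem, by simp⟩
      mul_mem' := fun {a b} ha hb => ⟨mul_mem ha.1 hb.1, by
        show a * b * x * (a * b)⁻¹ * x⁻¹ ∈ center G
        rw [hmul a b hb.2]; exact mul_mem hb.2 ha.2⟩
      inv_mem' := fun {a} ha => ⟨inv_mem ha.1, by
        have e : a⁻¹ * x * a⁻¹⁻¹ * x⁻¹ = a⁻¹ * (a * x * a⁻¹ * x⁻¹)⁻¹ * a := by group
        rw [e, mul_assoc, ← mem_center_iff.1 (inv_mem ha.2) a, ← mul_assoc, inv_mul_cancel, one_mul]
        exact inv_mem ha.2⟩ }
  suffices hle : D ≤ centralizer ({x} : Set G) from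
    fun k hk hz => mem_centralizer_singleton_iff.1 (hle ⟨hk, hz⟩)
  by_contra hle
  have hCN : centralizer ({x} : Set G) ≤ normalizer (D : Set G) := by
    have key : ∀ c, c * x = x * c → ∀ a ∈ D, c * a * c⁻¹ ∈ D := fun c hc a ha =>
      ⟨h.normal.conj_mem a ha.1 c, by
        have hc' : c⁻¹ * x = x * c⁻¹ := (Commute.inv_left hc).eq
        have hc'' : c * x⁻¹ = x⁻¹ * c := (Commute.inv_right hc).eq
        have e : c * a * c⁻¹ * x * (c * a * c⁻¹)⁻¹ * x⁻¹ = c * (a * x * a⁻¹ * x⁻¹) * c⁻¹ := by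
          calc c * a * c⁻¹ * x * (c * a * c⁻¹)⁻¹ * x⁻¹
              = c * a * (c⁻¹ * x) * c * a⁻¹ * c⁻¹ * x⁻¹ := by group
            _ = c * a * x * a⁻¹ * (c⁻¹ * x⁻¹) := by rw [hc']; group
            _ = c * a * x * a⁻¹ * (x⁻¹ * c⁻¹) := by
              rw [(Commute.inv_inv (show Commute c x from hc)).eq]
            _ = _ := by group
        rw [e]
        exact (Subgroup.instNormalCenter (G := G)).conj_mem _ ha.2 c⟩
    intro c hc
    rw [mem_centralizer_singleton_iff] at hc
    refine mem_normalizer_iff.2 fun a => ⟨key c hc a, fun ha => ?_⟩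
    have := key c⁻¹ ((Commute.inv_left hc).eq) _ ha
    simpa [mul_assoc] using this
  have htop : normalizer (D : Set G) = ⊤ := hM.2 _ (lt_of_le_not_ge hCN fun hge =>
    hle (le_normalizer.trans hge))
  haveI hDn : D.Normal := normalizer_eq_top_iff.1 htop
  rcases h.normal_le hDn (fun a ha => ha.1) with hc | hK
  · exact hle fun a ha => mem_centralizer_singleton_iff.2 (mem_center_iff.1 (hc ha) x).symm
  · refine hle fun a ha => mem_centralizer_singleton_iff.2 ?_
    let φ : K →* center G :=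
      { toFun := fun k => ⟨(k : G) * x * (k : G)⁻¹ * x⁻¹,
          ((hK.symm ▸ k.2 : (k : G) ∈ D)).2⟩
        map_one' := Subtype.ext (by simp)
        map_mul' := fun a b => Subtype.ext (by
          simp only [Subgroup.coe_mul]
          rw [hmul _ _ ((hK.symm ▸ b.2 : (b : G) ∈ D)).2]
          exact mem_center_iff.1 ((hK.symm ▸ a.2 : (a : G) ∈ D)).2 _) }
    have hker : (⟨a, ha.1⟩ : K) ∈ φ.ker := by
      have : commutator K ≤ φ.ker := by
        rw [commutator_def, commutator_le]
        intro u _ v _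
        rw [MonoidHom.mem_ker, map_commutatorElement, commutatorElement_eq_one_iff_mul_comm]
        exact Subtype.ext (mem_center_iff.1 (φ v).2 _)
      exact this (h.perfect ▸ mem_top _)
    have h1 : a * x * a⁻¹ * x⁻¹ = 1 := congrArg Subtype.val (MonoidHom.mem_ker.1 hker)
    calc a * x = (a * x * a⁻¹ * x⁻¹) * x * a := by group
      _ = x * a := by rw [h1, one_mul]

/-- `N_K(B) = B` unless `B` is central. -/
theorem Ctx.self_norm (h : Ctx K) {x : G} (hx : x ∉ center G)
    (hM : IsCoatom (centralizer ({x} : Set G))) {c : G} (hcK : c ∈ K) (hcx : c * x = x * c)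
    (hcZ : c ∉ center G) {n : G}
    (hn : ∀ k, (k ∈ K ∧ k * x = x * k) ↔ (n * k * n⁻¹ ∈ K ∧ n * k * n⁻¹ * x = x * (n * k * n⁻¹))) :
    n * x = x * n := by
  by_contra hne
  set B := K ⊓ centralizer ({x} : Set G)
  have hCN : centralizer ({x} : Set G) ≤ normalizer (B : Set G) := by
    intro g hg
    refine mem_normalizer_iff.2 fun k => ?_
    simp only [B, Subgroup.mem_inf]
    haveI := h.normal
    refine and_congr ⟨fun hk => h.normal.conj_mem k hk g,
      fun hk => by simpa [mul_assoc] using h.normal.conj_mem _ hk g⁻¹⟩ ?_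
    exact ⟨fun hk => mul_mem (mul_mem hg hk) (inv_mem hg),
      fun hk => by simpa [mul_assoc] using mul_mem (mul_mem (inv_mem hg) hk) hg⟩
  have hnN : n ∈ normalizer (B : Set G) := mem_normalizer_iff.2 fun k => by
    simpa [B, Subgroup.mem_inf, mem_centralizer_singleton_iff] using hn k
  have htop : normalizer (B : Set G) = ⊤ := hM.2 _ (lt_of_le_not_ge hCN fun hge =>
    hne (mem_centralizer_singleton_iff.1 (hge hnN)))
  rcases h.normal_le (normalizer_eq_top_iff.1 htop) inf_le_left with hc | hK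
  · exact hcZ (hc ⟨hcK, mem_centralizer_singleton_iff.2 hcx⟩)
  · obtain ⟨k, hk, hk'⟩ := h.not_centralised hx
    exact hk' (mem_centralizer_singleton_iff.1 (hK.symm.le hk).2)

theorem Ctx.B_ne_top (h : Ctx K) {x : G} (hx : x ∉ center G) :
    (centralizer ({x} : Set G)).subgroupOf K ≠ ⊤ := by
  intro ht
  obtain ⟨k, hk, hk'⟩ := h.not_centralised hx
  exact hk' (mem_centralizer_singleton_iff.1
    (show (⟨k, hk⟩ : K) ∈ (centralizer ({x} : Set G)).subgroupOf K from ht ▸ mem_top _))

theorem Ctx.center_le_B (h : Ctx K) (x : G) :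
    center K ≤ (centralizer ({x} : Set G)).subgroupOf K := fun k hk =>
  mem_centralizer_singleton_iff.2 (mem_center_iff.1 ((h.center_iff k).1 hk) x).symm

/-- A bad element has a non-central, non-abelian part in `K` unless it is fixed-point-free. -/
theorem Ctx.abelian_TI_false [Finite G] (h : Ctx K) {x : G} (hx : x ∉ center G)
    (hM : IsCoatom (centralizer ({x} : Set G)))
    (hne : ∃ c ∈ K, c * x = x * c ∧ c ∉ center G)
    (hab : ∀ a ∈ K, ∀ b ∈ K, a * x = x * a → b * x = x * b → a * b = b * a)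
    (hcent : ∀ c ∈ K, c * x = x * c → c ∉ center G → ∀ y ∈ K, y * c = c * y → y * x = x * y) :
    False := by
  haveI := h.normal
  refine h.noFrobenius _ (h.center_le_B x) (h.B_ne_top hx) ?_ ?_
  · obtain ⟨c, hc, hcx, hcZ⟩ := hne
    exact ⟨⟨c, hc⟩, mem_centralizer_singleton_iff.2 hcx, fun hz => hcZ ((h.center_iff _).1 hz)⟩
  · intro g hg c hc hcg
    by_contra hcz
    rw [mem_subgroupOf, mem_centralizer_singleton_iff] at hg hc hcg
    simp only [Subgroup.coe_mul, InvMemClass.coe_inv] at hcg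
    have hcz' : (c : G) ∉ center G := fun hz => hcz ((h.center_iff c).2 hz)
    have hd : (g : G)⁻¹ * c * g ∉ center G := fun hz => hcz' (by
      simpa [mul_assoc] using (Subgroup.instNormalCenter (G := G)).conj_mem _ hz g)
    have hdK : (g : G)⁻¹ * c * g ∈ K := mul_mem (mul_mem (inv_mem g.2) c.2) g.2
    refine hg (h.self_norm hx hM c.2 hc hcz' fun k => ?_)
    constructor
    · rintro ⟨hk, hkx⟩
      refine ⟨mul_mem (mul_mem g.2 hk) (inv_mem g.2), ?_⟩
      have h1 := hab _ hk _ hdK hkx hcg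
      refine hcent c c.2 hc hcz' _ (mul_mem (mul_mem g.2 hk) (inv_mem g.2)) ?_
      calc (g : G) * k * (g : G)⁻¹ * c = g * (k * ((g : G)⁻¹ * c * g)) * (g : G)⁻¹ := by group
        _ = _ := by rw [h1]; group
    · rintro ⟨hk, hkx⟩
      have hkK : k ∈ K := by simpa [mul_assoc] using h.normal.conj_mem _ hk (g : G)⁻¹
      refine ⟨hkK, hcent _ hdK hcg hd k hkK ?_⟩
      have h1 := hab _ hk _ c.2 hkx hc
      calc k * ((g : G)⁻¹ * c * g) = (g : G)⁻¹ * ((g * k * (g : G)⁻¹) * c) * g := by group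
        _ = _ := by rw [h1]; group

/-- Step 1: elements of `K` outside the centre have abelian centralisers in `G`. -/
theorem Ctx.kerCA [Finite G] (h : Ctx K) :
    ∀ k ∈ K, k ∉ center G → IsMulCommutative (centralizer ({k} : Set G)) := by
  intro k hk hkZ
  by_contra hna
  have hC : ∃ a b : G, a * k = k * a ∧ b * k = k * b ∧ a * b ≠ b * a := by
    by_contra! hall
    exact hna ⟨⟨fun a b => Subtype.ext (hall a b (mem_centralizer_singleton_iff.1 a.2)
      (mem_centralizer_singleton_iff.1 b.2))⟩⟩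
  have hM := isCoatom_centralizer h.pca hkZ hC
  have hKca : ∀ c ∈ K, c ∉ center G → ∀ a ∈ K, ∀ b ∈ K, a * c = c * a → b * c = c * b →
      a * b = b * a := by
    intro c hc hcZ a ha b hb hac hbc
    have := (h.pca K h.ne_top ⟨c, hc⟩ (fun hz => hcZ ((h.center_iff _).1 hz))).is_comm.comm
      ⟨⟨a, ha⟩, mem_centralizer_singleton_iff.2 (Subtype.ext hac)⟩
      ⟨⟨b, hb⟩, mem_centralizer_singleton_iff.2 (Subtype.ext hbc)⟩
    exact congrArg (fun z : centralizer ({(⟨c, hc⟩ : K)} : Set K) => ((z : K) : G)) this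
  exact h.abelian_TI_false hkZ hM ⟨k, hk, rfl, hkZ⟩
    (fun a ha b hb hax hbx => hKca k hk hkZ a ha b hb hax hbx)
    (fun c hc hcx hcZ y hy hyc => hKca c hc hcZ y hy k hk hyc hcx.symm)

theorem Ctx.comm_of (h : Ctx K) [Finite G] {c a b : G} (hc : c ∈ K) (hcZ : c ∉ center G)
    (ha : a * c = c * a) (hb : b * c = c * b) : a * b = b * a :=
  congrArg (fun z : centralizer ({c} : Set G) => (z : G))
    ((h.kerCA c hc hcZ).is_comm.comm ⟨a, mem_centralizer_singleton_iff.2 ha⟩
      ⟨b, mem_centralizer_singleton_iff.2 hb⟩)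

/-- Step 2: `C_K(x)` is not abelian. -/
theorem Ctx.nonabelian [Finite G] (h : Ctx K) {x : G} (hx : x ∉ center G)
    (hM : IsCoatom (centralizer ({x} : Set G))) {p : ℕ} (hp : p.Prime) (hxp : x ^ p ∈ center G) :
    ∃ a ∈ K, ∃ b ∈ K, a * x = x * a ∧ b * x = x * b ∧ a * b ≠ b * a := by
  by_contra! hab
  have hnormal := h.normal
  by_cases hne : ∃ c ∈ K, c * x = x * c ∧ c ∉ center G
  · exact h.abelian_TI_false hx hM hne (fun a ha b hb => hab a ha b hb)
      (fun c hc hcx hcZ y _ hyc => h.comm_of hc hcZ hyc hcx.symm)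
  push Not at hne
  -- `x` induces a fixed-point-free automorphism of prime order
  haveI := h.simple
  let ψ : MulAut K := MulAut.conjNormal x
  have hmap : (center K).map (ψ : K ≃* K).toMonoidHom = center K :=
    (inferInstance : (center K).Characteristic) |> characteristic_iff_map_eq.1 <| ψ
  let φ : (K ⧸ center K) ≃* (K ⧸ center K) := QuotientGroup.congr _ _ ψ hmap
  have hφ : ∀ k : K, φ (QuotientGroup.mk k) = QuotientGroup.mk (ψ k) := fun k => rfl
  have hfix : ∀ q, φ q = q → q = 1 := by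
    intro q hq
    obtain ⟨k, rfl⟩ := QuotientGroup.mk_surjective q
    rw [hφ, QuotientGroup.eq] at hq
    rw [QuotientGroup.eq_one_iff]
    have hz : x * (k : G)⁻¹ * x⁻¹ * k ∈ center G := by
      have := (h.center_iff _).1 hq
      simpa [ψ, MulAut.conjNormal_apply, mul_assoc] using this
    have hz' : (k : G) * x * (k : G)⁻¹ * x⁻¹ ∈ center G := by
      have := (Subgroup.instNormalCenter (G := G)).conj_mem _ hz k
      simpa [mul_assoc] using this
    exact (h.center_iff k).2 (hne k k.2 (h.rigid hx hM k k.2 hz'))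
  have hpow : ∀ (n : ℕ) (k : K), (φ ^ n) (QuotientGroup.mk k) = QuotientGroup.mk ((ψ ^ n) k) := by
    intro n
    induction n with
    | zero => intro k; rfl
    | succ n ih => intro k; rw [pow_succ, pow_succ, MulAut.mul_apply, MulAut.mul_apply, hφ, ih]
  have hφp : φ ^ p = 1 := by
    ext q
    obtain ⟨k, rfl⟩ := QuotientGroup.mk_surjective q
    rw [hpow]
    have : (ψ ^ p) k = k := by
      apply Subtype.ext
      show (((MulAut.conjNormal : G →* MulAut K) x ^ p) k : G) = k
      rw [← map_pow, MulAut.conjNormal_apply, ← mem_center_iff.1 hxp k, mul_inv_cancel_right]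
    rw [this]
    rfl
  have hnil := Frobenius.isNilpotent_of_fixedPointFree (K ⧸ center K) φ hfix hp hφp
  refine h.nonsolv ?_
  haveI : Group.IsSolvable (K ⧸ center K) := inferInstance
  haveI : Group.IsSolvable (center K) := Group.isSolvable_of_comm fun a b => Subtype.ext (mem_center_iff.1 b.2 a)
  exact Group.isSolvable_of_ker_le_range (center K).subtype (QuotientGroup.mk' (center K))
    (by rw [QuotientGroup.ker_mk', range_subtype])

/-- Step 3: `C_K(x)` meets a conjugate outside the centre. -/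
theorem Ctx.meet [Finite G] (h : Ctx K) {x : G} (hx : x ∉ center G)
    (hcomm : ∃ a ∈ K, ∃ b ∈ K, a * x = x * a ∧ b * x = x * b ∧ a * b ≠ b * a) :
    ∃ g ∈ K, g * x ≠ x * g ∧ ∃ c ∈ K, c ∉ center G ∧ c * x = x * c ∧
      c * (g * x * g⁻¹) = (g * x * g⁻¹) * c := by
  by_contra! hno
  refine h.noFrobenius _ (h.center_le_B x) (h.B_ne_top hx) ?_ ?_
  · obtain ⟨a, ha, b, -, hax, -, hab⟩ := hcomm
    exact ⟨⟨a, ha⟩, mem_centralizer_singleton_iff.2 hax, fun hz =>
      hab (mem_center_iff.1 ((h.center_iff _).1 hz) b).symm⟩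
  · intro g hg c hc hcg
    by_contra hcz
    rw [mem_subgroupOf, mem_centralizer_singleton_iff] at hg hc hcg
    simp only [Subgroup.coe_mul, InvMemClass.coe_inv] at hcg
    refine hno g g.2 hg c c.2 (fun hz => hcz ((h.center_iff c).2 hz)) hc ?_
    calc (c : G) * (g * x * (g : G)⁻¹) = g * (((g : G)⁻¹ * c * g) * x) * (g : G)⁻¹ := by group
      _ = _ := by rw [hcg]; group

/-- Some power of a bad element is bad and of prime order modulo the centre. -/
theorem exists_prime_bad [Finite G] {x : G} (hx : x ∉ center G) :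
    ∃ (y : G) (p : ℕ), p.Prime ∧ y ∉ center G ∧ y ^ p ∈ center G ∧
      ∀ g : G, g * x = x * g → g * y = y * g := by
  set o := orderOf (QuotientGroup.mk x : G ⧸ center G) with ho
  have ho1 : o ≠ 1 := fun h1 => hx ((QuotientGroup.eq_one_iff x).1 (orderOf_eq_one_iff.1 h1))
  obtain ⟨p, hp, hpo⟩ := Nat.exists_prime_and_dvd ho1
  refine ⟨x ^ (o / p), p, hp, fun hz => ?_, ?_, fun g hg => (Commute.pow_right hg _).eq⟩
  · have h1 : (QuotientGroup.mk x : G ⧸ center G) ^ (o / p) = 1 := by
      rw [← QuotientGroup.mk_pow]; exact (QuotientGroup.eq_one_iff _).2 hz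
    have h2 := orderOf_dvd_of_pow_eq_one h1
    have hopos : 0 < o := orderOf_pos _
    have h3 : o / p < o := Nat.div_lt_self hopos hp.one_lt
    have h4 : 0 < o / p := Nat.div_pos (Nat.le_of_dvd hopos hpo) hp.pos
    exact absurd (Nat.le_of_dvd h4 h2) (not_le.2 h3)
  · rw [← pow_mul, Nat.div_mul_cancel hpo, ← QuotientGroup.eq_one_iff, QuotientGroup.mk_pow, ho]
    exact pow_orderOf_eq_one _

end Cfsg.Agent.MinNonCA27.Outer96
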