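import Cfsg.Agent.MinNonCA27.Defs
import Cfsg.Agent.PF14.Compose

/-!
# S4369: the solvable radical of a minimal non-CA group is central
-/

set_option autoImplicit false
set_option linter.unusedSectionVars false
set_option linter.style.haveILetI false

namespace Cfsg.Agent.MinNonCA27.Radical

open Subgroup

universe u

variable {G : Type u} [Group G] [Finite G]

/-- The CA trick. -/
theorem comm_of_ca (h : ProperCA G) {H : Subgroup G} (hH : H ≠ ⊤) {x y : G} (hx : x ∈ H)
    (hy : y ∈ H) (hxy : x * y ≠ y * x) {a b : G} (ha : a ∈ H) (hb : b ∈ H)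
    (hax : a * x = x * a) (hbx : b * x = x * b) : a * b = b * a := by
  have hc : (⟨x, hx⟩ : H) ∉ center H := fun hc =>
    hxy (congrArg Subtype.val (Subgroup.mem_center_iff.1 hc ⟨y, hy⟩)).symm
  obtain ⟨hab⟩ := h H hH ⟨x, hx⟩ hc
  have := hab.comm
    ⟨(⟨a, ha⟩ : H), Subgroup.mem_centralizer_singleton_iff.2 (Subtype.ext hax)⟩
    ⟨(⟨b, hb⟩ : H), Subgroup.mem_centralizer_singleton_iff.2 (Subtype.ext hbx)⟩
  exact congrArg (fun z : centralizer ({(⟨x, hx⟩ : H)} : Set H) => ((z : H) : G)) this

theorem feit {X : Type u} [Group X] [Finite X] (h : Odd (Nat.card X)) : Group.IsSolvable X :=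
  PF14.feitThompson X h

theorem solvable_of_le {A B : Subgroup G} (hB : Group.IsSolvable B) (h : A ≤ B) :
    Group.IsSolvable A :=
  Group.isSolvable_of_isSolvable_injective (Subgroup.inclusion_injective h)

theorem solvable_subgroupOf {A : Subgroup G} (hA : Group.IsSolvable A) (M : Subgroup G) :
    Group.IsSolvable ↥(A.subgroupOf M) :=
  haveI := hA
  Group.isSolvable_of_isSolvable_injective (G' := A)
    (f := (M.subtype.comp (A.subgroupOf M).subtype).codRestrict A fun z => z.2)
    fun z w hzw => Subtype.ext (Subtype.ext (congrArg (fun v : A => (v : G)) hzw))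

theorem solvable_of_comm {A : Subgroup G} (h : ∀ a ∈ A, ∀ b ∈ A, a * b = b * a) :
    Group.IsSolvable A :=
  Group.isSolvable_of_comm fun a b => Subtype.ext (h a a.2 b b.2)

/-- A solvable subgroup times a solvable subgroup normalising it is solvable. -/
theorem solvable_sup {A B : Subgroup G} (hA : Group.IsSolvable A) (hB : Group.IsSolvable B)
    (hn : B ≤ normalizer (A : Set G)) : Group.IsSolvable ↥(A ⊔ B) := by
  haveI hAn : (A.subgroupOf (A ⊔ B)).Normal :=
    (normal_subgroupOf_iff_le_normalizer le_sup_left).2 (sup_le le_normalizer hn)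
  let f : ↥(A ⊔ B) →* ↥(A ⊔ B) ⧸ A.subgroupOf (A ⊔ B) := QuotientGroup.mk' _
  have hsurj : Function.Surjective (f.comp (Subgroup.inclusion (le_sup_right : B ≤ A ⊔ B))) := by
    intro z
    obtain ⟨⟨g, hg⟩, rfl⟩ := QuotientGroup.mk'_surjective _ z
    have hg' := hg
    rw [sup_comm, ← SetLike.mem_coe, coe_mul_of_left_le_normalizer_right _ _ hn] at hg'
    obtain ⟨b, hb, a, ha, rfl⟩ := hg'
    refine ⟨⟨b, hb⟩, QuotientGroup.eq.2 ?_⟩
    rw [mem_subgroupOf]
    simpa [← mul_assoc] using ha
  haveI := hB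
  haveI := hA
  haveI : Group.IsSolvable (A.subgroupOf (A ⊔ B)) := solvable_subgroupOf ‹_› (A ⊔ B)
  haveI : Group.IsSolvable (↥(A ⊔ B) ⧸ A.subgroupOf (A ⊔ B)) :=
    Group.isSolvable_of_surjective hsurj
  exact Group.isSolvable_of_ker_le_range (A.subgroupOf (A ⊔ B)).subtype f
    (by rw [QuotientGroup.ker_mk', Subgroup.range_subtype])

theorem solvable_sup_zpowers {A : Subgroup G} (hA : Group.IsSolvable A) {g : G}
    (hg : g ∈ normalizer (A : Set G)) : Group.IsSolvable ↥(A ⊔ zpowers g) :=
  solvable_sup hA (solvable_of_comm fun a ha b hb => by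
    obtain ⟨i, rfl⟩ := mem_zpowers_iff.1 ha
    obtain ⟨j, rfl⟩ := mem_zpowers_iff.1 hb
    exact ((Commute.refl g).zpow_zpow i j).eq) (zpowers_le.2 hg)

theorem mem_normalizer_of_normal (A : Subgroup G) [A.Normal] (g : G) :
    g ∈ normalizer (A : Set G) := by
  rw [Subgroup.normalizer_eq_top]; exact mem_top g

theorem ne_top_of_solvable (hns : ¬ Group.IsSolvable G) {H : Subgroup G}
    (hH : Group.IsSolvable H) : H ≠ ⊤ := by
  rintro rfl
  exact hns (Group.isSolvable_of_surjective (f := (topEquiv (G := G)).toMonoidHom)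
    topEquiv.surjective)

/-- A group with an abelian normaliser of a Sylow 2-subgroup is solvable. -/
theorem solvable_of_abelian_normalizer (M : Subgroup G) (P : Sylow 2 M)
    (h : ∀ a ∈ normalizer ((P : Subgroup M) : Set M), ∀ b ∈ normalizer ((P : Subgroup M) : Set M),
      a * b = b * a) : Group.IsSolvable M := by
  haveI : Fact (Nat.Prime 2) := ⟨Nat.prime_two⟩
  have hle : normalizer ((P : Subgroup M) : Set M) ≤ centralizer ((P : Subgroup M) : Set M) :=
    fun g hg => Subgroup.mem_centralizer_iff.2 fun y hy => h y (le_normalizer hy) g hg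
  set N := (MonoidHom.transferSylow P hle).ker
  have hc : Subgroup.IsComplement' N (P : Subgroup M) :=
    MonoidHom.ker_transferSylow_isComplement' P hle
  have hNodd : Odd (Nat.card N) := by
    rw [← hc.index_eq_card]
    exact Nat.odd_iff.2 (Nat.two_dvd_ne_zero.1 P.not_dvd_index)
  haveI : Group.IsSolvable N := feit hNodd
  haveI hp : IsPGroup 2 (M ⧸ N) := by
    obtain ⟨k, hk⟩ := IsPGroup.iff_card.1 P.2
    exact IsPGroup.of_card (n := k) (by rw [← Subgroup.index_eq_card, hc.symm.index_eq_card, hk])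
  haveI := hp.isNilpotent
  haveI : Group.IsSolvable (M ⧸ N) := inferInstance
  exact Group.isSolvable_of_ker_le_range N.subtype (QuotientGroup.mk' N)
    (by rw [QuotientGroup.ker_mk', Subgroup.range_subtype])

theorem solvable_of_odd_index (A : Subgroup G) [A.Normal] (hA : Group.IsSolvable A)
    (M : Subgroup G) (hodd : Odd (Nat.card (↥M ⧸ A.subgroupOf M))) : Group.IsSolvable M := by
  haveI := hA
  haveI : Group.IsSolvable (A.subgroupOf M) := solvable_subgroupOf ‹_› M
  haveI : Group.IsSolvable (↥M ⧸ A.subgroupOf M) := feit hodd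
  exact Group.isSolvable_of_ker_le_range (A.subgroupOf M).subtype
    (QuotientGroup.mk' (A.subgroupOf M)) (by rw [QuotientGroup.ker_mk', Subgroup.range_subtype])

/-- (a) A non-solvable proper normal subgroup has central centraliser. -/
theorem noCentralised (hca : ProperCA G) : NoCentralised G := by
  intro L hL hLtop hLns x hx
  by_contra hxZ
  haveI : Fact (Nat.Prime 2) := ⟨Nat.prime_two⟩
  haveI := hL
  obtain ⟨P⟩ := (Sylow.nonempty : Nonempty (Sylow 2 L))
  set H := normalizer ((((P : Subgroup L).map L.subtype : Subgroup G)) : Set G) with hH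
  have hsup : H ⊔ L = ⊤ := P.normalizer_sup_eq_top
  have hxc : ∀ l ∈ L, l * x = x * l := fun l hl => Subgroup.mem_centralizer_iff.1 hx l hl
  have hnormP : normalizer ((P : Subgroup L) : Set L) ≤ H.subgroupOf L := fun g hg => by
    rw [mem_subgroupOf, hH]
    exact le_normalizer_map L.subtype ⟨g, hg, rfl⟩
  have hHtop : H ≠ ⊤ := fun h => hLns (by
    have hn : ((P : Subgroup L).map L.subtype).Normal := normalizer_eq_top_iff.1 (hH ▸ h)
    haveI := hn
    have e : ((P : Subgroup L).map L.subtype).subgroupOf L = (P : Subgroup L) :=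
      comap_map_eq_self_of_injective L.subtype_injective _
    haveI hPn : ((P : Subgroup L)).Normal := e ▸ inferInstance
    haveI := P.2.isNilpotent
    haveI : Group.IsSolvable (P : Subgroup L) := inferInstance
    haveI : Group.IsSolvable (L ⧸ (P : Subgroup L)) := feit (by
      rw [← Subgroup.index_eq_card]
      exact Nat.odd_iff.2 (Nat.two_dvd_ne_zero.1 P.not_dvd_index))
    exact Group.isSolvable_of_ker_le_range (P : Subgroup L).subtype
      (QuotientGroup.mk' (P : Subgroup L)) (by rw [QuotientGroup.ker_mk', Subgroup.range_subtype]))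
  have hxH : x ∈ H := centralizer_le_normalizer _ (Subgroup.mem_centralizer_iff.2 fun y hy => by
    obtain ⟨l, -, rfl⟩ := hy
    exact hxc l l.2)
  obtain ⟨g, hgH, hg⟩ : ∃ g ∈ H, x * g ≠ g * x := by
    by_contra! hcon
    have hHM : H ⊔ L ≤ centralizer ({x} : Set G) := sup_le
      (fun g hg => Subgroup.mem_centralizer_singleton_iff.2 (hcon g hg).symm)
      (fun l hl => Subgroup.mem_centralizer_singleton_iff.2 (hxc l hl))
    rw [hsup] at hHM
    exact hxZ (Subgroup.mem_center_iff.2 fun g =>
      Subgroup.mem_centralizer_singleton_iff.1 (hHM (mem_top g)))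
  exact hLns (solvable_of_abelian_normalizer L P fun a ha b hb => Subtype.ext
    (comm_of_ca hca hHtop hxH hgH hg (hnormP ha) (hnormP hb) (hxc a a.2) (hxc b b.2)))

variable (hca : ProperCA G) (hns : ¬ Group.IsSolvable G)

include hca hns

/-- The centraliser of a solvable normal non-central subgroup is abelian. -/
theorem centralizer_comm (N : Subgroup G) [N.Normal] (hN : Group.IsSolvable N)
    (hNZ : ¬ N ≤ center G) : ∀ a ∈ centralizer (N : Set G), ∀ b ∈ centralizer (N : Set G),
      a * b = b * a := by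
  haveI : (centralizer (N : Set G)).Normal := Subgroup.normal_centralizer
  have hC : Group.IsSolvable (centralizer (N : Set G)) := by
    by_contra hCns
    refine hNZ fun n hn => noCentralised hca (centralizer (N : Set G)) inferInstance ?_ hCns n ?_
    · intro htop
      refine hNZ fun n hn => Subgroup.mem_center_iff.2 fun g => ?_
      exact (Subgroup.mem_centralizer_iff.1 (htop ▸ mem_top g : g ∈ centralizer (N : Set G)) n hn).symm
    · exact Subgroup.mem_centralizer_iff.2 fun c hc =>
        (Subgroup.mem_centralizer_iff.1 hc n hn).symm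
  obtain ⟨n, hn, hnZ⟩ := SetLike.not_le_iff_exists.1 hNZ
  obtain ⟨g, hg⟩ := not_forall.1 (fun h => hnZ (Subgroup.mem_center_iff.2 h))
  set X := (centralizer (N : Set G) ⊔ N) ⊔ zpowers g
  have hCN : Group.IsSolvable ↥(centralizer (N : Set G) ⊔ N) :=
    solvable_sup hC hN (fun z _ => mem_normalizer_of_normal _ z)
  have hX : Group.IsSolvable X := solvable_sup_zpowers hCN (mem_normalizer_of_normal _ g)
  intro a ha b hb
  exact comm_of_ca hca (ne_top_of_solvable hns hX) (mem_sup_left (mem_sup_right hn))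
    (mem_sup_right (mem_zpowers g)) (Ne.symm hg) (mem_sup_left (mem_sup_left ha))
    (mem_sup_left (mem_sup_left hb)) (Subgroup.mem_centralizer_iff.1 ha n hn).symm
    (Subgroup.mem_centralizer_iff.1 hb n hn).symm

/-- A self-centralising abelian normal subgroup: elements outside it with square in it fix only
central elements. -/
theorem fixed_central (A : Subgroup G) [A.Normal] (hA : ∀ a ∈ A, ∀ b ∈ A, a * b = b * a)
    (hAc : ∀ g, (∀ a ∈ A, g * a = a * g) → g ∈ A)
    {t : G} (ht : t ∉ A) (ht2 : t * t ∈ A) {a : G} (ha : a ∈ A) (hat : t * a = a * t) :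
    a ∈ center G := by
  have hAs := solvable_of_comm hA
  have htA : ∀ X : Subgroup G, X ≠ ⊤ → A ≤ X → t ∈ X → ∀ u ∈ X, a * u = u * a := by
    intro X hX hAX htX u hu
    by_contra hau
    exact ht (hAc t fun b hb =>
      comm_of_ca hca hX (hAX ha) hu hau htX (hAX hb) hat (hA b hb a ha))
  -- `a` commutes with every element like `t`
  have hW : ∀ u, u * u ∈ A → a * u = u * a := by
    intro u hu
    set Y := A ⊔ zpowers (t * u) with hY
    have hYs : Group.IsSolvable Y :=
      solvable_sup_zpowers hAs (mem_normalizer_of_normal A (t * u))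
    have hAY : A ≤ Y := le_sup_left
    have htu : t * u ∈ Y := mem_sup_right (mem_zpowers _)
    have htY : t ∈ normalizer (Y : Set G) := by
      have hle : Y.map (MulAut.conj t).toMonoidHom ≤ Y := by
        rw [Subgroup.map_le_iff_le_comap]
        refine sup_le (fun b hb => hAY ?_) (zpowers_le.2 ?_)
        · simpa using (inferInstance : A.Normal).conj_mem b hb t
        · show t * (t * u) * t⁻¹ ∈ Y
          rw [show t * (t * u) * t⁻¹ = t * t * (u * u) * (t * u)⁻¹ * ((t * u) * (u⁻¹ * t⁻¹)) by group]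
          rw [show t * u * (u⁻¹ * t⁻¹) = 1 by group, mul_one]
          exact Y.mul_mem (Y.mul_mem (hAY ht2) (hAY hu)) (Y.inv_mem htu)
      have heq := Subgroup.eq_of_le_of_card_ge hle (by
        rw [Subgroup.card_map_of_injective (f := (MulAut.conj t).toMonoidHom)
          (MulAut.conj t).injective])
      refine Subgroup.mem_normalizer_iff.2 fun z => ⟨fun hz => ?_, fun hz => ?_⟩
      · exact heq ▸ ⟨z, hz, rfl⟩
      · obtain ⟨y, hy, he⟩ := heq.symm ▸ hz
        rwa [← (MulAut.conj t).injective he]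
    have hXs : Group.IsSolvable ↥(Y ⊔ zpowers t) := solvable_sup_zpowers hYs htY
    refine htA (Y ⊔ zpowers t) (ne_top_of_solvable hns hXs) (hAY.trans le_sup_left)
      (mem_sup_right (mem_zpowers t)) u ?_
    have := (Y ⊔ zpowers t).mul_mem ((Y ⊔ zpowers t).inv_mem (mem_sup_right (mem_zpowers t)))
      (mem_sup_left htu)
    rwa [inv_mul_cancel_left] at this
  -- the normal subgroup generated by all of them
  set S : Set G := (A : Set G) ∪ {u | u * u ∈ A} with hS
  set L := closure S with hLdef
  haveI hLn : L.Normal := ⟨fun l hl g => by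
    have hle : L ≤ L.comap (MulAut.conj g).toMonoidHom := by
      rw [hLdef, Subgroup.closure_le]
      rintro s (hs | hs)
      · exact subset_closure (Or.inl ((inferInstance : A.Normal).conj_mem s hs g))
      · refine subset_closure (Or.inr ?_)
        show g * s * g⁻¹ * (g * s * g⁻¹) ∈ A
        rw [show g * s * g⁻¹ * (g * s * g⁻¹) = g * (s * s) * g⁻¹ by group]
        exact (inferInstance : A.Normal).conj_mem _ hs g
    exact hle hl⟩
  have hac : L ≤ centralizer ({a} : Set G) := by
    rw [hLdef, Subgroup.closure_le]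
    rintro s (hs | hs)
    · exact Subgroup.mem_centralizer_singleton_iff.2 (hA s hs a ha)
    · exact Subgroup.mem_centralizer_singleton_iff.2 (hW s hs).symm
  by_cases hL : L = ⊤
  · exact Subgroup.mem_center_iff.2 fun g =>
      Subgroup.mem_centralizer_singleton_iff.1 (hac (hL ▸ mem_top g))
  by_cases hLs : Group.IsSolvable L
  · refine Subgroup.mem_center_iff.2 fun g => ?_
    have hXs : Group.IsSolvable ↥(L ⊔ zpowers g) :=
      solvable_sup_zpowers hLs (mem_normalizer_of_normal L g)
    exact (htA (L ⊔ zpowers g) (ne_top_of_solvable hns hXs)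
      (fun b hb => mem_sup_left (subset_closure (Or.inl hb)))
      (mem_sup_left (subset_closure (Or.inr ht2))) g (mem_sup_right (mem_zpowers g))).symm
  · exact noCentralised hca L hLn hL hLs a (Subgroup.mem_centralizer_iff.2 fun l hl =>
      Subgroup.mem_centralizer_singleton_iff.1 (hac hl))

/-- Such an element inverts the subgroup modulo the centre. -/
theorem inverts (A : Subgroup G) [A.Normal] (hA : ∀ a ∈ A, ∀ b ∈ A, a * b = b * a)
    (hAc : ∀ g, (∀ a ∈ A, g * a = a * g) → g ∈ A)
    {t : G} (ht : t ∉ A) (ht2 : t * t ∈ A) {a : G} (ha : a ∈ A) :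
    a * (t * a * t⁻¹) ∈ center G := by
  have hta : t * a * t⁻¹ ∈ A := (inferInstance : A.Normal).conj_mem a ha t
  refine fixed_central hca hns A hA hAc ht ht2 (A.mul_mem ha hta) ?_
  rw [← mul_inv_eq_iff_eq_mul]
  calc t * (a * (t * a * t⁻¹)) * t⁻¹ = (t * a * t⁻¹) * (t * t * a * (t * t)⁻¹) := by group
    _ = (t * a * t⁻¹) * a := by rw [hA _ ht2 a ha, mul_inv_cancel_right]
    _ = a * (t * a * t⁻¹) := hA _ hta a ha

variable {x : G} (hxZ : x ∉ center G)
  (hna : ¬ IsMulCommutative (centralizer ({x} : Set G)))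

include hxZ hna

/-- The non-abelian centraliser is maximal. -/
theorem sup_eq_top {N : Subgroup G} (hN : ¬ N ≤ centralizer ({x} : Set G)) :
    N ⊔ centralizer ({x} : Set G) = ⊤ := by
  by_contra htop
  obtain ⟨n, hn, hnx⟩ := SetLike.not_le_iff_exists.1 hN
  refine hna ⟨⟨fun a b => Subtype.ext ?_⟩⟩
  exact comm_of_ca hca htop (mem_sup_right (Subgroup.mem_centralizer_singleton_iff.2 rfl))
    (mem_sup_left hn) (fun h => hnx (Subgroup.mem_centralizer_singleton_iff.2 h.symm))
    (mem_sup_right a.2) (mem_sup_right b.2) (Subgroup.mem_centralizer_singleton_iff.1 a.2)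
    (Subgroup.mem_centralizer_singleton_iff.1 b.2)

theorem centralizer_not_solvable {N : Subgroup G} [N.Normal] (hN : Group.IsSolvable N)
    (hNM : ¬ N ≤ centralizer ({x} : Set G)) :
    ¬ Group.IsSolvable (centralizer ({x} : Set G)) := fun h => by
  have h' := solvable_sup hN h (fun z _ => mem_normalizer_of_normal N z)
  exact ne_top_of_solvable hns h' (sup_eq_top hca hns hxZ hna hNM)

/-- A solvable normal subgroup outside `C(x)` meeting it centrally is impossible. -/
theorem kill (N : Subgroup G) [N.Normal] (hN : Group.IsSolvable N)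
    (hNM : ¬ N ≤ centralizer ({x} : Set G))
    (hN0 : N ⊓ centralizer ({x} : Set G) ≤ center G) : False := by
  haveI : Fact (Nat.Prime 2) := ⟨Nat.prime_two⟩
  set M := centralizer ({x} : Set G) with hM
  have hMns := centralizer_not_solvable hca hns hxZ hna hN hNM
  have hxM : x ∈ M := Subgroup.mem_centralizer_singleton_iff.2 rfl
  obtain ⟨P⟩ := (Sylow.nonempty : Nonempty (Sylow 2 M))
  set H := (normalizer ((P : Subgroup M) : Set M)).map M.subtype with hH
  have hHM : H ≤ M := map_subtype_le _
  have hcen : ∀ z, z ∈ M → (∀ m ∈ M, m * z = z * m) → z ∈ H := fun z hz hc =>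
    ⟨⟨z, hz⟩, centralizer_le_normalizer _ (Subgroup.mem_centralizer_iff.2 fun y _ =>
      Subtype.ext (hc y y.2)), rfl⟩
  have hxH : x ∈ H := hcen x hxM fun m hm => Subgroup.mem_centralizer_singleton_iff.1 hm
  have hN0H : ∀ z ∈ N, z ∈ M → z ∈ H := fun z hzN hzM =>
    hcen z hzM fun m _ => Subgroup.mem_center_iff.1 (hN0 ⟨hzN, hzM⟩) m
  have hHlt : H ≠ M := fun h => by
    have hn : normalizer ((P : Subgroup M) : Set M) = ⊤ := by
      apply map_injective M.subtype_injective
      rw [← MonoidHom.range_eq_map, range_subtype, ← hH, h]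
    haveI : (P : Subgroup M).Normal := normalizer_eq_top_iff.1 hn
    haveI := P.2.isNilpotent
    haveI : Group.IsSolvable (P : Subgroup M) := inferInstance
    haveI : Group.IsSolvable (M ⧸ (P : Subgroup M)) := feit (by
      rw [← Subgroup.index_eq_card]
      exact Nat.odd_iff.2 (Nat.two_dvd_ne_zero.1 P.not_dvd_index))
    exact hMns (Group.isSolvable_of_ker_le_range (P : Subgroup M).subtype
      (QuotientGroup.mk' (P : Subgroup M)) (by rw [QuotientGroup.ker_mk', Subgroup.range_subtype]))
  have htop : N ⊔ H ≠ ⊤ := fun h => hHlt (le_antisymm hHM fun m hm => by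
    obtain ⟨n, hn, k, hk, rfl⟩ := Subgroup.mem_sup_of_normal_left.1 (h ▸ mem_top m)
    have hnM : n ∈ M := by
      have := M.mul_mem hm (M.inv_mem (hHM hk))
      rwa [mul_inv_cancel_right] at this
    exact H.mul_mem (hN0H n hn hnM) hk)
  obtain ⟨n, hn, hnx⟩ := SetLike.not_le_iff_exists.1 hNM
  refine hMns (solvable_of_abelian_normalizer M P fun a ha b hb => Subtype.ext ?_)
  exact comm_of_ca hca htop (mem_sup_right hxH) (mem_sup_left hn)
    (fun h => hnx (Subgroup.mem_centralizer_singleton_iff.2 h.symm))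
    (mem_sup_right ⟨a, ha, rfl⟩) (mem_sup_right ⟨b, hb, rfl⟩)
    (Subgroup.mem_centralizer_singleton_iff.1 a.2) (Subgroup.mem_centralizer_singleton_iff.1 b.2)

/-- The intersection with `C(x)` is normal. -/
theorem inf_normal (N : Subgroup G) [hN : N.Normal]
    (hNN : ∀ a ∈ N, ∀ b ∈ N, a * b * a⁻¹ * b⁻¹ ∈ center G)
    (hNM : ¬ N ≤ centralizer ({x} : Set G)) :
    (N ⊓ centralizer ({x} : Set G)).Normal := by
  refine ⟨fun z hz g => ⟨hN.conj_mem z hz.1 g, ?_⟩⟩
  obtain ⟨n, hn, m, hm, rfl⟩ := Subgroup.mem_sup_of_normal_left.1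
    ((sup_eq_top hca hns hxZ hna hNM).symm ▸ mem_top g :
      g ∈ N ⊔ centralizer ({x} : Set G))
  have h1 : m * z * m⁻¹ ∈ centralizer ({x} : Set G) := mul_mem (mul_mem hm hz.2) (inv_mem hm)
  rw [show n * m * z * (n * m)⁻¹ = (n * (m * z * m⁻¹) * n⁻¹ * (m * z * m⁻¹)⁻¹) * (m * z * m⁻¹)
    by group]
  exact mul_mem (center_le_centralizer _ (hNN n hn _ (hN.conj_mem z hz.1 m))) h1

/-- The abelian case. -/
theorem no_abelian (A : Subgroup G) [A.Normal] (hA : ∀ a ∈ A, ∀ b ∈ A, a * b = b * a)
    (hAZ : ¬ A ≤ center G) : False := by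
  -- replace `A` by its centraliser
  set C := centralizer (A : Set G) with hC
  haveI : C.Normal := Subgroup.normal_centralizer
  have hCab : ∀ a ∈ C, ∀ b ∈ C, a * b = b * a :=
    centralizer_comm hca hns A (solvable_of_comm hA) hAZ
  have hAC : A ≤ C := fun a ha => Subgroup.mem_centralizer_iff.2 fun b hb => hA b hb a ha
  have hCZ : ¬ C ≤ center G := fun h => hAZ (hAC.trans h)
  have hCc : ∀ g, (∀ a ∈ C, g * a = a * g) → g ∈ C := fun g hg =>
    Subgroup.mem_centralizer_iff.2 fun a ha => (hg a (hAC ha)).symm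
  have hCs := solvable_of_comm hCab
  set M := centralizer ({x} : Set G) with hM
  by_cases hCM : C ≤ M
  · have hxC : x ∈ C := hCc x fun a ha =>
      (Subgroup.mem_centralizer_singleton_iff.1 (hCM ha)).symm
    have hnot : ∀ t, t ∉ C → t * t ∈ C → t ∉ M := fun t ht ht2 htM =>
      hxZ (fixed_central hca hns C hCab hCc ht ht2 hxC
        (Subgroup.mem_centralizer_singleton_iff.1 htM))
    have hodd : Odd (Nat.card (↥M ⧸ C.subgroupOf M)) := by
      by_contra hev
      haveI : Fact (Nat.Prime 2) := ⟨Nat.prime_two⟩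
      obtain ⟨v, hv⟩ := exists_prime_orderOf_dvd_card' (G := ↥M ⧸ C.subgroupOf M) 2
        (even_iff_two_dvd.1 (Nat.not_odd_iff_even.1 hev))
      obtain ⟨m, rfl⟩ := QuotientGroup.mk'_surjective _ v
      refine hnot m (fun h => ?_) ?_ m.2
      · rw [(QuotientGroup.eq_one_iff m).2 (mem_subgroupOf.2 h) |>.trans rfl |> fun e =>
          (show QuotientGroup.mk' (C.subgroupOf M) m = 1 from e), orderOf_one] at hv
        exact absurd hv (by norm_num)
      · have h2 := pow_orderOf_eq_one (QuotientGroup.mk' (C.subgroupOf M) m)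
        rw [hv, pow_two, ← map_mul] at h2
        exact mem_subgroupOf.1 ((QuotientGroup.eq_one_iff _).1 h2)
    have hMs : Group.IsSolvable M := solvable_of_odd_index C hCs M hodd
    -- an element outside with square inside
    obtain ⟨t, htC, ht2⟩ : ∃ t, t ∉ C ∧ t * t ∈ C := by
      haveI : Fact (Nat.Prime 2) := ⟨Nat.prime_two⟩
      have hev : 2 ∣ Nat.card (G ⧸ C) := by
        by_contra h
        haveI := hCs
        haveI : Group.IsSolvable (G ⧸ C) := feit (Nat.odd_iff.2 (Nat.two_dvd_ne_zero.1 h))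
        exact hns (Group.isSolvable_of_ker_le_range C.subtype (QuotientGroup.mk' C)
          (by rw [QuotientGroup.ker_mk', Subgroup.range_subtype]))
      obtain ⟨v, hv⟩ := exists_prime_orderOf_dvd_card' (G := G ⧸ C) 2 hev
      obtain ⟨t, rfl⟩ := QuotientGroup.mk'_surjective _ v
      refine ⟨t, fun h => ?_, ?_⟩
      · have e : QuotientGroup.mk' C t = 1 := (QuotientGroup.eq_one_iff t).2 h
        rw [e, orderOf_one] at hv
        exact absurd hv (by norm_num)
      · have h2 := pow_orderOf_eq_one (QuotientGroup.mk' C t)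
        rw [hv, pow_two, ← map_mul] at h2
        exact (QuotientGroup.eq_one_iff _).1 h2
    -- the elements acting trivially modulo the centre
    set π := QuotientGroup.mk' (center G) with hπ
    haveI : (C.map π).Normal := Subgroup.Normal.map inferInstance π (QuotientGroup.mk'_surjective _)
    haveI : (centralizer ((C.map π : Subgroup (G ⧸ center G)) : Set (G ⧸ center G))).Normal :=
      Subgroup.normal_centralizer
    set Sg := (centralizer ((C.map π : Subgroup (G ⧸ center G)) : Set (G ⧸ center G))).comap π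
      with hSg
    haveI : Sg.Normal := Subgroup.Normal.comap inferInstance π
    have hπ1 : ∀ g, π g = 1 ↔ g ∈ center G := fun g => QuotientGroup.eq_one_iff g
    have hSgmem : ∀ g, g ∈ Sg ↔ ∀ a ∈ C, g * a * g⁻¹ * a⁻¹ ∈ center G := fun g => by
      rw [hSg, mem_comap, Subgroup.mem_centralizer_iff]
      constructor
      · intro h a ha
        rw [← hπ1, map_mul, map_mul, map_mul, map_inv, map_inv, ← h _ (mem_map_of_mem π ha),
          mul_inv_cancel_right, mul_inv_cancel]
      · rintro h _ ⟨a, ha, rfl⟩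
        have := (hπ1 _).2 (h a ha)
        rw [map_mul, map_mul, map_mul, map_inv, map_inv, mul_inv_eq_one, mul_inv_eq_iff_eq_mul] at this
        exact this.symm
    have hcomm : ∀ g ∈ Sg, ∀ h ∈ Sg, g * h * g⁻¹ * h⁻¹ ∈ C := by
      intro g hg h hh
      refine hCc _ fun a ha => ?_
      -- `g` and `h` act as `b ↦ (central) * b`, so they commute on `C`
      have key : ∀ v ∈ Sg, ∀ b ∈ C, ∃ z ∈ center G, v * b * v⁻¹ = z * b := fun v hv b hb =>
        ⟨_, (hSgmem v).1 hv b hb, by group⟩
      have e : ∀ b ∈ C, g * h * b * (g * h)⁻¹ = h * g * b * (h * g)⁻¹ := by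
        intro b hb
        obtain ⟨zg, hzg, eg⟩ := key g hg b hb
        obtain ⟨zh, hzh, eh⟩ := key h hh b hb
        have c : ∀ w, w * zg = zg * w := Subgroup.mem_center_iff.1 hzg
        have d : ∀ w, w * zh = zh * w := Subgroup.mem_center_iff.1 hzh
        calc g * h * b * (g * h)⁻¹ = g * (h * b * h⁻¹) * g⁻¹ := by group
          _ = zh * (g * b * g⁻¹) := by rw [eh, ← mul_assoc g, d g]; group
          _ = zh * (zg * b) := by rw [eg]
          _ = zg * (zh * b) := by rw [← mul_assoc, c zh, mul_assoc]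
          _ = zg * (h * b * h⁻¹) := by rw [eh]
          _ = h * (zg * b) * h⁻¹ := by rw [← mul_assoc h, c h]; group
          _ = h * (g * b * g⁻¹) * h⁻¹ := by rw [eg]
          _ = h * g * b * (h * g)⁻¹ := by group
      have ha' : (h * g)⁻¹ * a * (h * g) ∈ C := by
        simpa using (inferInstance : C.Normal).conj_mem a ha (h * g)⁻¹
      rw [← mul_inv_eq_iff_eq_mul]
      calc g * h * g⁻¹ * h⁻¹ * a * (g * h * g⁻¹ * h⁻¹)⁻¹
          = g * h * ((h * g)⁻¹ * a * (h * g)) * (g * h)⁻¹ := by group
        _ = h * g * ((h * g)⁻¹ * a * (h * g)) * (h * g)⁻¹ := e _ ha'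
        _ = a := by group
    have hSgs : Group.IsSolvable Sg := by
      haveI := hCs
      haveI : Group.IsSolvable (C.subgroupOf Sg) := solvable_subgroupOf ‹_› Sg
      haveI : Group.IsSolvable (↥Sg ⧸ C.subgroupOf Sg) := Group.isSolvable_of_comm fun u v => by
        obtain ⟨u, rfl⟩ := QuotientGroup.mk'_surjective _ u
        obtain ⟨v, rfl⟩ := QuotientGroup.mk'_surjective _ v
        rw [← commutatorElement_eq_one_iff_mul_comm, ← map_commutatorElement, QuotientGroup.mk'_apply,
          QuotientGroup.eq_one_iff, mem_subgroupOf]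
        simpa [commutatorElement_def] using hcomm u u.2 v v.2
      exact Group.isSolvable_of_ker_le_range (C.subgroupOf Sg).subtype
        (QuotientGroup.mk' (C.subgroupOf Sg)) (by rw [QuotientGroup.ker_mk', Subgroup.range_subtype])
    -- `T := Sg ⊔ ⟨t⟩` is normal, solvable and not inside `M`
    set T := Sg ⊔ zpowers t with hTdef
    have hTs : Group.IsSolvable T := solvable_sup_zpowers hSgs (mem_normalizer_of_normal Sg t)
    haveI hTn : T.Normal := by
      have hconj : ∀ g, t⁻¹ * (g * t * g⁻¹) ∈ Sg := fun g => (hSgmem _).2 fun a ha => by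
        have hu : g * t * g⁻¹ ∉ C := fun h => htC (by
          simpa [mul_assoc] using (inferInstance : C.Normal).conj_mem _ h g⁻¹)
        have hu2 : g * t * g⁻¹ * (g * t * g⁻¹) ∈ C := by
          rw [show g * t * g⁻¹ * (g * t * g⁻¹) = g * (t * t) * g⁻¹ by group]
          exact (inferInstance : C.Normal).conj_mem _ ht2 g
        set b := g * t * g⁻¹ * a * (g * t * g⁻¹)⁻¹ with hb
        have hbC : b ∈ C := (inferInstance : C.Normal).conj_mem a ha _
        have h1 : a * b ∈ center G := inverts hca hns C hCab hCc hu hu2 ha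
        have h2 : b * (t⁻¹ * b * t⁻¹⁻¹) ∈ center G :=
          inverts hca hns C hCab hCc (fun h => htC (by simpa using C.inv_mem h))
            (by rw [← mul_inv_rev]; exact C.inv_mem ht2) hbC
        rw [← hπ1] at h1 h2 ⊢
        rw [show t⁻¹ * (g * t * g⁻¹) * a * (t⁻¹ * (g * t * g⁻¹))⁻¹ * a⁻¹ =
          t⁻¹ * b * t⁻¹⁻¹ * a⁻¹ by rw [hb]; group]
        rw [map_mul] at h1 h2
        rw [map_mul, map_inv, mul_inv_eq_one, eq_inv_of_mul_eq_one_right h2,
          eq_inv_of_mul_eq_one_left h1]
      refine ⟨fun z hz g => ?_⟩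
      have hle : T ≤ T.comap (MulAut.conj g).toMonoidHom := sup_le
        (fun s hs => mem_sup_left ((inferInstance : Sg.Normal).conj_mem s hs g))
        (zpowers_le.2 (by
          show g * t * g⁻¹ ∈ T
          rw [show g * t * g⁻¹ = t * (t⁻¹ * (g * t * g⁻¹)) by group]
          exact T.mul_mem (mem_sup_right (mem_zpowers t)) (mem_sup_left (hconj g))))
      exact hle hz
    have hTM : ¬ T ≤ M := fun h => hnot t htC ht2 (h (mem_sup_right (mem_zpowers t)))
    exact centralizer_not_solvable hca hns hxZ hna hTs hTM hMs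
  · have hNN : ∀ a ∈ C, ∀ b ∈ C, a * b * a⁻¹ * b⁻¹ ∈ center G := fun a ha b hb => by
      rw [hCab a ha b hb, mul_inv_cancel_right, mul_inv_cancel]; exact one_mem _
    haveI := inf_normal hca hns hxZ hna C hNN hCM
    refine kill hca hns hxZ hna C hCs hCM ?_
    by_contra h0
    refine hCM fun c hc => Subgroup.mem_centralizer_singleton_iff.2 ?_
    exact centralizer_comm hca hns (C ⊓ M) (solvable_of_le hCs inf_le_left) h0 c
      (Subgroup.mem_centralizer_iff.2 fun z hz => hCab z hz.1 c hc) x
      (Subgroup.mem_centralizer_iff.2 fun z hz => Subgroup.mem_centralizer_singleton_iff.1 hz.2)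

/-- No solvable normal subgroup outside the centre. -/
theorem radCentral : RadCentral G := by
  intro R hRn hRs
  by_contra hRZ
  by_cases hab : ∃ A : Subgroup G, A.Normal ∧ (∀ a ∈ A, ∀ b ∈ A, a * b = b * a) ∧ ¬ A ≤ center G
  · obtain ⟨A, hAn, hA, hAZ⟩ := hab
    exact no_abelian hca hns hxZ hna A hA hAZ
  obtain ⟨N, hNn, hNs, hNN, hNZ⟩ : ∃ N : Subgroup G, N.Normal ∧ Group.IsSolvable N ∧
      (∀ a ∈ N, ∀ b ∈ N, a * b * a⁻¹ * b⁻¹ ∈ center G) ∧ ¬ N ≤ center G := by
    classical
    obtain ⟨N, ⟨hNn, hNle, hNZ⟩, hmin⟩ := Set.exists_min_image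
      {N : Subgroup G | N.Normal ∧ N ≤ R ∧ ¬ N ≤ center G} (fun N => Nat.card N) (Set.toFinite _)
      ⟨R, hRn, le_rfl, hRZ⟩
    have hNs : Group.IsSolvable N := solvable_of_le hRs hNle
    refine ⟨N, hNn, hNs, fun a ha b hb => ?_, hNZ⟩
    haveI := hNn
    have hlt : ⁅N, N⁆ < N := by
      haveI := hNs
      refine lt_of_le_of_ne (commutator_le_self N) fun h => hNZ ?_
      have hperf : commutator N = ⊤ := by
        apply map_injective N.subtype_injective
        rw [map_subtype_commutator, h, ← MonoidHom.range_eq_map, range_subtype]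
      by_contra hne
      haveI : Nontrivial N := (Subgroup.nontrivial_iff_ne_bot N).2 fun hb => hne (hb ▸ bot_le)
      exact (Group.IsSolvable.commutator_lt_top_of_nontrivial N).ne hperf
    by_contra hab'
    have hle := hmin ⁅N, N⁆ ⟨inferInstance, hlt.le.trans hNle, fun h => hab'
      (h (commutatorElement_def a b ▸ commutator_mem_commutator ha hb))⟩
    exact hlt.ne (Subgroup.eq_of_le_of_card_ge hlt.le hle)
  haveI := hNn
  have hsmall : ∀ A : Subgroup G, A.Normal → (∀ a ∈ A, ∀ b ∈ A, a * b = b * a) → A ≤ center G :=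
    fun A h1 h2 => by_contra fun h3 => hab ⟨A, h1, h2, h3⟩
  have hCZ : ∀ N : Subgroup G, N.Normal → Group.IsSolvable N → ¬ N ≤ center G →
      centralizer (N : Set G) ≤ center G := fun N h1 h2 h3 => by
    haveI := h1
    exact hsmall _ Subgroup.normal_centralizer (centralizer_comm hca hns N h2 h3)
  have hNM : ¬ N ≤ centralizer ({x} : Set G) := fun h => hxZ (hCZ N hNn hNs hNZ
    (Subgroup.mem_centralizer_iff.2 fun n hn => Subgroup.mem_centralizer_singleton_iff.1 (h hn)))
  refine kill hca hns hxZ hna N hNs hNM ?_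
  by_contra h0
  exact hxZ (hCZ _ (inf_normal hca hns hxZ hna N hNN hNM) (solvable_of_le hNs inf_le_left) h0
    (Subgroup.mem_centralizer_iff.2 fun z hz => Subgroup.mem_centralizer_singleton_iff.1 hz.2))

end Cfsg.Agent.MinNonCA27.Radical

namespace Cfsg.Agent.MinNonCA27

universe u

/-- `Radical.lean` piece of S4369. -/
theorem radical : RadicalStmt.{u} := by
  intro G _ _ hns hca
  refine ⟨Radical.noCentralised hca, fun hCA => ?_⟩
  obtain ⟨x, hx⟩ := not_forall.1 hCA
  obtain ⟨hxZ, hna⟩ := Classical.not_imp.1 hx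
  exact Radical.radCentral hca hns hxZ hna

end Cfsg.Agent.MinNonCA27
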