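import Cfsg.Agent.MinNonCA27.Defs
import Cfsg.Agent.Lib.Involution.IndexTwo
import Cfsg.Agent.S0215
import Cfsg.Agent.PF14.Compose

/-!
# S4369: non-abelian Sylow 2-subgroups of a minimal non-CA group

`ShapeStmt`: the centre of such a Sylow 2-subgroup is central, and modulo the centre it is
elementary abelian or dihedral.
-/

set_option autoImplicit false
set_option linter.unusedSectionVars false

namespace Cfsg.Agent.MinNonCA27

open Subgroup
open scoped commutatorElement

universe u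

namespace Shape

variable {K : Type u} [Group K] [Finite K]

theorem comm_of {H : Subgroup K} (h : IsMulCommutative H) {a b : K} (ha : a ∈ H) (hb : b ∈ H) :
    a * b = b * a :=
  congrArg Subtype.val (h.is_comm.comm ⟨a, ha⟩ ⟨b, hb⟩)

theorem mk_one {x : K} : (QuotientGroup.mk x : K ⧸ center K) = 1 ↔ x ∈ center K :=
  QuotientGroup.eq_one_iff x

theorem solvable_of_odd {H : Type u} [Group H] [Finite H] (h : Odd (Nat.card H)) :
    Group.IsSolvable H :=
  PF14.feitThompson H h

/-- The CA trick. -/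
theorem ca_trick (hP : ProperCA K) {H : Subgroup K} (hH : H ≠ ⊤) {x a b : K} (hx : x ∈ H)
    (ha : a ∈ H) (hb : b ∈ H) (hnc : ∃ y ∈ H, x * y ≠ y * x) (hax : a * x = x * a)
    (hbx : b * x = x * b) : a * b = b * a := by
  have hxc : (⟨x, hx⟩ : H) ∉ center H := by
    intro hc
    obtain ⟨y, hy, hne⟩ := hnc
    exact hne (congrArg Subtype.val (mem_center_iff.mp hc ⟨y, hy⟩)).symm
  have hA := hP H hH ⟨x, hx⟩ hxc
  have hmem : ∀ c : K, ∀ hc : c ∈ H, c * x = x * c →
      (⟨c, hc⟩ : H) ∈ centralizer ({(⟨x, hx⟩ : H)} : Set H) := by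
    intro c hc hcx
    rw [mem_centralizer_iff]
    intro h hh
    rw [Set.mem_singleton_iff] at hh
    subst hh
    exact Subtype.ext hcx.symm
  exact congrArg Subtype.val (congrArg Subtype.val
    (hA.is_comm.comm ⟨⟨a, ha⟩, hmem a ha hax⟩ ⟨⟨b, hb⟩, hmem b hb hbx⟩))

/-- `g ↦ [z, g]`, when these commutators are central. -/
def commHom {H : Subgroup K} (z : K) (h : ∀ g ∈ H, z * g * z⁻¹ * g⁻¹ ∈ center K) :
    H →* center K where
  toFun g := ⟨z * (g : K) * z⁻¹ * (g : K)⁻¹, h g g.2⟩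
  map_one' := Subtype.ext (by simp)
  map_mul' a b := Subtype.ext (by
    show z * ((a : K) * b) * z⁻¹ * ((a : K) * b)⁻¹ =
      z * (a : K) * z⁻¹ * (a : K)⁻¹ * (z * (b : K) * z⁻¹ * (b : K)⁻¹)
    have hc := mem_center_iff.mp (h b b.2) (a : K)
    calc z * ((a : K) * b) * z⁻¹ * ((a : K) * b)⁻¹
        = z * (a : K) * z⁻¹ * (a : K)⁻¹ *
            ((a : K) * (z * (b : K) * z⁻¹ * (b : K)⁻¹) * (a : K)⁻¹) := by group
      _ = _ := by rw [hc, mul_inv_cancel_right])

theorem mem_center_of_bar (hp : commutator K = ⊤) {z : K}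
    (h : ∀ g, z * g * z⁻¹ * g⁻¹ ∈ center K) : z ∈ center K := by
  have hle : commutator K ≤ centralizer ({z} : Set K) := by
    rw [_root_.commutator_def, commutator_le]
    intro a _ b _
    let f := commHom (H := (⊤ : Subgroup K)) z (fun g _ => h g)
    let A : (⊤ : Subgroup K) := ⟨a, mem_top a⟩
    let B : (⊤ : Subgroup K) := ⟨b, mem_top b⟩
    have h1 : f (A * B * A⁻¹ * B⁻¹) = 1 := by
      rw [map_mul, map_mul, map_mul, map_inv, map_inv, show f A * f B = f B * f A from Subtype.ext (mem_center_iff.mp (f B).2 (f A : K)),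
        mul_inv_cancel_right,
        mul_inv_cancel]
    have h2 : z * ⁅a, b⁆ * z⁻¹ * (⁅a, b⁆)⁻¹ = 1 := congrArg Subtype.val h1
    rw [mem_centralizer_iff]
    intro y hy
    rw [Set.mem_singleton_iff.mp hy]
    exact mul_inv_eq_iff_eq_mul.mp (mul_inv_eq_one.mp h2)
  rw [mem_center_iff]
  intro g
  exact (mem_centralizer_iff.mp (hle (hp.symm ▸ mem_top g)) z rfl).symm

theorem center_isSolvable : Group.IsSolvable (center K) :=
  Group.isSolvable_of_comm fun a b => Subtype.ext (mem_center_iff.mp b.2 a)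

theorem not_top_of_perfect (hp : commutator K = ⊤) [Nontrivial K] (h : Group.IsSolvable K) :
    False :=
  absurd hp (ne_of_lt (Group.IsSolvable.commutator_lt_top_of_nontrivial K))

theorem mem_of_mk (A : Subgroup K) (S : Sylow 2 K) (hA : A ≤ (S : Subgroup K))
    (hcA : ∀ z ∈ (S : Subgroup K), z ∈ center K → z ∈ A) {x a : K} (ha : a ∈ A)
    (hz : a⁻¹ * x ∈ center K) (hx : ∃ k : ℕ, x ^ 2 ^ k = 1) : x ∈ A := by
  haveI : Fact (Nat.Prime 2) := ⟨Nat.prime_two⟩
  obtain ⟨k, hk⟩ := hx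
  obtain ⟨j, hj⟩ := S.isPGroup' ⟨a, hA ha⟩
  have hj' : a ^ 2 ^ j = 1 := by simpa using congrArg Subtype.val hj
  set z := a⁻¹ * x with hzdef
  have hzp : z ^ 2 ^ (k + j) = 1 := by
    have hxa : x = a * z := by rw [hzdef, mul_inv_cancel_left]
    have hc : Commute a z := (mem_center_iff.mp hz a)
    have h1 : x ^ 2 ^ (k + j) = 1 := by rw [pow_add, pow_mul, hk, one_pow]
    have h2 : a ^ 2 ^ (k + j) = 1 := by rw [pow_add, mul_comm, pow_mul, hj', one_pow]
    rw [hxa, hc.mul_pow, h2, one_mul] at h1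
    exact h1
  have hZ : IsPGroup 2 (zpowers z) := by
    obtain ⟨n, -, hn⟩ := (Nat.dvd_prime_pow Nat.prime_two).mp (orderOf_dvd_of_pow_eq_one hzp)
    exact IsPGroup.of_card (n := n) (by rw [Nat.card_zpowers, hn])
  haveI : (zpowers z).Normal := ⟨fun y hy g => by
    have hyc : y ∈ center K := (zpowers_le.mpr hz) hy
    have : g * y * g⁻¹ = y := by rw [mem_center_iff.mp hyc g, mul_inv_cancel_right]
    rwa [this]⟩
  have heq := S.is_maximal' (S.isPGroup'.to_sup_of_normal_right hZ) le_sup_left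
  have hzS : z ∈ (S : Subgroup K) :=
    heq ▸ (le_sup_right : zpowers z ≤ (S : Subgroup K) ⊔ zpowers z) (mem_zpowers z)
  have := A.mul_mem ha (hcA z hzS hz)
  rwa [hzdef, mul_inv_cancel_left] at this

theorem two_elt {P : Subgroup K} (hP : IsPGroup 2 P) {x : K} (hx : x ∈ P) :
    ∃ k : ℕ, x ^ 2 ^ k = 1 := by
  obtain ⟨k, hk⟩ := hP ⟨x, hx⟩
  exact ⟨k, by simpa using congrArg Subtype.val hk⟩

theorem two_elt_conj {x g : K} (h : ∃ k : ℕ, x ^ 2 ^ k = 1) :
    ∃ k : ℕ, (g * x * g⁻¹) ^ 2 ^ k = 1 := by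
  obtain ⟨k, hk⟩ := h
  exact ⟨k, by rw [conj_pow, hk, mul_one, mul_inv_cancel]⟩

theorem exists_outer (P : Sylow 2 K) {M A2 : Subgroup K} (hPM : (P : Subgroup K) ≤ M)
    (hAM : A2 ≤ M) (hA2 : IsPGroup 2 A2) (hlt : Nat.card A2 < Nat.card (P : Subgroup K)) :
    ∃ u, u ∈ M ∧ u ∈ normalizer (A2 : Set K) ∧ u ∉ A2 ∧ ∃ k : ℕ, u ^ 2 ^ k = 1 := by
  haveI : Fact (Nat.Prime 2) := ⟨Nat.prime_two⟩
  obtain ⟨Q, hQ⟩ := (hA2.comap_subtype (K := M)).exists_le_sylow
  have hcard : Nat.card (Q : Subgroup M) = Nat.card (P : Subgroup K) := by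
    rw [Sylow.card_eq_multiplicity, ← Sylow.card_eq_multiplicity (P.subtype hPM), P.coe_subtype,
      Nat.card_congr (subgroupOfEquivOfLe hPM).toEquiv]
  set Q' : Subgroup K := (Q : Subgroup M).map M.subtype with hQ'def
  have hQ'p : IsPGroup 2 Q' := Q.isPGroup'.map _
  have hQ'c : Nat.card Q' = Nat.card (P : Subgroup K) := by
    rw [← hcard]
    exact Nat.card_congr ((Q : Subgroup M).equivMapOfInjective _ M.subtype_injective).toEquiv.symm
  have hAQ : A2 ≤ Q' := fun x hx =>
    ⟨⟨x, hAM hx⟩, hQ (mem_subgroupOf.mpr hx), rfl⟩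
  have hQM : Q' ≤ M := map_subtype_le _
  have hne : A2.subgroupOf Q' < ⊤ := by
    rw [lt_top_iff_ne_top]
    intro h
    have : Q' ≤ A2 := subgroupOf_eq_top.mp h
    have := Nat.card_congr (subgroupOfEquivOfLe hAQ).toEquiv
    have h2 : A2 = Q' := le_antisymm hAQ (subgroupOf_eq_top.mp h)
    rw [h2, hQ'c] at hlt
    exact lt_irrefl _ hlt
  haveI : Group.IsNilpotent Q' := hQ'p.isNilpotent
  obtain ⟨u, hu, hu'⟩ := SetLike.exists_of_lt (Group.normalizerCondition_of_isNilpotent _ hne)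
  refine ⟨u, hQM u.2, ?_, fun h => hu' (mem_subgroupOf.mpr h), two_elt hQ'p u.2⟩
  rw [mem_normalizer_iff] at hu ⊢
  intro n
  constructor
  · intro hn
    exact (hu ⟨n, hAQ hn⟩).mp hn
  · intro hn
    have hnQ : n ∈ Q' := by
      have := Q'.mul_mem (Q'.mul_mem (Q'.inv_mem u.2) (hAQ hn)) u.2
      simpa [mul_assoc] using this
    exact (hu ⟨n, hnQ⟩).mpr hn

/-- A Sylow 2-subgroup with central elements outside the centre of `K` is abelian. -/
theorem center_sylow_le (hK : Hyp K) (S : Sylow 2 K)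
    (hS : ¬ IsMulCommutative (S : Subgroup K)) {w : K} (hwS : w ∈ (S : Subgroup K))
    (hwc : ∀ s ∈ (S : Subgroup K), w * s = s * w) (hw2 : w * w ∈ center K) :
    w ∈ center K := by
  haveI : Fact (Nat.Prime 2) := ⟨Nat.prime_two⟩
  haveI := hK.nontrivial
  by_contra hw
  have hnon : ¬ ∀ a ∈ (S : Subgroup K), ∀ b ∈ (S : Subgroup K), a * b = b * a := fun h =>
    hS ⟨⟨fun a b => Subtype.ext (h a a.2 b b.2)⟩⟩
  -- not isolated
  set q := QuotientGroup.mk' (center K) with hq
  set S' := S.mapSurjective (QuotientGroup.mk'_surjective (center K)) with hS'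
  have hwbar : orderOf (q w) = 2 := by
    refine orderOf_eq_prime ?_ (fun h => hw (mk_one.mp h))
    rw [pow_two, ← map_mul]
    exact mk_one.mpr hw2
  have hwS' : q w ∈ S' := by
    show q w ∈ (S' : Subgroup _)
    rw [hS', Sylow.coe_mapSurjective]
    exact ⟨w, hwS, rfl⟩
  obtain ⟨g, hgS, hgne⟩ : ∃ g : K, q (g * w * g⁻¹) ∈ (S' : Subgroup _) ∧
      q (g * w * g⁻¹) ≠ q w := by
    by_contra hcon
    push_neg at hcon
    obtain ⟨N, hNn, hNodd, hN⟩ := S0215.result S' (q w) hwbar hwS' (by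
      intro g
      obtain ⟨g, rfl⟩ := QuotientGroup.mk'_surjective (center K) g
      intro hg
      have := hcon g
      rw [map_mul, map_mul, map_inv] at this
      exact this hg)
    haveI := hNn
    have hsolN : Group.IsSolvable N := solvable_of_odd hNodd
    set N' := N.comap q with hN'
    have hsol : Group.IsSolvable N' := by
      haveI := hsolN
      haveI : Group.IsSolvable (center K) := center_isSolvable
      refine Group.isSolvable_of_ker_le_range (G' := center K)
        (inclusion (fun x hx => by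
          show q x ∈ N
          rw [show q x = 1 from mk_one.mpr hx]; exact N.one_mem) : center K →* N')
        ((q.comp N'.subtype).codRestrict N fun x => x.2) ?_
      intro x hx
      have h1 : q (x : K) = 1 := congrArg Subtype.val hx
      exact ⟨⟨(x : K), mk_one.mp h1⟩, Subtype.ext rfl⟩
    have hle : N' ≤ center K := hK.rad N' inferInstance hsol
    refine hw (mem_center_of_bar hK.perfect fun g => hle ?_)
    show q _ ∈ N
    rw [map_mul, map_mul, map_mul, map_inv, map_inv]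
    exact hN (q g)
  set z' := g * w * g⁻¹ with hz'
  have hz'S : z' ∈ (S : Subgroup K) := by
    rw [hS', Sylow.coe_mapSurjective] at hgS
    obtain ⟨s, hs, hsz⟩ := hgS
    refine mem_of_mk (S : Subgroup K) S le_rfl (fun z hz _ => hz) hs ?_
      (two_elt_conj (two_elt S.isPGroup' hwS))
    exact QuotientGroup.eq.mp hsz
  have hwz : w * z' = z' * w := hwc z' hz'S
  have hne : z' ≠ w := fun h => hgne (congrArg q h)
  have hz'c : z' ∉ center K := fun h => hw (by
    have : g⁻¹ * z' * g = w := by rw [hz']; group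
    rw [← this, mem_center_iff.mp h g⁻¹, inv_mul_cancel_right]
    exact h)
  set M : Subgroup K := centralizer {w} with hMdef
  have hM : ∀ y, y ∈ M ↔ y * w = w * y := fun y => by
    rw [hMdef, mem_centralizer_iff]
    exact ⟨fun h => (h w rfl).symm, fun h x hx => by rw [Set.mem_singleton_iff.mp hx, h]⟩
  set M' : Subgroup K := centralizer {z'} with hMdef'
  have hM' : ∀ y, y ∈ M' ↔ y * z' = z' * y := fun y => by
    rw [hMdef', mem_centralizer_iff]
    exact ⟨fun h => (h z' rfl).symm, fun h x hx => by rw [Set.mem_singleton_iff.mp hx, h]⟩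
  have hSM : (S : Subgroup K) ≤ M := fun s hs => (hM s).mpr (hwc s hs).symm
  have hMtop : M ≠ ⊤ := fun h => hw (mem_center_iff.mpr fun y => (hM y).mp (h ▸ mem_top y))
  have hconj : ∀ y, y ∈ M ↔ g * y * g⁻¹ ∈ M' := fun y => by
    rw [hM, hM', hz']
    constructor
    · intro h
      calc g * y * g⁻¹ * (g * w * g⁻¹) = g * (y * w) * g⁻¹ := by group
        _ = g * (w * y) * g⁻¹ := by rw [h]
        _ = _ := by group
    · intro h
      have : g * (y * w) * g⁻¹ = g * (w * y) * g⁻¹ := by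
        calc g * (y * w) * g⁻¹ = g * y * g⁻¹ * (g * w * g⁻¹) := by group
          _ = g * w * g⁻¹ * (g * y * g⁻¹) := h
          _ = _ := by group
      simpa using this
  have hmap : M.map (MulAut.conj g).toMonoidHom = M' := by
    ext x
    rw [Subgroup.mem_map]
    constructor
    · rintro ⟨y, hy, rfl⟩
      exact (hconj y).mp hy
    · intro hx
      refine ⟨g⁻¹ * x * g, (hconj _).mpr (by simpa [mul_assoc] using hx), ?_⟩
      simp [mul_assoc]
  by_cases hle : M ≤ M'
  · -- `g` normalises `M`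
    have hMM : M = M' := by
      refine Subgroup.eq_of_le_of_card_ge hle ?_
      rw [← hmap, Nat.card_congr (M.equivMapOfInjective _ (MulAut.conj g).injective).toEquiv.symm]
    set H := normalizer (M : Set K) with hH
    have hgH : g ∈ H := by
      rw [hH, mem_normalizer_iff]
      intro y
      exact ⟨fun hy => hMM.symm ▸ (hconj y).mp hy, fun hy => (hconj y).mpr (hMM ▸ hy)⟩
    have hMH : M ≤ H := le_normalizer
    have hwg : w * g ≠ g * w := fun h => hne (by rw [hz', ← h, mul_inv_cancel_right])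
    by_cases hHtop : H = ⊤
    · haveI hMn : M.Normal := normalizer_eq_top_iff.mp hHtop
      have hodd : Odd (Nat.card (K ⧸ M)) := by
        rw [← index_eq_card]
        refine Nat.not_even_iff_odd.mp fun h => S.not_dvd_index ?_
        exact (even_iff_two_dvd.mp h).trans (index_dvd_of_le hSM)
      haveI : Nontrivial (K ⧸ M) := by
        rw [← Finite.one_lt_card_iff_nontrivial, ← index_eq_card]
        exact one_lt_index_of_ne_top hMtop
      refine not_top_of_perfect (K := K ⧸ M) ?_ (solvable_of_odd hodd)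
      rw [_root_.commutator_def, ← map_top_of_surjective _ (QuotientGroup.mk'_surjective M),
        ← map_commutator, ← _root_.commutator_def, hK.perfect]
    · exact hnon fun a ha b hb => ca_trick hK.proper hHtop (hMH ((hM w).mpr rfl))
        (hMH (hSM ha)) (hMH (hSM hb)) ⟨g, hgH, hwg⟩ (hwc a ha).symm (hwc b hb).symm
  · -- `A = M ⊓ M'` is abelian
    have hz'M : z' ∈ M := (hM z').mpr hwz.symm
    obtain ⟨y, hyM, hy⟩ := SetLike.not_le_iff_exists.mp hle
    have hA : ∀ a b, a ∈ M → a ∈ M' → b ∈ M → b ∈ M' → a * b = b * a :=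
      fun a b ha ha' hb hb' => ca_trick hK.proper hMtop hz'M ha hb
        ⟨y, hyM, fun h => hy ((hM' y).mpr h.symm)⟩ ((hM' a).mp ha') ((hM' b).mp hb')
    let A2 : Subgroup K :=
      { carrier := {x | x ∈ M ∧ x ∈ M' ∧ ∃ k : ℕ, x ^ 2 ^ k = 1}
        one_mem' := ⟨M.one_mem, M'.one_mem, 0, one_pow _⟩
        mul_mem' := by
          rintro a b ⟨ha, ha', i, hi⟩ ⟨hb, hb', j, hj⟩
          refine ⟨M.mul_mem ha hb, M'.mul_mem ha' hb', i + j, ?_⟩
          rw [(Commute.mul_pow (hA a b ha ha' hb hb') _), pow_add, pow_mul, hi, one_pow, one_mul,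
            mul_comm, pow_mul, hj, one_pow]
        inv_mem' := by
          rintro a ⟨ha, ha', i, hi⟩
          exact ⟨M.inv_mem ha, M'.inv_mem ha', i, by rw [inv_pow, hi, inv_one]⟩ }
    have hA2p : IsPGroup 2 A2 := fun ⟨x, hx⟩ => by
      obtain ⟨k, hk⟩ := hx.2.2
      exact ⟨k, Subtype.ext (by simpa using hk)⟩
    have hA2c : ∀ a ∈ A2, ∀ b ∈ A2, a * b = b * a := fun a ha b hb =>
      hA a b ha.1 ha.2.1 hb.1 hb.2.1
    have hwA2 : w ∈ A2 := ⟨(hM w).mpr rfl, (hM' w).mpr hwz, two_elt S.isPGroup' hwS⟩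
    have hlt : Nat.card A2 < Nat.card (S : Subgroup K) := by
      obtain ⟨P', hP'⟩ := hA2p.exists_le_sylow
      have hc : Nat.card (P' : Subgroup K) = Nat.card (S : Subgroup K) := by
        rw [Sylow.card_eq_multiplicity, Sylow.card_eq_multiplicity]
      refine lt_of_le_of_ne (hc ▸ Subgroup.card_le_of_le hP') fun h => hnon ?_
      have hP'2 : (P' : Subgroup K) = A2 :=
        (Subgroup.eq_of_le_of_card_ge hP' (by rw [hc, h])).symm
      intro a ha b hb
      let e := Sylow.equiv S P'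
      have key : e ⟨a, ha⟩ * e ⟨b, hb⟩ = e ⟨b, hb⟩ * e ⟨a, ha⟩ := Subtype.ext
        (hA2c _ (hP'2 ▸ (e ⟨a, ha⟩).2) _ (hP'2 ▸ (e ⟨b, hb⟩).2))
      rw [← map_mul, ← map_mul] at key
      exact congrArg Subtype.val (e.injective key)
    obtain ⟨u, huM, huN, huA, hu2⟩ := exists_outer S hSM (fun x (hx : x ∈ M ∧ x ∈ M' ∧ _) => hx.1) hA2p hlt
    have hgS' : ((g • S : Sylow 2 K) : Subgroup K) ≤ M' := by
      rw [← hmap, Sylow.coe_subgroup_smul, Subgroup.pointwise_smul_def]
      exact Subgroup.map_mono hSM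
    have hlt' : Nat.card A2 < Nat.card ((g • S : Sylow 2 K) : Subgroup K) := by
      rwa [Sylow.card_eq_multiplicity, ← Sylow.card_eq_multiplicity S]
    obtain ⟨u', huM', huN', huA', hu2'⟩ := exists_outer (g • S) hgS' (fun x (hx : x ∈ M ∧ x ∈ M' ∧ _) => hx.2.1) hA2p hlt'
    set H := normalizer (A2 : Set K) with hH
    have hz'H : z' ∈ H := le_normalizer (show z' ∈ A2 from
      ⟨hz'M, (hM' z').mpr rfl, two_elt S.isPGroup' hz'S⟩)
    have hwH : w ∈ H := le_normalizer hwA2
    by_cases hHtop : H = ⊤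
    · haveI : A2.Normal := normalizer_eq_top_iff.mp hHtop
      exact hw (hK.rad A2 inferInstance
        (Group.isSolvable_of_comm fun a b => Subtype.ext (hA2c a a.2 b b.2)) hwA2)
    by_cases hwcen : ∀ y ∈ H, w * y = y * w
    · exact huA' ⟨(hM u').mpr (hwcen u' huN').symm, huM', hu2'⟩
    · push_neg at hwcen
      exact huA ⟨huM, (hM' u).mpr
        (ca_trick hK.proper hHtop hwH huN hz'H hwcen ((hM u).mp huM) hwz.symm), hu2⟩

theorem center_sylow (hK : Hyp K) (S : Sylow 2 K) (hS : ¬ IsMulCommutative (S : Subgroup K))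
    {z : K} (hzS : z ∈ (S : Subgroup K)) (hzc : ∀ s ∈ (S : Subgroup K), z * s = s * z) :
    z ∈ center K := by
  obtain ⟨k, hk⟩ := two_elt S.isPGroup' hzS
  have hz : z ^ 2 ^ k ∈ center K := hk ▸ (center K).one_mem
  clear hk
  induction k with
  | zero => simpa using hz
  | succ n ih =>
    apply ih
    refine center_sylow_le hK S hS (Subgroup.pow_mem _ hzS _) (fun s hs => ?_) ?_
    · exact ((show Commute z s from hzc s hs).pow_left _).eq
    · rw [← pow_add, ← two_mul, ← pow_succ']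
      exact hz

/-- Every 2-element centralising `t` modulo the centre induces on `t` one of the two commutators
seen in `S`. -/
theorem comm_two_values (S : Sylow 2 K) {t v d : K}
    (hSt : ∀ s ∈ (S : Subgroup K), t * s * t⁻¹ * s⁻¹ ∈ center K) (hv : v ∈ (S : Subgroup K))
    (hind : ∀ s ∈ (S : Subgroup K), s * t = t * s ∨ (v⁻¹ * s) * t = t * (v⁻¹ * s))
    (hd : t * d * t⁻¹ * d⁻¹ ∈ center K) (hd2 : ∃ k : ℕ, d ^ 2 ^ k = 1) :
    t * d * t⁻¹ * d⁻¹ = 1 ∨ t * d * t⁻¹ * d⁻¹ = t * v * t⁻¹ * v⁻¹ := by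
  haveI : Fact (Nat.Prime 2) := ⟨Nat.prime_two⟩
  let D : Subgroup K :=
    { carrier := {x | t * x * t⁻¹ * x⁻¹ ∈ center K}
      one_mem' := by simp
      mul_mem' := fun {a b} (ha : t * a * t⁻¹ * a⁻¹ ∈ center K)
          (hb : t * b * t⁻¹ * b⁻¹ ∈ center K) => by
        show t * (a * b) * t⁻¹ * (a * b)⁻¹ ∈ center K
        have hc := mem_center_iff.mp hb a
        have : t * (a * b) * t⁻¹ * (a * b)⁻¹ =
            t * a * t⁻¹ * a⁻¹ * (t * b * t⁻¹ * b⁻¹) := by
          calc t * (a * b) * t⁻¹ * (a * b)⁻¹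
              = t * a * t⁻¹ * a⁻¹ * (a * (t * b * t⁻¹ * b⁻¹) * a⁻¹) := by group
            _ = _ := by rw [hc, mul_inv_cancel_right]
        rw [this]
        exact mul_mem ha hb
      inv_mem' := fun {a} (ha : t * a * t⁻¹ * a⁻¹ ∈ center K) => by
        show t * a⁻¹ * t⁻¹ * a⁻¹⁻¹ ∈ center K
        have h1 := inv_mem ha
        have h2 := mem_center_iff.mp h1 a⁻¹
        have : t * a⁻¹ * t⁻¹ * a⁻¹⁻¹ = a⁻¹ * (t * a * t⁻¹ * a⁻¹)⁻¹ * a := by group
        rw [this, h2, inv_mul_cancel_right]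
        exact h1 }
  have hSD : (S : Subgroup K) ≤ D := hSt
  let ψ : D →* center K := commHom t (fun g hg => hg)
  let d' : D := ⟨d, hd⟩
  obtain ⟨k, hk⟩ := hd2
  have hdp : IsPGroup 2 (zpowers d') := by
    have h1 : d' ^ 2 ^ k = 1 := Subtype.ext (by simpa using hk)
    obtain ⟨n, -, hn⟩ := (Nat.dvd_prime_pow Nat.prime_two).mp (orderOf_dvd_of_pow_eq_one h1)
    exact IsPGroup.of_card (n := n) (by rw [Nat.card_zpowers, hn])
  obtain ⟨Q, hQ⟩ := hdp.exists_le_sylow
  obtain ⟨c, rfl⟩ := MulAction.exists_smul_eq D (S.subtype hSD) Q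
  have hmem := hQ (mem_zpowers d')
  rw [Sylow.coe_subgroup_smul, Subgroup.pointwise_smul_def] at hmem
  obtain ⟨s, hs, hsd⟩ := hmem
  rw [Sylow.coe_subtype] at hs
  have hψ : ψ d' = ψ s := by
    rw [← hsd]
    show ψ (c * s * c⁻¹) = ψ s
    rw [map_mul, map_mul, map_inv,
      show ψ c * ψ s = ψ s * ψ c from Subtype.ext (mem_center_iff.mp (ψ s).2 (ψ c : K)),
      mul_inv_cancel_right]
  have hval : t * d * t⁻¹ * d⁻¹ = t * (s : K) * t⁻¹ * (s : K)⁻¹ := congrArg Subtype.val hψ
  rw [hval]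
  have hone : ∀ x : K, x * t = t * x → t * x * t⁻¹ * x⁻¹ = 1 := fun x hx => by
    rw [← hx, mul_inv_cancel_right, mul_inv_cancel]
  rcases hind (s : K) hs with h | h
  · exact Or.inl (hone _ h)
  · refine Or.inr ?_
    have hvs : v⁻¹ * (s : K) ∈ (S : Subgroup K) := mul_mem (inv_mem hv) hs
    calc t * (s : K) * t⁻¹ * (s : K)⁻¹
        = t * v * t⁻¹ * v⁻¹ * (v * (t * (v⁻¹ * (s : K)) * t⁻¹ * (v⁻¹ * (s : K))⁻¹) * v⁻¹) := by
          group
      _ = _ := by rw [hone _ h]; group

theorem shape' (hK : Hyp K) (S : Sylow 2 K) (hS : ¬ IsMulCommutative (S : Subgroup K)) :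
    ElemBar (S : Subgroup K) ∨ ∃ T c u : K, Dih (S : Subgroup K) T c u := by
  haveI : Fact (Nat.Prime 2) := ⟨Nat.prime_two⟩
  haveI := hK.nontrivial
  set P : Subgroup K := (S : Subgroup K) with hP
  set q := QuotientGroup.mk' (center K) with hq
  have hcen : ∀ z ∈ P, (∀ s ∈ P, z * s = s * z) → z ∈ center K :=
    fun z hz h => center_sylow hK S hS hz h
  have hPtop : P ≠ ⊤ := fun h => by
    haveI : Group.IsNilpotent K := by
      have h1 : IsPGroup 2 (⊤ : Subgroup K) := h ▸ S.isPGroup'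
      exact (h1.of_equiv Subgroup.topEquiv).isNilpotent
    exact not_top_of_perfect hK.perfect inferInstance
  -- centralisers inside `P`
  have hCA : ∀ a ∈ P, a ∉ center K → ∀ x ∈ P, ∀ y ∈ P, x * a = a * x → y * a = a * y →
      x * y = y * x := by
    intro a ha hac x hx y hy hxa hya
    refine ca_trick hK.proper hPtop ha hx hy ?_ hxa hya
    by_contra hcon
    push_neg at hcon
    exact hac (hcen a ha hcon)
  -- the element `T`
  obtain ⟨T, hT, hTc, hT2, hTS⟩ : ∃ T ∈ P, T ∉ center K ∧ T * T ∈ center K ∧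
      ∀ s ∈ P, T * s * T⁻¹ * s⁻¹ ∈ center K := by
    set B : Subgroup (K ⧸ center K) := P.map q with hB
    have hBp : IsPGroup 2 B := S.isPGroup'.map _
    haveI : Nontrivial B := by
      rw [Subgroup.nontrivial_iff_ne_bot]
      intro h
      refine hS ⟨⟨fun a b => Subtype.ext ?_⟩⟩
      have : (a : K) ∈ center K := mk_one.mp (Subgroup.mem_bot.mp (h ▸ ⟨a, a.2, rfl⟩ :
        q (a : K) ∈ (⊥ : Subgroup (K ⧸ center K))))
      exact (mem_center_iff.mp this b).symm
    haveI := hBp.center_nontrivial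
    have hdvd : 2 ∣ Nat.card (center B) := by
      obtain ⟨n, hn⟩ := IsPGroup.iff_card.mp (hBp.to_subgroup (center B))
      have h1 : 1 < Nat.card (center B) := Finite.one_lt_card
      cases n with
      | zero => simp [hn] at h1
      | succ n => rw [hn]; exact dvd_pow_self 2 (Nat.succ_ne_zero n)
    obtain ⟨y, hy⟩ := exists_prime_orderOf_dvd_card' 2 hdvd
    obtain ⟨T, hT, hTy⟩ := ((y : B) : B).2
    have hy' : orderOf (q T) = 2 := by
      rw [hTy, Subgroup.orderOf_coe, Subgroup.orderOf_coe, hy]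
    refine ⟨T, hT, fun h => ?_, ?_, fun s hs => ?_⟩
    · rw [show q T = 1 from mk_one.mpr h, orderOf_one] at hy'
      omega
    · refine mk_one.mp ?_
      show q (T * T) = 1
      rw [map_mul, ← pow_two, ← hy', pow_orderOf_eq_one]
    · refine mk_one.mp ?_
      show q (T * s * T⁻¹ * s⁻¹) = 1
      have hc : q s * q T = q T * q s := by
        have := congrArg (fun b : B => (b : K ⧸ center K))
          (mem_center_iff.mp y.2 ⟨q s, ⟨s, hs, rfl⟩⟩)
        simpa [hTy] using this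
      rw [map_mul, map_mul, map_mul, map_inv, map_inv, ← hc]
      group
  set A : Subgroup K := P ⊓ centralizer {T} with hAdef
  have hA : ∀ a, a ∈ A ↔ a ∈ P ∧ a * T = T * a := fun a => by
    rw [hAdef, Subgroup.mem_inf, mem_centralizer_iff]
    exact and_congr_right fun _ =>
      ⟨fun h => (h T rfl).symm, fun h x hx => by rw [Set.mem_singleton_iff.mp hx, h]⟩
  have hAP : A ≤ P := inf_le_left
  have hAab : ∀ a ∈ A, ∀ b ∈ A, a * b = b * a := fun a ha b hb =>
    hCA T hT hTc a (hAP ha) b (hAP hb) ((hA a).mp ha).2 ((hA b).mp hb).2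
  have hTA : T ∈ A := (hA T).mpr ⟨hT, rfl⟩
  have hcA : ∀ z ∈ P, z ∈ center K → z ∈ A := fun z hz h =>
    (hA z).mpr ⟨hz, (mem_center_iff.mp h T).symm⟩
  have hsqA : ∀ s ∈ P, s * s ∈ A := fun s hs => by
    refine (hA _).mpr ⟨P.mul_mem hs hs, ?_⟩
    have he := hTS s hs
    set e := T * s * T⁻¹ * s⁻¹ with hedef
    have h1 : T * s * T⁻¹ = e * s := by rw [hedef, inv_mul_cancel_right]
    have hee : e * e = 1 := by
      have h2 : T * (T * s * T⁻¹) * T⁻¹ = s := by
        calc T * (T * s * T⁻¹) * T⁻¹ = (T * T) * s * (T * T)⁻¹ := by group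
          _ = s := by rw [← mem_center_iff.mp hT2 s, mul_inv_cancel_right]
      have h3 : T * (e * s) * T⁻¹ = e * (e * s) := by
        calc T * (e * s) * T⁻¹ = (T * e) * s * T⁻¹ := by group
          _ = (e * T) * s * T⁻¹ := by rw [mem_center_iff.mp he T]
          _ = e * (T * s * T⁻¹) := by group
          _ = _ := by rw [h1]
      have h5 : T * (e * s) * T⁻¹ = s := by rw [← h1]; exact h2
      rw [h5, ← mul_assoc] at h3
      exact mul_right_cancel (h3.symm.trans (one_mul s).symm)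
    have h4 : T * (s * s) * T⁻¹ = s * s := by
      calc T * (s * s) * T⁻¹ = (T * s * T⁻¹) * (T * s * T⁻¹) := by group
        _ = e * (s * e) * s := by rw [h1]; group
        _ = e * (e * s) * s := by rw [mem_center_iff.mp he s]
        _ = (e * e) * (s * s) := by group
        _ = s * s := by rw [hee, one_mul]
    exact (mul_inv_eq_iff_eq_mul.mp h4).symm
  have hCAu : ∀ u ∈ P, u ∉ A → ∀ a ∈ A, a * u = u * a → a ∈ center K := by
    intro u hu huA a ha hau
    by_contra hac
    exact huA ((hA u).mpr ⟨hu,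
      hCA a (hAP ha) hac u hu T hT hau.symm (hAab T hTA a ha)⟩)
  have husq : ∀ u ∈ P, u ∉ A → u * u ∈ center K := fun u hu huA =>
    hCAu u hu huA _ (hsqA u hu) (mul_assoc u u u)
  have hnorm : ∀ u ∈ P, ∀ a ∈ A, u * a * u⁻¹ ∈ A := fun u hu a ha => by
    refine (hA _).mpr ⟨P.mul_mem (P.mul_mem hu (hAP ha)) (P.inv_mem hu), ?_⟩
    have he := hTS u hu
    set e := T * u * T⁻¹ * u⁻¹ with hedef
    have h1 : T * u * T⁻¹ = e * u := by rw [hedef, inv_mul_cancel_right]
    have h4 : T * (u * a * u⁻¹) * T⁻¹ = u * a * u⁻¹ := by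
      calc T * (u * a * u⁻¹) * T⁻¹
          = (T * u * T⁻¹) * (T * a * T⁻¹) * (T * u * T⁻¹)⁻¹ := by group
        _ = (e * u) * a * (e * u)⁻¹ := by rw [h1, ← ((hA a).mp ha).2, mul_inv_cancel_right]
        _ = e * (u * a * u⁻¹) * e⁻¹ := by group
        _ = _ := by rw [← mem_center_iff.mp he (u * a * u⁻¹), mul_inv_cancel_right]
    exact (mul_inv_eq_iff_eq_mul.mp h4).symm
  have hinv : ∀ u ∈ P, u ∉ A → ∀ a ∈ A, a * (u * a * u⁻¹) ∈ center K := by
    intro u hu huA a ha
    refine hCAu u hu huA _ (A.mul_mem ha (hnorm u hu a ha)) ?_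
    have h2 : u * (a * (u * a * u⁻¹)) * u⁻¹ = a * (u * a * u⁻¹) := by
      calc u * (a * (u * a * u⁻¹)) * u⁻¹
          = (u * a * u⁻¹) * ((u * u) * a * (u * u)⁻¹) := by group
        _ = (u * a * u⁻¹) * a := by
            rw [← mem_center_iff.mp (husq u hu huA) a, mul_inv_cancel_right]
        _ = _ := (hAab a ha _ (hnorm u hu a ha)).symm
    exact (mul_inv_eq_iff_eq_mul.mp h2).symm
  by_cases hsq : ∀ s ∈ P, s * s ∈ center K
  · left
    intro a ha b hb
    refine ⟨?_, hsq a ha⟩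
    have h1 : ∀ x ∈ P, q x * q x = 1 := fun x hx => by rw [← map_mul]; exact mk_one.mpr (hsq x hx)
    have hi : ∀ x ∈ P, (q x)⁻¹ = q x := fun x hx => inv_eq_of_mul_eq_one_right (h1 x hx)
    refine mk_one.mp ?_
    show q (a * b * a⁻¹ * b⁻¹) = 1
    rw [map_mul, map_mul, map_mul, map_inv, map_inv, hi a ha, hi b hb, mul_assoc,
      ← map_mul]
    exact h1 _ (P.mul_mem ha hb)
  right
  push_neg at hsq
  obtain ⟨s0, hs0, hs02⟩ := hsq
  have hs0A : s0 ∈ A := by
    by_contra h
    exact hs02 (husq s0 hs0 h)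
  obtain ⟨u, hu, huA⟩ : ∃ u ∈ P, u ∉ A := by
    by_contra h
    push_neg at h
    exact hTc (hcen T hT fun s hs => ((hA s).mp (h s hs)).2.symm)
  -- index two
  have hmk : ∀ {a b : K}, a * b ∈ center K → q b = (q a)⁻¹ := fun {a b} h => by
    refine eq_inv_of_mul_eq_one_right ?_
    rw [← map_mul]
    exact mk_one.mpr h
  have hidx : ∀ v ∈ P, v ∉ A → u⁻¹ * v ∈ A := by
    intro v hv hvA
    by_contra hwA
    set w := u⁻¹ * v with hw
    have h1 := hmk (hinv u hu huA s0 hs0A)
    have h2 := hmk (hinv v hv hvA s0 hs0A)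
    have h3 := hmk (hinv w (P.mul_mem (P.inv_mem hu) hv) hwA s0 hs0A)
    have hvw : v = u * w := by rw [hw, mul_inv_cancel_left]
    rw [hvw] at h2
    simp only [map_mul, map_inv] at h1 h2 h3
    apply hs02
    refine mk_one.mp ?_
    show q (s0 * s0) = 1
    have h4 : q u * (q w * q s0 * (q w)⁻¹) * (q u)⁻¹ = (q s0)⁻¹ := by
      rw [← h2]; group
    rw [h3] at h4
    have h5 : q u * (q s0)⁻¹ * (q u)⁻¹ = q s0 := by
      calc q u * (q s0)⁻¹ * (q u)⁻¹ = (q u * q s0 * (q u)⁻¹)⁻¹ := by group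
        _ = q s0 := by rw [h1, inv_inv]
    rw [h5] at h4
    rw [map_mul]
    nth_rewrite 2 [h4]
    rw [mul_inv_cancel]
  -- Thompson transfer
  obtain ⟨g, hgA⟩ : ∃ g : K, g * u * g⁻¹ ∈ A := by
    by_contra hcon
    push_neg at hcon
    have hAq : ∀ x ∈ P, q x ∈ A.map q → x ∈ A := by
      rintro x hx ⟨a, ha, hax⟩
      exact mem_of_mk A S hAP hcA ha (QuotientGroup.eq.mp hax) (two_elt S.isPGroup' hx)
    set S' := S.mapSurjective (QuotientGroup.mk'_surjective (center K)) with hS'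
    have hS'c : (S' : Subgroup (K ⧸ center K)) = P.map q := Sylow.coe_mapSurjective _ _
    have hrel : (A.map q).relIndex (S' : Subgroup (K ⧸ center K)) = 2 := by
      rw [relIndex_eq_two_iff, hS'c]
      refine ⟨q u, ⟨u, hu, rfl⟩, ?_⟩
      rintro _ ⟨b, hb, rfl⟩
      rw [← map_mul]
      by_cases hbA : b ∈ A
      · refine Or.inr ⟨⟨b, hbA, rfl⟩, fun h => huA ?_⟩
        have h' := hAq _ (P.mul_mem hb hu) h
        simpa using A.mul_mem (A.inv_mem hbA) h'
      · refine Or.inl ⟨⟨b * u, ?_, rfl⟩, fun h => hbA (hAq b hb h)⟩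
        have h1 := hidx b hb hbA
        have h2 : b * u = (u * (u⁻¹ * b) * u⁻¹) * (u * u) := by group
        rw [h2]
        exact A.mul_mem (hnorm u hu _ h1) (hsqA u hu)
    have hu1 : q u * q u = 1 := by rw [← map_mul]; exact mk_one.mpr (husq u hu huA)
    obtain ⟨M, hMn, hMi, huM⟩ := Involution.thompson_transfer S' (A.map q)
      (hS'c ▸ Subgroup.map_mono hAP) hrel hu1 (by
        intro x
        obtain ⟨g, rfl⟩ := QuotientGroup.mk'_surjective (center K) x
        rintro ⟨a, ha, hag⟩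
        rw [← map_inv, ← map_mul, ← map_mul] at hag
        exact hcon g (mem_of_mk A S hAP hcA ha (QuotientGroup.eq.mp hag)
          (two_elt_conj (two_elt S.isPGroup' hu))))
    have hM' : (M.comap q).index = 2 := by
      rw [index_comap_of_surjective _ (QuotientGroup.mk'_surjective _), hMi]
    have hle : commutator K ≤ M.comap q := by
      rw [_root_.commutator_def, commutator_le]
      intro a _ b _
      simp only [commutatorElement_def, mul_mem_iff_of_index_two hM', inv_mem_iff]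
      tauto
    refine huM ?_
    exact hle (hK.perfect.symm ▸ mem_top u)
  set T' := g * u * g⁻¹ with hT'
  have huc : u ∉ center K := fun h => huA (hcA u hu h)
  have hT'c : T' ∉ center K := fun h => huc (by
    have : g⁻¹ * T' * g = u := by rw [hT']; group
    rw [← this, mem_center_iff.mp h g⁻¹, inv_mul_cancel_right]
    exact h)
  have hT'2 : T' * T' ∈ center K := by
    have h2 := husq u hu huA
    have : T' * T' = u * u := by
      calc T' * T' = g * (u * u) * g⁻¹ := by rw [hT']; group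
        _ = u * u := by rw [mem_center_iff.mp h2 g, mul_inv_cancel_right]
    rw [this]; exact h2
  have hind : ∀ s ∈ P, s * T' = T' * s ∨ (u⁻¹ * s) * T' = T' * (u⁻¹ * s) := fun s hs => by
    by_cases hsA : s ∈ A
    · exact Or.inl (hAab s hsA T' hgA)
    · exact Or.inr (hAab _ (hidx s hs hsA) T' hgA)
  have hT'S : ∀ s ∈ P, T' * s * T'⁻¹ * s⁻¹ ∈ center K := by
    intro s hs
    refine mk_one.mp ?_
    show q (T' * s * T'⁻¹ * s⁻¹) = 1
    have hi : (q T')⁻¹ = q T' := inv_eq_of_mul_eq_one_right (by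
      rw [← map_mul]; exact mk_one.mpr hT'2)
    by_cases hsA : s ∈ A
    · rw [← hAab s hsA T' hgA, mul_inv_cancel_right, mul_inv_cancel, map_one]
    · have h1 := hmk (hinv s hs hsA T' hgA)
      simp only [map_mul, map_inv] at h1 ⊢
      rw [hi] at h1
      calc q T' * q s * (q T')⁻¹ * (q s)⁻¹
          = q T' * (q s * (q T')⁻¹ * (q s)⁻¹) := by group
        _ = q T' * (q s * q T' * (q s)⁻¹) := by rw [hi]
        _ = q T' * q T' := by rw [h1]
        _ = 1 := by rw [← map_mul]; exact mk_one.mpr hT'2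
  -- unique involution modulo the centre
  set ε := T' * u * T'⁻¹ * u⁻¹ with hε
  have hcomm : ∀ e ∈ A, e * e ∈ center K → e ∉ center K →
      u * e * u⁻¹ * e⁻¹ = ε := by
    intro e he he2 hec
    have hue : u * e * u⁻¹ * e⁻¹ ∈ center K := by
      have h1 := hinv u hu huA e he
      have h2 : u * e * u⁻¹ * e⁻¹ = e⁻¹ * (e * (u * e * u⁻¹)) * e * (e * e)⁻¹ := by group
      rw [h2, mem_center_iff.mp h1 e⁻¹, inv_mul_cancel_right]
      exact mul_mem h1 (inv_mem he2)
    have hconj : T' * (g * e * g⁻¹) * T'⁻¹ * (g * e * g⁻¹)⁻¹ = u * e * u⁻¹ * e⁻¹ := by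
      calc T' * (g * e * g⁻¹) * T'⁻¹ * (g * e * g⁻¹)⁻¹
          = g * (u * e * u⁻¹ * e⁻¹) * g⁻¹ := by rw [hT']; group
        _ = _ := by rw [mem_center_iff.mp hue g, mul_inv_cancel_right]
    rcases comm_two_values S hT'S hu hind (hconj ▸ hue)
        (two_elt_conj (two_elt S.isPGroup' (hAP he))) with h | h
    · exfalso
      rw [hconj, mul_inv_eq_one, mul_inv_eq_iff_eq_mul] at h
      exact hec (hCAu u hu huA e he h.symm)
    · rw [← hconj]; exact h
  have huniq : ∀ e ∈ A, e * e ∈ center K → e ∉ center K → T⁻¹ * e ∈ center K := by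
    intro e he he2 hec
    refine hCAu u hu huA _ (A.mul_mem (A.inv_mem hTA) he) ?_
    have h1 : u * e * u⁻¹ = ε * e := by rw [← hcomm e he he2 hec, inv_mul_cancel_right]
    have h2 : u * T * u⁻¹ = ε * T := by rw [← hcomm T hTA hT2 hTc, inv_mul_cancel_right]
    have h3 : u * (T⁻¹ * e) * u⁻¹ = T⁻¹ * e := by
      calc u * (T⁻¹ * e) * u⁻¹ = (u * T * u⁻¹)⁻¹ * (u * e * u⁻¹) := by group
        _ = _ := by rw [h1, h2]; group
    exact (mul_inv_eq_iff_eq_mul.mp h3).symm
  -- the cyclic part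
  obtain ⟨⟨c, hcmem⟩, hcmax⟩ := Finite.exists_max (fun a : A => orderOf (q (a : K)))
  have hord : ∀ a ∈ A, ∃ i : ℕ, orderOf (q a) = 2 ^ i := by
    intro a ha
    obtain ⟨k, hk⟩ := two_elt S.isPGroup' (hAP ha)
    obtain ⟨i, -, hi⟩ := (Nat.dvd_prime_pow Nat.prime_two).mp
      (orderOf_dvd_of_pow_eq_one (show q a ^ 2 ^ k = 1 by rw [← map_pow, hk, map_one]))
    exact ⟨i, hi⟩
  obtain ⟨m, hm⟩ := hord c hcmem
  have hdvd : ∀ a ∈ A, q a ^ 2 ^ m = 1 := by
    intro a ha
    obtain ⟨i, hi⟩ := hord a ha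
    refine orderOf_dvd_iff_pow_eq_one.mp ?_
    rw [hi]
    refine pow_dvd_pow 2 ?_
    have := hcmax ⟨a, ha⟩
    simp only [hi, hm] at this
    exact (Nat.pow_le_pow_iff_right (by norm_num)).mp this
  have hm2 : 2 ≤ m := by
    by_contra h
    apply hs02
    refine mk_one.mp ?_
    show q (s0 * s0) = 1
    have h1 := hdvd s0 hs0A
    have h2 : m = 0 ∨ m = 1 := by omega
    rcases h2 with rfl | rfl
    · rw [pow_zero, pow_one] at h1
      rw [map_mul, h1, one_mul]
    · rw [pow_one, pow_two, ← map_mul] at h1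
      exact h1
  obtain ⟨m', rfl⟩ : ∃ m', m = m' + 1 := ⟨m - 1, by omega⟩
  have hcsq : c * c ∉ center K := fun h => by
    have h1 : q c ^ 2 = 1 := by rw [pow_two, ← map_mul]; exact mk_one.mpr h
    have := Nat.le_of_dvd (by norm_num) (orderOf_dvd_of_pow_eq_one h1)
    rw [hm] at this
    have : 2 ^ 2 ≤ 2 ^ (m' + 1) := Nat.pow_le_pow_right (by norm_num) hm2
    omega
  set c' := c ^ 2 ^ m' with hc'
  have hc'A : c' ∈ A := A.pow_mem hcmem _
  have hc'c : c' ∉ center K := fun h => by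
    have h1 : q c ^ 2 ^ m' = 1 := by rw [← map_pow]; exact mk_one.mpr h
    have := Nat.le_of_dvd (by positivity) (orderOf_dvd_of_pow_eq_one h1)
    rw [hm] at this
    have : 2 ^ m' < 2 ^ (m' + 1) := Nat.pow_lt_pow_right (by norm_num) (Nat.lt_succ_self _)
    omega
  have hc'2 : c' * c' ∈ center K := by
    refine mk_one.mp ?_
    show q (c' * c') = 1
    rw [hc', ← pow_add, ← two_mul, ← pow_succ', map_pow, ← hm, pow_orderOf_eq_one]
  have hsmall : ∀ e ∈ A, e * e ∈ center K → e ∉ center K → q e = q c' := by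
    intro e he he2 hec
    have h1 : q T = q e := QuotientGroup.eq.mpr (huniq e he he2 hec)
    have h2 : q T = q c' := QuotientGroup.eq.mpr (huniq c' hc'A hc'2 hc'c)
    rw [← h1, h2]
  have hcyc : ∀ k : ℕ, ∀ a ∈ A, q a ^ 2 ^ k = 1 → ∃ i : ℤ, q a = q c ^ i := by
    intro k
    induction k with
    | zero => intro a _ h; exact ⟨0, by simpa using h⟩
    | succ k ih =>
      intro a ha h
      obtain ⟨j, hj⟩ := ih (a * a) (A.mul_mem ha ha) (by
        rw [map_mul, ← pow_two, ← pow_mul, ← pow_succ']; exact h)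
      have h2 : q c ^ (j * (2 ^ m' : ℕ)) = 1 := by
        rw [zpow_mul, ← hj, zpow_natCast, map_mul, ← pow_two, ← pow_mul, ← pow_succ']
        exact hdvd a ha
      obtain ⟨l, hl⟩ : (2 : ℤ) ∣ j := by
        have h3 := orderOf_dvd_iff_zpow_eq_one.mpr h2
        rw [hm, pow_succ'] at h3
        push_cast at h3
        exact (mul_dvd_mul_iff_right (by positivity : (2 : ℤ) ^ m' ≠ 0)).mp h3
      set e := a * (c ^ l)⁻¹ with he'
      have heA : e ∈ A := A.mul_mem ha (A.inv_mem (A.zpow_mem hcmem _))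
      have hqe : q e = q a * (q c ^ l)⁻¹ := by rw [he', map_mul, map_inv, map_zpow]
      have he2 : e * e ∈ center K := by
        refine mk_one.mp ?_
        show q (e * e) = 1
        have hce : Commute (q a) (q c ^ l)⁻¹ :=
          (Commute.zpow_right (show q a * q c = q c * q a by
            rw [← map_mul, ← map_mul, hAab a ha c hcmem]) l).inv_right
        rw [map_mul, hqe, hce.symm.mul_mul_mul_comm, ← map_mul q a a, hj, hl, ← mul_inv_rev,
          ← zpow_add, ← two_mul, mul_inv_cancel]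
      by_cases hec : e ∈ center K
      · refine ⟨l, ?_⟩
        have : q e = 1 := mk_one.mpr hec
        rw [hqe, mul_inv_eq_one] at this
        exact this
      · refine ⟨(2 ^ m' : ℕ) + l, ?_⟩
        have := hsmall e heA he2 hec
        rw [hqe, mul_inv_eq_iff_eq_mul, hc', map_pow] at this
        rw [this, zpow_add, zpow_natCast]
  exact ⟨T, c, u,
    { T_mem := hT
      T_not := hTc
      T_sq := hT2
      T_central := hTS
      c_mem := hAP hcmem
      c_sq := hcsq
      comm_T := ((hA c).mp hcmem).2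
      abelian := fun a ha b hb h1 h2 => hAab a ((hA a).mpr ⟨ha, h1⟩) b ((hA b).mpr ⟨hb, h2⟩)
      cyclic := fun a ha h => by
        obtain ⟨i, hi⟩ := hcyc (m' + 1) a ((hA a).mpr ⟨ha, h⟩)
          (hdvd a ((hA a).mpr ⟨ha, h⟩))
        refine ⟨i, mk_one.mp ?_⟩
        show q ((c ^ i)⁻¹ * a) = 1
        rw [map_mul, map_inv, map_zpow, hi, inv_mul_cancel]
      u_mem := hu
      u_not := fun h => huA ((hA u).mpr ⟨hu, h⟩)
      u_sq := husq u hu huA
      cosets := fun s hs => by
        by_cases hsA : s ∈ A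
        · exact Or.inl ((hA s).mp hsA).2
        · exact Or.inr ((hA _).mp (hidx s hs hsA)).2
      inverts := fun a ha h => hinv u hu huA a ((hA a).mpr ⟨ha, h⟩) }⟩

end Shape

theorem shape : ShapeStmt.{u} := fun _ _ _ hK S hS =>
  ⟨fun _ hz h => Shape.center_sylow hK S hS hz h, Shape.shape' hK S hS⟩

end Cfsg.Agent.MinNonCA27
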