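import Cfsg.Agent.MinNonCA27.Defs
import Cfsg.Agent.SylowNum.Swaps
import Cfsg.Agent.PF14.Compose
import Cfsg.Agent.Lib.PGroup.Basic

/-!
# S4369: a minimal non-CA group modulo its centre is simple
-/

set_option autoImplicit false
set_option linter.unusedSectionVars false

namespace Cfsg.Agent.MinNonCA27

open Subgroup

universe u

namespace Simple17

variable {K : Type u} [Group K] [Finite K]

theorem mk_eq_iff_comm (a b : K) :
    (QuotientGroup.mk' (center K) a * QuotientGroup.mk' (center K) b =
      QuotientGroup.mk' (center K) b * QuotientGroup.mk' (center K) a) ↔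
      a * b * a⁻¹ * b⁻¹ ∈ center K := by
  constructor
  · intro h
    refine (QuotientGroup.eq_one_iff _).mp ?_
    show QuotientGroup.mk' (center K) (a * b * a⁻¹ * b⁻¹) = 1
    simp only [map_mul, map_inv]
    rw [h]
    group
  · intro h
    have h1 : QuotientGroup.mk' (center K) (a * b * a⁻¹ * b⁻¹) = 1 :=
      (QuotientGroup.eq_one_iff _).mpr h
    simp only [map_mul, map_inv] at h1
    calc QuotientGroup.mk' (center K) a * QuotientGroup.mk' (center K) b
        = (QuotientGroup.mk' (center K) a * QuotientGroup.mk' (center K) b *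
            (QuotientGroup.mk' (center K) a)⁻¹ * (QuotientGroup.mk' (center K) b)⁻¹) *
          (QuotientGroup.mk' (center K) b * QuotientGroup.mk' (center K) a) := by group
      _ = _ := by rw [h1, one_mul]

/-- In a dihedral quotient a family of pairwise commuting elements of square one has at most four
elements. -/
theorem card_le_four {S : Subgroup K} {T c u : K} (d : Dih S T c u) (V : Set (K ⧸ center K))
    (hV : ∀ x ∈ V, ∃ a ∈ S, QuotientGroup.mk' (center K) a = x)
    (h2 : ∀ x ∈ V, x * x = 1) (hc : ∀ x ∈ V, ∀ y ∈ V, x * y = y * x) :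
    Nat.card V ≤ 4 := by
  classical
  set π := QuotientGroup.mk' (center K)
  set m : K ⧸ center K := π c ^ ((orderOf (π c)) / 2) with hm
  have key : ∀ a ∈ S, a * T = T * a → π a * π a = 1 → π a = 1 ∨ π a = m := by
    intro a ha haT ha2
    obtain ⟨i, hi⟩ := d.cyclic a ha haT
    have hai : π a = π c ^ i := by
      have h1 : π ((c ^ i)⁻¹ * a) = 1 := (QuotientGroup.eq_one_iff _).mpr hi
      rw [map_mul, map_inv, map_zpow, inv_mul_eq_one] at h1
      exact h1.symm
    have hdvd : (orderOf (π c) : ℤ) ∣ 2 * i := by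
      rw [orderOf_dvd_iff_zpow_eq_one, two_mul, zpow_add, ← hai]
      exact ha2
    obtain ⟨k, hk⟩ := hdvd
    rcases Int.even_or_odd k with ⟨j, hj⟩ | hodd
    · left
      rw [hai, ← orderOf_dvd_iff_zpow_eq_one]
      refine ⟨j, ?_⟩
      subst hj
      linarith
    · right
      have hn : Even (orderOf (π c)) := by
        rcases Nat.even_or_odd (orderOf (π c)) with h | h
        · exact h
        · exfalso
          have h' : Odd ((orderOf (π c) : ℤ) * k) := ((Int.odd_coe_nat _).mpr h).mul hodd
          rw [← hk] at h'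
          exact (Int.not_even_iff_odd.mpr h') (even_two_mul i)
      obtain ⟨e, he⟩ := hn
      have he2 : orderOf (π c) / 2 = e := by omega
      have hi' : i = (e : ℤ) * k := by rw [he] at hk; push_cast at hk; linarith
      obtain ⟨j, hj⟩ := hodd
      have hm2 : m ^ (2 : ℤ) = 1 := by
        have : m ^ (2 : ℕ) = 1 := by
          rw [hm, ← pow_mul, he2, mul_two, ← he, pow_orderOf_eq_one]
        exact_mod_cast this
      calc π a = m ^ k := by rw [hai, hi', hm, he2, zpow_mul, zpow_natCast]
        _ = m := by rw [hj, zpow_add, zpow_mul, hm2, one_zpow, one_mul, zpow_one]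
  by_cases hA : ∀ x ∈ V, ∃ a ∈ S, π a = x ∧ a * T = T * a
  · have hsub : V ⊆ {1, m} := by
      intro x hx
      obtain ⟨a, ha, rfl, haT⟩ := hA x hx
      rcases key a ha haT (h2 _ hx) with h | h
      · exact Or.inl h
      · exact Or.inr h
    calc Nat.card V = V.ncard := Nat.card_coe_set_eq V
      _ ≤ ({1, m} : Set (K ⧸ center K)).ncard := Set.ncard_le_ncard hsub
      _ ≤ 2 := (Set.ncard_insert_le _ _).trans (by rw [Set.ncard_singleton])
      _ ≤ 4 := by norm_num
  · push Not at hA
    obtain ⟨x₀, hx₀, hbad⟩ := hA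
    obtain ⟨b, hb, hbx⟩ := hV x₀ hx₀
    have hbT : b * T ≠ T * b := hbad b hb hbx
    have hb' := (d.cosets b hb).resolve_left hbT
    have hsub : V ⊆ {1, m, x₀, x₀ * m} := by
      intro y hy
      obtain ⟨a, ha, rfl⟩ := hV y hy
      rcases d.cosets a ha with haT | ha'
      · rcases key a ha haT (h2 _ hy) with h | h
        · exact Or.inl h
        · exact Or.inr (Or.inl h)
      · have hab : Commute ((u⁻¹ * b)⁻¹ * (u⁻¹ * a)) T :=
          (Commute.inv_left hb').mul_left ha'
        have e : (u⁻¹ * b)⁻¹ * (u⁻¹ * a) = b⁻¹ * a := by group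
        rw [e] at hab
        have hsq : π (b⁻¹ * a) * π (b⁻¹ * a) = 1 := by
          rw [map_mul, map_inv, hbx]
          have i0 : x₀⁻¹ = x₀ := inv_eq_of_mul_eq_one_right (h2 _ hx₀)
          rw [i0]
          calc x₀ * π a * (x₀ * π a) = x₀ * (π a * x₀) * π a := by group
            _ = x₀ * (x₀ * π a) * π a := by rw [hc _ hy _ hx₀]
            _ = (x₀ * x₀) * (π a * π a) := by group
            _ = 1 := by rw [h2 _ hx₀, h2 _ hy, one_mul]
        have hy' : π a = x₀ * π (b⁻¹ * a) := by rw [map_mul, map_inv, hbx, mul_inv_cancel_left]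
        rcases key _ (mul_mem (inv_mem hb) ha) hab.eq hsq with h | h
        · refine Or.inr (Or.inr (Or.inl ?_))
          rw [hy', h, mul_one]
        · refine Or.inr (Or.inr (Or.inr ?_))
          show π a = x₀ * m
          rw [hy', h]
    calc Nat.card V = V.ncard := Nat.card_coe_set_eq V
      _ ≤ ({1, m, x₀, x₀ * m} : Set (K ⧸ center K)).ncard := Set.ncard_le_ncard hsub
      _ ≤ 4 := by
        refine (Set.ncard_insert_le _ _).trans ?_
        refine (Nat.add_le_add_right (Set.ncard_insert_le _ _) 1).trans ?_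
        refine (Nat.add_le_add_right (Nat.add_le_add_right (Set.ncard_insert_le _ _) 1) 1).trans ?_
        rw [Set.ncard_singleton]

end Simple17

open Simple17 in
theorem simple (hShape : ShapeStmt.{u}) (hCent : CentStmt.{u}) : SimpleStmt.{u} := by
  intro K _ _ hK
  classical
  haveI := Fact.mk Nat.prime_two
  haveI := hK.nontrivial
  set π := QuotientGroup.mk' (center K) with hπ
  have hπs : Function.Surjective π := QuotientGroup.mk'_surjective _
  haveI : Nontrivial (K ⧸ center K) := by
    rw [QuotientGroup.nontrivial_iff]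
    intro htop
    have h1 : commutator K = ⊥ := by
      rw [commutator_def, commutator_eq_bot_iff_le_centralizer]
      intro a _
      rw [mem_centralizer_iff]
      intro b _
      exact mem_center_iff.mp (htop ▸ mem_top a) b
    exact top_ne_bot (hK.perfect.symm.trans h1)
  refine ⟨fun Nb hNb => ?_⟩
  by_contra hcon
  push Not at hcon
  obtain ⟨hbot, htop⟩ := hcon
  set N : Subgroup K := Nb.comap π with hN
  haveI hNn : N.Normal := hNb.comap π
  have hZN : center K ≤ N := fun z hz => by
    rw [hN, mem_comap, hπ, QuotientGroup.mk'_apply, (QuotientGroup.eq_one_iff z).mpr hz]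
    exact one_mem _
  have hNZ : ¬ N ≤ center K := fun h => hbot (by
    rw [eq_bot_iff]
    intro x hx
    obtain ⟨a, rfl⟩ := hπs x
    exact mem_bot.mpr ((QuotientGroup.eq_one_iff a).mpr (h (by rwa [hN, mem_comap]))))
  have hNtop : N ≠ ⊤ := fun h => htop (eq_top_iff.mpr fun x _ => by
    obtain ⟨a, rfl⟩ := hπs x
    have : a ∈ N := h ▸ mem_top a
    rwa [hN, mem_comap] at this)
  have hNns : ¬ Group.IsSolvable N := fun h => hNZ (hK.rad N hNn h)
  -- a Sylow 2-subgroup of `N` inside one of `K`
  obtain ⟨P⟩ : Nonempty (Sylow 2 N) := Sylow.nonempty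
  obtain ⟨S, hS⟩ := (P.2.map N.subtype).exists_le_sylow
  set P' : Subgroup K := (P : Subgroup N).map N.subtype with hP'
  have hP'eq : (S : Subgroup K) ⊓ N = P' := by
    refine le_antisymm ?_ (le_inf hS (map_subtype_le _))
    have h2 : IsPGroup 2 (((S : Subgroup K) ⊓ N).subgroupOf N) :=
      (S.2.to_le inf_le_left).comap_subtype
    have h3 : ((S : Subgroup K) ⊓ N).subgroupOf N = (P : Subgroup N) := by
      refine P.3 h2 fun x hx => ?_
      exact mem_subgroupOf.mpr ⟨hS (mem_map_of_mem _ hx), x.2⟩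
    intro x hx
    exact ⟨⟨x, hx.2⟩, h3 ▸ mem_subgroupOf.mpr (by simpa using hx), rfl⟩
  set H : Subgroup K := normalizer (P' : Set K) with hH
  have hSH : (S : Subgroup K) ≤ H := by
    intro s hs
    rw [hH, ← hP'eq, mem_normalizer_iff]
    intro x
    refine ⟨fun hx => ⟨(S : Subgroup K).mul_mem ((S : Subgroup K).mul_mem hs hx.1) ((S : Subgroup K).inv_mem hs), hNn.conj_mem x hx.2 s⟩,
      fun hx => ?_⟩
    have e : x = s⁻¹ * (s * x * s⁻¹) * s⁻¹⁻¹ := by group
    rw [e]
    exact ⟨(S : Subgroup K).mul_mem ((S : Subgroup K).mul_mem ((S : Subgroup K).inv_mem hs) hx.1) ((S : Subgroup K).inv_mem ((S : Subgroup K).inv_mem hs)), hNn.conj_mem _ hx.2 _⟩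
  -- it is enough to show that `H` is solvable
  suffices hHs : Group.IsSolvable H by
    have hsurj : Function.Surjective ((QuotientGroup.mk' N).comp H.subtype) := by
      intro y
      obtain ⟨g, rfl⟩ := QuotientGroup.mk'_surjective N y
      have hg : g ∈ H ⊔ N := by
        rw [hH, hP', Sylow.normalizer_sup_eq_top P]; exact mem_top g
      rw [← SetLike.mem_coe, mul_normal H N] at hg
      obtain ⟨a, ha, n, hn, rfl⟩ := hg
      refine ⟨⟨a, ha⟩, ?_⟩
      rw [MonoidHom.comp_apply, coe_subtype, map_mul]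
      rw [show QuotientGroup.mk' N n = 1 from (QuotientGroup.eq_one_iff n).mpr hn, mul_one]
    haveI : Group.IsSolvable (K ⧸ N) := Group.isSolvable_of_surjective hsurj
    haveI : Nontrivial (K ⧸ N) := QuotientGroup.nontrivial_iff.mpr hNtop
    have h1 := Group.IsSolvable.commutator_lt_top_of_nontrivial (K ⧸ N)
    refine h1.ne ?_
    rw [_root_.commutator_def, ← map_top_of_surjective _ (QuotientGroup.mk'_surjective N),
      ← map_commutator, ← _root_.commutator_def, hK.perfect]
  -- an involution modulo the centre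
  set Pb : Subgroup (K ⧸ center K) := P'.map π with hPb
  set Sb : Subgroup (K ⧸ center K) := (S : Subgroup K).map π with hSb
  have hPne : Pb ≠ ⊥ := by
    intro h
    have hPZ : P' ≤ center K := fun a ha => (QuotientGroup.eq_one_iff a).mp
      (mem_bot.mp (h ▸ mem_map_of_mem π ha))
    apply hNns
    haveI hn : (P : Subgroup N).Normal := by
      refine ⟨fun x hx g => ?_⟩
      have hc := mem_center_iff.mp (hPZ (mem_map_of_mem N.subtype hx)) (g : K)
      have : g * x * g⁻¹ = x := by
        rw [mul_inv_eq_iff_eq_mul]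
        exact Subtype.ext hc
      rwa [this]
    haveI : IsMulCommutative (P : Subgroup N) := ⟨⟨fun a b => Subtype.ext (Subtype.ext
      (mem_center_iff.mp (hPZ (mem_map_of_mem N.subtype b.2)) ((a : N) : K)))⟩⟩
    have hodd : Odd (Nat.card (N ⧸ (P : Subgroup N))) := by
      rw [← Subgroup.index_eq_card, Nat.odd_iff, ← Nat.two_dvd_ne_zero]
      exact P.not_dvd_index
    haveI := PF14.feitThompson _ hodd
    haveI : Group.IsSolvable (P : Subgroup N) := Group.isSolvable_of_comm fun a b => mul_comm' a b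
    exact (Group.isSolvable_iff_subgroup_quotient (P : Subgroup N)).mpr ⟨inferInstance, inferInstance⟩
  have hSbp : IsPGroup 2 Sb := S.2.map π
  have hPS : Pb ≤ Sb := map_mono hS
  have hSbn : Sb ≤ normalizer (Pb : Set (K ⧸ center K)) := by
    intro y hy
    obtain ⟨s, hs, rfl⟩ := hy
    exact le_normalizer_map π (mem_map_of_mem π (hSH hs))
  obtain ⟨tb, htb, htb1, htb2, htbc⟩ : ∃ t ∈ Pb, t ≠ 1 ∧ t * t = 1 ∧ ∀ s ∈ Sb, t * s = s * t := by
    haveI : (Pb.subgroupOf Sb).Normal := normal_subgroupOf_of_le_normalizer hSbn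
    haveI : Nontrivial (Pb.subgroupOf Sb) := by
      rw [nontrivial_iff_ne_bot, Ne, subgroupOf_eq_bot, disjoint_iff, inf_of_le_left hPS]
      exact hPne
    haveI : Finite Sb := inferInstance
    obtain ⟨w, hw, hwo⟩ : ∃ w : Sb, w ∈ Pb.subgroupOf Sb ⊓ center Sb ∧ orderOf w = 2 := by
      have hne : Pb.subgroupOf Sb ⊓ center Sb ≠ ⊥ :=
        PGroup.inf_center_ne_bot hSbp ((nontrivial_iff_ne_bot _).mp inferInstance)
      haveI : Nontrivial ↥(Pb.subgroupOf Sb ⊓ center Sb) := (nontrivial_iff_ne_bot _).mpr hne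
      obtain ⟨n, hn, hcard⟩ := (hSbp.to_subgroup (Pb.subgroupOf Sb ⊓ center Sb)).nontrivial_iff_card.mp inferInstance
      obtain ⟨w, hw⟩ := exists_prime_orderOf_dvd_card' (G := ↥(Pb.subgroupOf Sb ⊓ center Sb)) 2
        (hcard ▸ dvd_pow_self 2 hn.ne')
      exact ⟨w, w.2, by rw [← hw, orderOf_coe]⟩
    refine ⟨w, mem_subgroupOf.mp hw.1, ?_, ?_, fun s hs => ?_⟩
    · intro h
      rw [show w = 1 from Subtype.ext h, orderOf_one] at hwo
      omega
    · have : w * w = 1 := by rw [← pow_two, ← hwo, pow_orderOf_eq_one]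
      exact congrArg Subtype.val this
    · exact (congrArg Subtype.val (mem_center_iff.mp hw.2 ⟨s, hs⟩)).symm
  obtain ⟨t, ht, rfl⟩ := htb
  have htS : t ∈ (S : Subgroup K) := hS ht
  haveI hpre : Group.IsSolvable (preC t) := by
    refine hCent K hK S t htS (fun h => htb1 ((QuotientGroup.eq_one_iff t).mpr h)) ?_ ?_
    · exact (QuotientGroup.eq_one_iff _).mp (by
        show π (t * t) = 1
        rw [map_mul, htb2])
    · exact fun s hs => (mk_eq_iff_comm t s).mp (htbc _ (mem_map_of_mem π hs))
  -- the image of `H` acts on the central involutions of the image of `P'`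
  set Hb : Subgroup (K ⧸ center K) := H.map π with hHb
  suffices hHbs : Group.IsSolvable Hb by
    haveI hcs : Group.IsSolvable (center H) := Group.isSolvable_of_comm fun a b =>
      Subtype.ext (mem_center_iff.mp b.2 (a : H))
    refine Group.isSolvable_of_ker_le_range (center H).subtype (π.subgroupMap H) fun x hx => ?_
    refine ⟨⟨x, mem_center_iff.mpr fun y => Subtype.ext ?_⟩, rfl⟩
    have hxZ : (x : K) ∈ center K := by
      have h1 := congrArg Subtype.val (MonoidHom.mem_ker.mp hx)
      exact (QuotientGroup.eq_one_iff _).mp h1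
    exact mem_center_iff.mp hxZ y
  have hHbn : Hb ≤ normalizer (Pb : Set (K ⧸ center K)) := le_normalizer_map π
  set V : Set (K ⧸ center K) := {x | x ∈ Pb ∧ x * x = 1 ∧ ∀ y ∈ Pb, x * y = y * x} with hV
  have htV : π t ∈ V := ⟨mem_map_of_mem π ht, htb2, fun y hy => htbc y (hPS hy)⟩
  have hconj : ∀ h ∈ Hb, ∀ x ∈ V, h * x * h⁻¹ ∈ V := by
    rintro h hh x ⟨hx1, hx2, hx3⟩
    have hn := mem_normalizer_iff.mp (hHbn hh)
    refine ⟨(hn x).mp hx1, ?_, fun y hy => ?_⟩
    · calc h * x * h⁻¹ * (h * x * h⁻¹) = h * (x * x) * h⁻¹ := by group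
        _ = 1 := by rw [hx2]; group
    · obtain ⟨y', hy', rfl⟩ : ∃ y' ∈ Pb, h * y' * h⁻¹ = y :=
        ⟨h⁻¹ * y * h, (hn _).mpr (by simpa [mul_assoc] using hy), by group⟩
      calc h * x * h⁻¹ * (h * y' * h⁻¹) = h * (x * y') * h⁻¹ := by group
        _ = h * (y' * x) * h⁻¹ := by rw [hx3 y' hy']
        _ = _ := by group
  let act : Hb → Equiv.Perm V := fun h =>
    { toFun := fun x => ⟨h * x * (h : K ⧸ center K)⁻¹, hconj h h.2 x x.2⟩
      invFun := fun x => ⟨(h : K ⧸ center K)⁻¹ * x * h, by
        simpa using hconj _ (inv_mem h.2) x x.2⟩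
      left_inv := fun x => Subtype.ext (by group)
      right_inv := fun x => Subtype.ext (by group) }
  let ψ : Hb →* Equiv.Perm V :=
    { toFun := act
      map_one' := Equiv.ext fun x => Subtype.ext (by simp [act])
      map_mul' := fun a b => Equiv.ext fun x => Subtype.ext (by simp [act, mul_assoc]) }
  have hker : ∀ h : Hb, h ∈ ψ.ker ↔
      ∀ x ∈ V, (h : K ⧸ center K) * x * (h : K ⧸ center K)⁻¹ = x := by
    intro h
    rw [MonoidHom.mem_ker]
    constructor
    · intro he x hx
      exact congrArg Subtype.val (Equiv.ext_iff.mp he ⟨x, hx⟩)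
    · intro he
      exact Equiv.ext fun x => Subtype.ext (he x x.2)
  haveI hkers : Group.IsSolvable ψ.ker := by
    let C : Subgroup (K ⧸ center K) := centralizer {π t}
    haveI : Group.IsSolvable C := by
      have hmap : (preC t).map π = C := map_comap_eq_self_of_surjective hπs _
      haveI := Group.isSolvable_of_surjective (π.subgroupMap_surjective (preC t))
      exact hmap ▸ this
    have hle : ∀ h : ψ.ker, ((h : Hb) : K ⧸ center K) ∈ C := fun h =>
      mem_centralizer_singleton_iff.mpr (mul_inv_eq_iff_eq_mul.mp ((hker h.1).mp h.2 _ htV))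
    exact Group.isSolvable_of_isSolvable_injective
      (f := (Hb.subtype.comp ψ.ker.subtype).codRestrict C hle)
      (fun a b hab => Subtype.ext (Subtype.ext (congrArg (Subtype.val : C → _) hab)))
  suffices hran : Group.IsSolvable ψ.range by
    exact Group.isSolvable_of_ker_le_range ψ.ker.subtype ψ.rangeRestrict
      (by rw [MonoidHom.ker_rangeRestrict, Subgroup.range_subtype])
  by_cases hab : ∀ x ∈ Sb, ∀ y ∈ Sb, x * y = y * x
  · -- the kernel contains a Sylow 2-subgroup
    have hSbH : Sb ≤ Hb := map_mono hSH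
    have hsub : Sb.subgroupOf Hb ≤ ψ.ker := by
      intro s hs
      rw [hker]
      intro x hx
      rw [mul_inv_eq_iff_eq_mul]
      exact hab _ (mem_subgroupOf.mp hs) _ (hPS hx.1)
    have hdvd : Nat.card ψ.range ∣ Sb.index := by
      rw [← Subgroup.index_ker ψ]
      exact (Subgroup.index_dvd_of_le hsub).trans
        (by rw [← Subgroup.relIndex]; exact relIndex_dvd_index_of_le hSbH)
    refine PF14.feitThompson _ ((Odd.of_dvd_nat ?_) hdvd)
    rw [Nat.odd_iff, ← Nat.two_dvd_ne_zero]
    intro h2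
    exact S.not_dvd_index (h2.trans (index_map_dvd _ hπs))
  · have hna : ¬ IsMulCommutative (S : Subgroup K) := by
      intro hc
      apply hab
      rintro _ ⟨a, ha, rfl⟩ _ ⟨b, hb, rfl⟩
      rw [← map_mul, ← map_mul]
      exact congrArg π (congrArg Subtype.val (hc.is_comm.comm ⟨a, ha⟩ ⟨b, hb⟩))
    rcases (hShape K hK S hna).2 with hel | ⟨T, c, u, d⟩
    · exact absurd (fun x hx y hy => by
        obtain ⟨a, ha, rfl⟩ := hx
        obtain ⟨b, hb, rfl⟩ := hy
        exact (mk_eq_iff_comm a b).mpr (hel a ha b hb).1) hab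
    · have hV4 : Nat.card V ≤ 4 := card_le_four d V (fun x hx => hPS hx.1) (fun x hx => hx.2.1)
        (fun x hx y hy => hx.2.2 y hy.1)
      haveI := SylowNum.isSolvable_perm_of_card_le_four hV4
      infer_instance

end Cfsg.Agent.MinNonCA27
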